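import Cfsg.Agent.Comp.Pres
import Cfsg.Agent.Comp.ON.Rels
import Cfsg.Agent.Comp.ON.E1K0
import Cfsg.Agent.Comp.ON.E1K1
import Cfsg.Agent.Comp.ON.E1K2
import Cfsg.Agent.Comp.ON.E1K3
import Cfsg.Agent.Comp.ON.E1K4
import Cfsg.Agent.Comp.ON.E1K5
import Cfsg.Agent.Comp.ON.E1K6

set_option autoImplicit false
set_option maxRecDepth 1000000
set_option maxHeartbeats 0
set_option Elab.async false

namespace CF.Comp.ON

theorem e1_all : Cov e1_F 2552 9 0 := by
  have h := Cov.zero e1_F 2552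
  have h := h.blk (b := 1876) e1_k0_0 rfl
  have h := h.blk (b := 2263) e1_k0_1876 rfl
  have h := h.blk (b := 2552) e1_k0_2263 rfl
  have h := h.next (y := 1) rfl rfl
  have h := h.blk (b := 480) e1_k1_0 rfl
  have h := h.blk (b := 954) e1_k1_480 rfl
  have h := h.blk (b := 1383) e1_k1_954 rfl
  have h := h.blk (b := 1791) e1_k1_1383 rfl
  have h := h.blk (b := 2485) e1_k1_1791 rfl
  have h := h.blk (b := 2552) e1_k1_2485 rfl
  have h := h.next (y := 2) rfl rfl
  have h := h.blk (b := 486) e1_k2_0 rfl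
  have h := h.blk (b := 954) e1_k2_486 rfl
  have h := h.blk (b := 1383) e1_k2_954 rfl
  have h := h.blk (b := 1798) e1_k2_1383 rfl
  have h := h.blk (b := 2488) e1_k2_1798 rfl
  have h := h.blk (b := 2552) e1_k2_2488 rfl
  have h := h.next (y := 3) rfl rfl
  have h := h.blk (b := 507) e1_k3_0 rfl
  have h := h.blk (b := 1001) e1_k3_507 rfl
  have h := h.blk (b := 1476) e1_k3_1001 rfl
  have h := h.blk (b := 1960) e1_k3_1476 rfl
  have h := h.blk (b := 2552) e1_k3_1960 rfl
  have h := h.next (y := 4) rfl rfl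
  have h := h.blk (b := 537) e1_k4_0 rfl
  have h := h.blk (b := 1049) e1_k4_537 rfl
  have h := h.blk (b := 1527) e1_k4_1049 rfl
  have h := h.blk (b := 2057) e1_k4_1527 rfl
  have h := h.blk (b := 2552) e1_k4_2057 rfl
  have h := h.next (y := 5) rfl rfl
  have h := h.blk (b := 504) e1_k5_0 rfl
  have h := h.blk (b := 988) e1_k5_504 rfl
  have h := h.blk (b := 1430) e1_k5_988 rfl
  have h := h.blk (b := 1853) e1_k5_1430 rfl
  have h := h.blk (b := 2552) e1_k5_1853 rfl
  have h := h.next (y := 6) rfl rfl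
  have h := h.blk (b := 555) e1_k6_0 rfl
  have h := h.blk (b := 1063) e1_k6_555 rfl
  have h := h.blk (b := 1516) e1_k6_1063 rfl
  have h := h.blk (b := 1974) e1_k6_1516 rfl
  have h := h.blk (b := 2552) e1_k6_1974 rfl
  have h := h.next (y := 7) rfl rfl
  have h := h.blk (b := 642) e1_k7_0 rfl
  have h := h.blk (b := 1182) e1_k7_642 rfl
  have h := h.blk (b := 1679) e1_k7_1182 rfl
  have h := h.blk (b := 2385) e1_k7_1679 rfl
  have h := h.blk (b := 2552) e1_k7_2385 rfl
  have h := h.next (y := 8) rfl rfl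
  have h := h.blk (b := 548) e1_k8_0 rfl
  have h := h.blk (b := 1060) e1_k8_548 rfl
  have h := h.blk (b := 1546) e1_k8_1060 rfl
  have h := h.blk (b := 2071) e1_k8_1546 rfl
  have h := h.blk (b := 2552) e1_k8_2071 rfl
  have h := h.next (y := 9) rfl rfl
  exact h

theorem e1 : Enum rels H1 (gensW 7) 122760 :=
  ⟨e1_cols, e1_ch, e1_L, e1_H, e1_pb.1, e1_e.get, [(nat_lit 0), (nat_lit 1), (nat_lit 2), (nat_lit 3), (nat_lit 5), (nat_lit 7), (nat_lit 9), (nat_lit 11), (nat_lit 13)], (nat_lit 126), (nat_lit 7), e1_rots, e1_hcs,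
    (nat_lit 122761), (nat_lit 9), (nat_lit 262144), (nat_lit 1024), (nat_lit 268435456), (nat_lit 16777215), (nat_lit 8), (nat_lit 255), (nat_lit 39), (nat_lit 0x7fffffffff), (nat_lit 638), (nat_lit 2552),
    fun _ _ => rfl, fun _ => rfl, fun _ _ => rfl, by decide +kernel, e1_all.1⟩

end CF.Comp.ON
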