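import Cfsg.Agent.Comp.ON.NA0

set_option autoImplicit false
set_option maxRecDepth 1000000
set_option maxHeartbeats 0
set_option Elab.async false

namespace CF.Comp.ON

noncomputable def N_0 : Net := (Net.cons (nat_lit 1) N_0_0 (Net.cons (nat_lit 2) N_0_1 (Net.cons (nat_lit 4) N_0_2 (Net.cons (nat_lit 8) N_0_3 (Net.cons (nat_lit 16) N_0_4 (Net.cons (nat_lit 32) N_0_5 (Net.cons (nat_lit 64) N_0_6 (Net.cons (nat_lit 128) N_0_7 (Net.cons (nat_lit 256) N_0_8 (Net.cons (nat_lit 512) N_0_9 (Net.cons (nat_lit 1024) N_0_10 (Net.cons (nat_lit 2048) N_0_11 (Net.cons (nat_lit 4096) N_0_12 (Net.cons (nat_lit 8192) N_0_13 (Net.cons (nat_lit 16384) N_0_14 (Net.cons (nat_lit 32768) N_0_15 (Net.cons (nat_lit 65536) N_0_16 (Net.cons (nat_lit 32768) N_0_17 (Net.cons (nat_lit 16384) N_0_18 (Net.cons (nat_lit 8192) N_0_19 (Net.cons (nat_lit 4096) N_0_20 (Net.cons (nat_lit 2048)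 N_0_21 (Net.cons (nat_lit 1024) N_0_22 (Net.cons (nat_lit 512) N_0_23 (Net.cons (nat_lit 256) N_0_24 (Net.cons (nat_lit 128) N_0_25 (Net.cons (nat_lit 64) N_0_26 (Net.cons (nat_lit 32) N_0_27 (Net.cons (nat_lit 16) N_0_28 (Net.cons (nat_lit 8) N_0_29 (Net.cons (nat_lit 4) N_0_30 (Net.cons (nat_lit 2) N_0_31 (Net.cons (nat_lit 1) N_0_32 Net.nil)))))))))))))))))))))))))))))))))
noncomputable def N_1 : Net := (Net.cons (nat_lit 1) N_1_0 (Net.cons (nat_lit 2) N_1_1 (Net.cons (nat_lit 4) N_1_2 (Net.cons (nat_lit 8) N_1_3 (Net.cons (nat_lit 16) N_1_4 (Net.cons (nat_lit 32) N_1_5 (Net.cons (nat_lit 64) N_1_6 (Net.cons (nat_lit 128) N_1_7 (Net.cons (nat_lit 256) N_1_8 (Net.cons (nat_lit 512) N_1_9 (Net.cons (nat_lit 1024) N_1_10 (Net.cons (nat_lit 2048) N_1_11 (Net.cons (nat_lit 4096) N_1_12 (Net.cons (nat_lit 8192) N_1_13 (Net.cons (nat_lit 16384) N_1_14 (Net.cons (nat_lit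 32768) N_1_15 (Net.cons (nat_lit 65536) N_1_16 (Net.cons (nat_lit 32768) N_1_17 (Net.cons (nat_lit 16384) N_1_18 (Net.cons (nat_lit 8192) N_1_19 (Net.cons (nat_lit 4096) N_1_20 (Net.cons (nat_lit 2048) N_1_21 (Net.cons (nat_lit 1024) N_1_22 (Net.cons (nat_lit 512) N_1_23 (Net.cons (nat_lit 256) N_1_24 (Net.cons (nat_lit 128) N_1_25 (Net.cons (nat_lit 64) N_1_26 (Net.cons (nat_lit 32) N_1_27 (Net.cons (nat_lit 16) N_1_28 (Net.cons (nat_lit 8) N_1_29 (Net.cons (nat_lit 4) N_1_30 (Net.cons (nat_lit 2) N_1_31 (Net.cons (nat_lit 1) N_1_32 Net.nil)))))))))))))))))))))))))))))))))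
noncomputable def N_2 : Net := (Net.cons (nat_lit 1) N_2_0 (Net.cons (nat_lit 2) N_2_1 (Net.cons (nat_lit 4) N_2_2 (Net.cons (nat_lit 8) N_2_3 (Net.cons (nat_lit 16) N_2_4 (Net.cons (nat_lit 32) N_2_5 (Net.cons (nat_lit 64) N_2_6 (Net.cons (nat_lit 128) N_2_7 (Net.cons (nat_lit 256) N_2_8 (Net.cons (nat_lit 512) N_2_9 (Net.cons (nat_lit 1024) N_2_10 (Net.cons (nat_lit 2048) N_2_11 (Net.cons (nat_lit 4096) N_2_12 (Net.cons (nat_lit 8192) N_2_13 (Net.cons (nat_lit 16384) N_2_14 (Net.cons (nat_lit 32768) N_2_15 (Net.cons (nat_lit 65536) N_2_16 (Net.cons (nat_lit 32768) N_2_17 (Net.cons (nat_lit 16384) N_2_18 (Net.cons (nat_lit 8192) N_2_19 (Net.cons (nat_lit 4096) N_2_20 (Net.cons (nat_lit 2048) N_2_21 (Net.cons (nat_lit 1024) N_2_22 (Net.cons (nat_lit 512) N_2_23 (Net.cons (nat_lit 256) N_2_24 (Net.cons (nat_lit 128) N_2_25 (Net.cons (nat_lit 64) N_2_26 (Net.cons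 (nat_lit 32) N_2_27 (Net.cons (nat_lit 16) N_2_28 (Net.cons (nat_lit 8) N_2_29 (Net.cons (nat_lit 4) N_2_30 (Net.cons (nat_lit 2) N_2_31 (Net.cons (nat_lit 1) N_2_32 Net.nil)))))))))))))))))))))))))))))))))
noncomputable def N_3 : Net := (Net.cons (nat_lit 1) N_3_0 (Net.cons (nat_lit 2) N_3_1 (Net.cons (nat_lit 4) N_3_2 (Net.cons (nat_lit 8) N_3_3 (Net.cons (nat_lit 16) N_3_4 (Net.cons (nat_lit 32) N_3_5 (Net.cons (nat_lit 64) N_3_6 (Net.cons (nat_lit 128) N_3_7 (Net.cons (nat_lit 256) N_3_8 (Net.cons (nat_lit 512) N_3_9 (Net.cons (nat_lit 1024) N_3_10 (Net.cons (nat_lit 2048) N_3_11 (Net.cons (nat_lit 4096) N_3_12 (Net.cons (nat_lit 8192) N_3_13 (Net.cons (nat_lit 16384) N_3_14 (Net.cons (nat_lit 32768) N_3_15 (Net.cons (nat_lit 65536) N_3_16 (Net.cons (nat_lit 32768) N_3_17 (Net.cons (nat_lit 16384) N_3_18 (Net.cons (nat_lit 8192) N_3_19 (Net.cons (nat_lit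 4096) N_3_20 (Net.cons (nat_lit 2048) N_3_21 (Net.cons (nat_lit 1024) N_3_22 (Net.cons (nat_lit 512) N_3_23 (Net.cons (nat_lit 256) N_3_24 (Net.cons (nat_lit 128) N_3_25 (Net.cons (nat_lit 64) N_3_26 (Net.cons (nat_lit 32) N_3_27 (Net.cons (nat_lit 16) N_3_28 (Net.cons (nat_lit 8) N_3_29 (Net.cons (nat_lit 4) N_3_30 (Net.cons (nat_lit 2) N_3_31 (Net.cons (nat_lit 1) N_3_32 Net.nil)))))))))))))))))))))))))))))))))
noncomputable def N_4 : Net := (Net.cons (nat_lit 1) N_4_0 (Net.cons (nat_lit 2) N_4_1 (Net.cons (nat_lit 4) N_4_2 (Net.cons (nat_lit 8) N_4_3 (Net.cons (nat_lit 16) N_4_4 (Net.cons (nat_lit 32) N_4_5 (Net.cons (nat_lit 64) N_4_6 (Net.cons (nat_lit 128) N_4_7 (Net.cons (nat_lit 256) N_4_8 (Net.cons (nat_lit 512) N_4_9 (Net.cons (nat_lit 1024) N_4_10 (Net.cons (nat_lit 2048) N_4_11 (Net.cons (nat_lit 4096) N_4_12 (Net.cons (nat_lit 8192) N_4_13 (Net.cons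 (nat_lit 16384) N_4_14 (Net.cons (nat_lit 32768) N_4_15 (Net.cons (nat_lit 65536) N_4_16 (Net.cons (nat_lit 32768) N_4_17 (Net.cons (nat_lit 16384) N_4_18 (Net.cons (nat_lit 8192) N_4_19 (Net.cons (nat_lit 4096) N_4_20 (Net.cons (nat_lit 2048) N_4_21 (Net.cons (nat_lit 1024) N_4_22 (Net.cons (nat_lit 512) N_4_23 (Net.cons (nat_lit 256) N_4_24 (Net.cons (nat_lit 128) N_4_25 (Net.cons (nat_lit 64) N_4_26 (Net.cons (nat_lit 32) N_4_27 (Net.cons (nat_lit 16) N_4_28 (Net.cons (nat_lit 8) N_4_29 (Net.cons (nat_lit 4) N_4_30 (Net.cons (nat_lit 2) N_4_31 (Net.cons (nat_lit 1) N_4_32 Net.nil)))))))))))))))))))))))))))))))))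
noncomputable def N_5 : Net := (Net.cons (nat_lit 1) N_5_0 (Net.cons (nat_lit 2) N_5_1 (Net.cons (nat_lit 4) N_5_2 (Net.cons (nat_lit 8) N_5_3 (Net.cons (nat_lit 16) N_5_4 (Net.cons (nat_lit 32) N_5_5 (Net.cons (nat_lit 64) N_5_6 (Net.cons (nat_lit 128) N_5_7 (Net.cons (nat_lit 256) N_5_8 (Net.cons (nat_lit 512) N_5_9 (Net.cons (nat_lit 1024) N_5_10 (Net.cons (nat_lit 2048) N_5_11 (Net.cons (nat_lit 4096) N_5_12 (Net.cons (nat_lit 8192) N_5_13 (Net.cons (nat_lit 16384) N_5_14 (Net.cons (nat_lit 32768) N_5_15 (Net.cons (nat_lit 65536) N_5_16 (Net.cons (nat_lit 32768) N_5_17 (Net.cons (nat_lit 16384) N_5_18 (Net.cons (nat_lit 8192) N_5_19 (Net.cons (nat_lit 4096) N_5_20 (Net.cons (nat_lit 2048) N_5_21 (Net.cons (nat_lit 1024) N_5_22 (Net.cons (nat_lit 512) N_5_23 (Net.cons (nat_lit 256) N_5_24 (Net.cons (nat_lit 128) N_5_25 (Net.cons (nat_lit 64) N_5_26 (Net.cons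 (nat_lit 32) N_5_27 (Net.cons (nat_lit 16) N_5_28 (Net.cons (nat_lit 8) N_5_29 (Net.cons (nat_lit 4) N_5_30 (Net.cons (nat_lit 2) N_5_31 (Net.cons (nat_lit 1) N_5_32 Net.nil)))))))))))))))))))))))))))))))))
noncomputable def N_6 : Net := (Net.cons (nat_lit 1) N_6_0 (Net.cons (nat_lit 2) N_6_1 (Net.cons (nat_lit 4) N_6_2 (Net.cons (nat_lit 8) N_6_3 (Net.cons (nat_lit 16) N_6_4 (Net.cons (nat_lit 32) N_6_5 (Net.cons (nat_lit 64) N_6_6 (Net.cons (nat_lit 128) N_6_7 (Net.cons (nat_lit 256) N_6_8 (Net.cons (nat_lit 512) N_6_9 (Net.cons (nat_lit 1024) N_6_10 (Net.cons (nat_lit 2048) N_6_11 (Net.cons (nat_lit 4096) N_6_12 (Net.cons (nat_lit 8192) N_6_13 (Net.cons (nat_lit 16384) N_6_14 (Net.cons (nat_lit 32768) N_6_15 (Net.cons (nat_lit 65536) N_6_16 (Net.cons (nat_lit 32768) N_6_17 (Net.cons (nat_lit 16384) N_6_18 (Net.cons (nat_lit 8192) N_6_19 (Net.cons (nat_lit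 4096) N_6_20 (Net.cons (nat_lit 2048) N_6_21 (Net.cons (nat_lit 1024) N_6_22 (Net.cons (nat_lit 512) N_6_23 (Net.cons (nat_lit 256) N_6_24 (Net.cons (nat_lit 128) N_6_25 (Net.cons (nat_lit 64) N_6_26 (Net.cons (nat_lit 32) N_6_27 (Net.cons (nat_lit 16) N_6_28 (Net.cons (nat_lit 8) N_6_29 (Net.cons (nat_lit 4) N_6_30 (Net.cons (nat_lit 2) N_6_31 (Net.cons (nat_lit 1) N_6_32 Net.nil)))))))))))))))))))))))))))))))))
noncomputable def N : List Net := [N_0, N_1, N_2, N_3, N_4, N_5, N_6]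
noncomputable def C : List Lvl := [⟨(nat_lit 0), [[(nat_lit 13)],
  [(nat_lit 11)],
  [(nat_lit 9)],
  [(nat_lit 7)],
  [(nat_lit 5)],
  [(nat_lit 3)],
  [(nat_lit 1)]], (nat_lit 5)⟩,
  ⟨(nat_lit 3825), [[(nat_lit 3)],
  [(nat_lit 5)],
  [(nat_lit 7)],
  [(nat_lit 9)],
  [(nat_lit 11)],
  [(nat_lit 13)]], (nat_lit 8)⟩,
  ⟨(nat_lit 1226), [[(nat_lit 3)],
  [(nat_lit 5)],
  [(nat_lit 7)],
  [(nat_lit 9)],
  [(nat_lit 13)]], (nat_lit 4)⟩,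
  ⟨(nat_lit 1), [[(nat_lit 3)],
  [(nat_lit 7)],
  [(nat_lit 9)],
  [(nat_lit 13)]], (nat_lit 2)⟩]
noncomputable def T : List Sub := [⟨[(nat_lit 1)], (nat_lit 5), (nat_lit 4)⟩,
  ⟨[(nat_lit 1), (nat_lit 7), (nat_lit 1)], (nat_lit 6), (nat_lit 6)⟩,
  ⟨[(nat_lit 2), (nat_lit 5), (nat_lit 1)], (nat_lit 6), (nat_lit 5)⟩,
  ⟨[(nat_lit 2), (nat_lit 9), (nat_lit 5), (nat_lit 1)], (nat_lit 4), (nat_lit 4)⟩]
noncomputable def pel : List Nat := [(nat_lit 7), (nat_lit 5), (nat_lit 2), (nat_lit 7), (nat_lit 1), (nat_lit 5)]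

end CF.Comp.ON
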