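import Cfsg.Agent.Comp.TCDefs

set_option autoImplicit false
set_option maxRecDepth 1000000
set_option maxHeartbeats 0
set_option Elab.async false

namespace CF.Comp.ON

noncomputable def e1_e51200 : BT Nat := (BT.node (nat_lit 9838656) (BT.node (nat_lit 9799681) (BT.node (nat_lit 9777856) (BT.node (nat_lit 9766470) (BT.node (nat_lit 9761728) (BT.node (nat_lit 9759744) (BT.node (nat_lit 9758272) (BT.node (nat_lit 9757760) (BT.node (nat_lit 9757504) (BT.node (nat_lit 9757376) (BT.node (nat_lit 9757312) (BT.leaf (nat_lit 40053017)) (BT.leaf (nat_lit 36965905))) (BT.node (nat_lit 9757440) (BT.leaf (nat_lit 34462737)) (BT.leaf (nat_lit 34206237)))) (BT.node (nat_lit 9757632) (BT.node (nat_lit 9757568) (BT.leaf (nat_lit 34462233)) (BT.leaf (nat_lit 34462745))) (BT.node (nat_lit 9757696) (BT.leaf (nat_lit 34462237)) (BT.leaf (nat_lit 34806277))))) (BT.node (nat_lit 9757960) (BT.node (nat_lit 9757888) (BT.node (nat_lit 9757824) (BT.leaf (nat_lit 34802693)) (BT.leaf (nat_lit 34802697))) (BT.node (nat_lit 9757952) (BT.leaf (nat_lit 34802701)) (BT.leaf (nat_lit 36857113)))) (BT.node (nat_lit 9758080) (BT.node (nat_lit 9758016) (BT.leaf (nat_lit 648656)) (BT.leaf (nat_lit 36995869))) (BT.node (nat_lit 9758208) (BT.leaf (nat_lit 34540569)) (BT.leaf (nat_lit 41504029)))))) (BT.node (nat_lit 9759040) (BT.node (nat_lit 9758784) (BT.node (nat_lit 9758464) (BT.node (nat_lit 9758336) (BT.leaf (nat_lit 34962977)) (BT.leaf (nat_lit 34962953))) (BT.node (nat_lit 9758656) (BT.leaf (nat_lit 40164625)) (BT.leaf (nat_lit 37948445)))) (BT.node (nat_lit 9758912) (BT.node (nat_lit 9758848) (BT.leaf (nat_lit 39035929)) (BT.leaf (nat_lit 38105101))) (BT.node (nat_lit 9758976) (BT.leaf (nat_lit 38104865)) (BT.leaf (nat_lit 41002773))))) (BT.node (nat_lit 9759360) (BT.node (nat_lit 9759168) (BT.node (nat_lit 9759104) (BT.leaf (nat_lit 38106637)) (BT.leaf (nat_lit 39187733))) (BT.node (nat_lit 9759232) (BT.leaf (nat_lit 39187481)) (BT.leaf (nat_lit 41509901)))) (BT.node (nat_lit 9759552) (BT.node (nat_lit 9759488) (BT.leaf (nat_lit 36920349)) (BT.leaf (nat_lit 38380309))) (BT.node (nat_lit 9759616) (BT.leaf (nat_lit 40909585)) (BT.leaf (nat_lit 40775453))))))) (BT.node (nat_lit 9760640) (BT.node (nat_lit 9760000) (BT.node (nat_lit 9759874) (BT.node (nat_lit 9759872) (BT.node (nat_lit 9759808) (BT.leaf (nat_lit 38335521)) (BT.leaf (nat_lit 37125637))) (BT.node (nat_lit 9759873) (BT.leaf (nat_lit 36556833)) (BT.leaf (nat_lit 652204)))) (BT.node (nat_lit 9759879) (BT.node (nat_lit 9759875) (BT.leaf (nat_lit 652204)) (BT.leaf (nat_lit 652204))) (BT.node (nat_lit 9759936) (BT.leaf (nat_lit 652204)) (BT.leaf (nat_lit 39039493))))) (BT.node (nat_lit 9760320) (BT.node (nat_lit 9760192) (BT.node (nat_lit 9760064) (BT.leaf (nat_lit 41740813)) (BT.leaf (nat_lit 39039501))) (BT.node (nat_lit 9760256) (BT.leaf (nat_lit 34722321)) (BT.leaf (nat_lit 34975761)))) (BT.node (nat_lit 9760448) (BT.node (nat_lit 9760384) (BT.leaf (nat_lit 34464281)) (BT.leaf (nat_lit 40134937))) (BT.node (nat_lit 9760512) (BT.leaf (nat_lit 34992673)) (BT.leaf (nat_lit 34992397)))))) (BT.node (nat_lit 9761152) (BT.node (nat_lit 9760896) (BT.node (nat_lit 9760768) (BT.node (nat_lit 9760704) (BT.leaf (nat_lit 34015265)) (BT.leaf (nat_lit 40713477))) (BT.node (nat_lit 9760832) (BT.leaf (nat_lit 40713245)) (BT.leaf (nat_lit 34464533)))) (BT.node (nat_lit 9761024) (BT.node (nat_lit 9760960) (BT.leaf (nat_lit 34464793)) (BT.leaf (nat_lit 41586717))) (BT.node (nat_lit 9761088) (BT.leaf (nat_lit 34464797)) (BT.leaf (nat_lit 35840533))))) (BT.node (nat_lit 9761408) (BT.node (nat_lit 9761280) (BT.node (nat_lit 9761216) (BT.leaf (nat_lit 38411549)) (BT.leaf (nat_lit 34465297))) (BT.node (nat_lit 9761344) (BT.leaf (nat_lit 38395145)) (BT.leaf (nat_lit 38395169)))) (BT.node (nat_lit 9761479) (BT.node (nat_lit 9761472) (BT.leaf (nat_lit 37552645)) (BT.leaf (nat_lit 34908437))) (BT.node (nat_lit 9761600) (BT.leaf (nat_lit 616824)) (BT.leaf (nat_lit 35384329)))))))) (BT.node (nat_lit 9764224) (BT.node (nat_lit 9763200) (BT.node (nat_lit 9762560) (BT.node (nat_lit 9762240) (BT.node (nat_lit 9761920) (BT.node (nat_lit 9761792) (BT.leaf (nat_lit 34465305)) (BT.leaf (nat_lit 37154317))) (BT.node (nat_lit 9761984) (BT.leaf (nat_lit 36993805)) (BT.leaf (nat_lit 34998541)))) (BT.node (nat_lit 9762432) (BT.node (nat_lit 9762368) (BT.leaf (nat_lit 41314593)) (BT.leaf (nat_lit 35000329))) (BT.node (nat_lit 9762496) (BT.leaf (nat_lit 35000325)) (BT.leaf (nat_lit 35000333))))) (BT.node (nat_lit 9762944) (BT.node (nat_lit 9762752) (BT.node (nat_lit 9762688) (BT.leaf (nat_lit 40110869)) (BT.leaf (nat_lit 34465813))) (BT.node (nat_lit 9762880) (BT.leaf (nat_lit 35037205)) (BT.leaf (nat_lit 34163217)))) (BT.node (nat_lit 9763072) (BT.node (nat_lit 9763008) (BT.leaf (nat_lit 34468109)) (BT.leaf (nat_lit 35988233))) (BT.node (nat_lit 9763136) (BT.leaf (nat_lit 39039257)) (BT.leaf (nat_lit 36488729)))))) (BT.node (nat_lit 9763712) (BT.node (nat_lit 9763456) (BT.node (nat_lit 9763328) (BT.node (nat_lit 9763264) (BT.leaf (nat_lit 36578565)) (BT.leaf (nat_lit 36578569))) (BT.node (nat_lit 9763392) (BT.leaf (nat_lit 36578581)) (BT.leaf (nat_lit 37553433)))) (BT.node (nat_lit 9763584) (BT.node (nat_lit 9763520) (BT.leaf (nat_lit 34593797)) (BT.leaf (nat_lit 36336661))) (BT.node (nat_lit 9763648) (BT.leaf (nat_lit 39310601)) (BT.leaf (nat_lit 35026717))))) (BT.node (nat_lit 9763968) (BT.node (nat_lit 9763840) (BT.node (nat_lit 9763776) (BT.leaf (nat_lit 34467101)) (BT.leaf (nat_lit 39345937))) (BT.node (nat_lit 9763904) (BT.leaf (nat_lit 38516505)) (BT.leaf (nat_lit 34466593)))) (BT.node (nat_lit 9764096) (BT.node (nat_lit 9764032) (BT.leaf (nat_lit 35025177)) (BT.leaf (nat_lit 34467357))) (BT.node (nat_lit 9764160) (BT.leaf (nat_lit 34475277)) (BT.leaf (nat_lit 39057669))))))) (BT.node (nat_lit 9765440) (BT.node (nat_lit 9764864) (BT.node (nat_lit 9764480) (BT.node (nat_lit 9764352) (BT.node (nat_lit 9764288) (BT.leaf (nat_lit 36336389)) (BT.leaf (nat_lit 36336401))) (BT.node (nat_lit 9764416) (BT.leaf (nat_lit 36336409)) (BT.leaf (nat_lit 37553685)))) (BT.node (nat_lit 9764672) (BT.node (nat_lit 9764608) (BT.leaf (nat_lit 34581277)) (BT.leaf (nat_lit 35065885))) (BT.node (nat_lit 9764800) (BT.leaf (nat_lit 36336653)) (BT.leaf (nat_lit 38440221))))) (BT.node (nat_lit 9765184) (BT.node (nat_lit 9764992) (BT.node (nat_lit 9764928) (BT.leaf (nat_lit 38449677)) (BT.leaf (nat_lit 34470669))) (BT.node (nat_lit 9765120) (BT.leaf (nat_lit 34264597)) (BT.leaf (nat_lit 35689733)))) (BT.node (nat_lit 9765312) (BT.node (nat_lit 9765248) (BT.leaf (nat_lit 35684881)) (BT.leaf (nat_lit 34959881))) (BT.node (nat_lit 9765376) (BT.leaf (nat_lit 35180565)) (BT.leaf (nat_lit 34468885)))))) (BT.node (nat_lit 9765952) (BT.node (nat_lit 9765696) (BT.node (nat_lit 9765568) (BT.node (nat_lit 9765504) (BT.leaf (nat_lit 34476833)) (BT.leaf (nat_lit 34469393))) (BT.node (nat_lit 9765632) (BT.leaf (nat_lit 34469649)) (BT.leaf (nat_lit 38604041)))) (BT.node (nat_lit 9765824) (BT.node (nat_lit 9765760) (BT.leaf (nat_lit 38450717)) (BT.leaf (nat_lit 41393949))) (BT.node (nat_lit 9765888) (BT.leaf (nat_lit 39133465)) (BT.leaf (nat_lit 34928917))))) (BT.node (nat_lit 9766272) (BT.node (nat_lit 9766080) (BT.node (nat_lit 9766016) (BT.leaf (nat_lit 38447133)) (BT.leaf (nat_lit 37124633))) (BT.node (nat_lit 9766208) (BT.leaf (nat_lit 36642585)) (BT.leaf (nat_lit 34510353)))) (BT.node (nat_lit 9766464) (BT.node (nat_lit 9766336) (BT.leaf (nat_lit 38456593)) (BT.leaf (nat_lit 34510365))) (BT.node (nat_lit 9766465) (BT.leaf (nat_lit 35360029)) (BT.leaf (nat_lit 612664))))))))) (BT.node (nat_lit 9772096) (BT.node (nat_lit 9769920) (BT.node (nat_lit 9768000) (BT.node (nat_lit 9767488) (BT.node (nat_lit 9766656) (BT.node (nat_lit 9766528) (BT.node (nat_lit 9766472) (BT.leaf (nat_lit 612664)) (BT.leaf (nat_lit 612664))) (BT.node (nat_lit 9766592) (BT.leaf (nat_lit 35090713)) (BT.leaf (nat_lit 34470165)))) (BT.node (nat_lit 9766784) (BT.node (nat_lit 9766720) (BT.leaf (nat_lit 35100681)) (BT.leaf (nat_lit 34595857))) (BT.node (nat_lit 9767232) (BT.leaf (nat_lit 38454045)) (BT.leaf (nat_lit 35927045))))) (BT.node (nat_lit 9767744) (BT.node (nat_lit 9767616) (BT.node (nat_lit 9767552) (BT.leaf (nat_lit 37555221)) (BT.leaf (nat_lit 35685137))) (BT.node (nat_lit 9767680) (BT.leaf (nat_lit 34959885)) (BT.leaf (nat_lit 34960141)))) (BT.node (nat_lit 9767872) (BT.node (nat_lit 9767808) (BT.leaf (nat_lit 39066901)) (BT.leaf (nat_lit 36694805))) (BT.node (nat_lit 9767936) (BT.leaf (nat_lit 35502861)) (BT.leaf (nat_lit 35502853)))))) (BT.node (nat_lit 9768576) (BT.node (nat_lit 9768320) (BT.node (nat_lit 9768128) (BT.node (nat_lit 9768064) (BT.leaf (nat_lit 35502857)) (BT.leaf (nat_lit 36467473))) (BT.node (nat_lit 9768256) (BT.leaf (nat_lit 41684753)) (BT.leaf (nat_lit 41680649)))) (BT.node (nat_lit 9768448) (BT.node (nat_lit 9768384) (BT.leaf (nat_lit 36467485)) (BT.leaf (nat_lit 36466957))) (BT.node (nat_lit 9768512) (BT.leaf (nat_lit 36466977)) (BT.leaf (nat_lit 41239073))))) (BT.node (nat_lit 9769600) (BT.node (nat_lit 9768704) (BT.node (nat_lit 9768640) (BT.leaf (nat_lit 36466949)) (BT.leaf (nat_lit 37021461))) (BT.node (nat_lit 9769344) (BT.leaf (nat_lit 37318409)) (BT.leaf (nat_lit 34471185)))) (BT.node (nat_lit 9769665) (BT.node (nat_lit 9769664) (BT.leaf (nat_lit 35582481)) (BT.leaf (nat_lit 35706381))) (BT.node (nat_lit 9769856) (BT.leaf (nat_lit 639040)) (BT.leaf (nat_lit 39823889))))))) (BT.node (nat_lit 9771008) (BT.node (nat_lit 9770496) (BT.node (nat_lit 9770176) (BT.node (nat_lit 9770048) (BT.node (nat_lit 9769984) (BT.leaf (nat_lit 34611473)) (BT.leaf (nat_lit 34611481))) (BT.node (nat_lit 9770112) (BT.leaf (nat_lit 35898377)) (BT.leaf (nat_lit 34472461)))) (BT.node (nat_lit 9770304) (BT.node (nat_lit 9770240) (BT.leaf (nat_lit 34473493)) (BT.leaf (nat_lit 35301913))) (BT.node (nat_lit 9770368) (BT.leaf (nat_lit 35123977)) (BT.leaf (nat_lit 35138569))))) (BT.node (nat_lit 9770752) (BT.node (nat_lit 9770624) (BT.node (nat_lit 9770560) (BT.leaf (nat_lit 34473497)) (BT.leaf (nat_lit 40995085))) (BT.node (nat_lit 9770688) (BT.leaf (nat_lit 40995105)) (BT.leaf (nat_lit 34474525)))) (BT.node (nat_lit 9770880) (BT.node (nat_lit 9770816) (BT.leaf (nat_lit 35530513)) (BT.leaf (nat_lit 35530517))) (BT.node (nat_lit 9770944) (BT.leaf (nat_lit 35812637)) (BT.leaf (nat_lit 34477585)))))) (BT.node (nat_lit 9771584) (BT.node (nat_lit 9771328) (BT.node (nat_lit 9771136) (BT.node (nat_lit 9771072) (BT.leaf (nat_lit 41077765)) (BT.leaf (nat_lit 41077769))) (BT.node (nat_lit 9771264) (BT.leaf (nat_lit 41077773)) (BT.leaf (nat_lit 38603541)))) (BT.node (nat_lit 9771456) (BT.node (nat_lit 9771392) (BT.leaf (nat_lit 34475805)) (BT.leaf (nat_lit 34470177))) (BT.node (nat_lit 9771520) (BT.leaf (nat_lit 34992393)) (BT.leaf (nat_lit 34475273))))) (BT.node (nat_lit 9771781) (BT.node (nat_lit 9771712) (BT.node (nat_lit 9771648) (BT.leaf (nat_lit 34152965)) (BT.leaf (nat_lit 34665753))) (BT.node (nat_lit 9771776) (BT.leaf (nat_lit 35162645)) (BT.leaf (nat_lit 41199369)))) (BT.node (nat_lit 9771904) (BT.node (nat_lit 9771840) (BT.leaf (nat_lit 631468)) (BT.leaf (nat_lit 34478109))) (BT.node (nat_lit 9771968) (BT.leaf (nat_lit 39951125)) (BT.leaf (nat_lit 34478621)))))))) (BT.node (nat_lit 9774080) (BT.node (nat_lit 9773056) (BT.node (nat_lit 9772544) (BT.node (nat_lit 9772293) (BT.node (nat_lit 9772224) (BT.node (nat_lit 9772160) (BT.leaf (nat_lit 35440665)) (BT.leaf (nat_lit 35007493))) (BT.node (nat_lit 9772292) (BT.leaf (nat_lit 40890897)) (BT.leaf (nat_lit 624488)))) (BT.node (nat_lit 9772416) (BT.node (nat_lit 9772296) (BT.leaf (nat_lit 624488)) (BT.leaf (nat_lit 628380))) (BT.node (nat_lit 9772480) (BT.leaf (nat_lit 41454857)) (BT.leaf (nat_lit 39344149))))) (BT.node (nat_lit 9772800) (BT.node (nat_lit 9772672) (BT.node (nat_lit 9772608) (BT.leaf (nat_lit 38979357)) (BT.leaf (nat_lit 38825749))) (BT.node (nat_lit 9772736) (BT.leaf (nat_lit 41509897)) (BT.leaf (nat_lit 34478865)))) (BT.node (nat_lit 9772928) (BT.node (nat_lit 9772864) (BT.leaf (nat_lit 34478869)) (BT.leaf (nat_lit 38129941))) (BT.node (nat_lit 9772992) (BT.leaf (nat_lit 41224453)) (BT.leaf (nat_lit 38126853)))))) (BT.node (nat_lit 9773568) (BT.node (nat_lit 9773312) (BT.node (nat_lit 9773184) (BT.node (nat_lit 9773120) (BT.leaf (nat_lit 38126857)) (BT.leaf (nat_lit 38132245))) (BT.node (nat_lit 9773248) (BT.leaf (nat_lit 36921373)) (BT.leaf (nat_lit 34833429)))) (BT.node (nat_lit 9773440) (BT.node (nat_lit 9773376) (BT.leaf (nat_lit 34480913)) (BT.leaf (nat_lit 35445253))) (BT.node (nat_lit 9773504) (BT.leaf (nat_lit 35445257)) (BT.leaf (nat_lit 35445261))))) (BT.node (nat_lit 9773824) (BT.node (nat_lit 9773696) (BT.node (nat_lit 9773632) (BT.leaf (nat_lit 36978977)) (BT.leaf (nat_lit 34481169))) (BT.node (nat_lit 9773760) (BT.leaf (nat_lit 34002705)) (BT.leaf (nat_lit 39195157)))) (BT.node (nat_lit 9773952) (BT.node (nat_lit 9773888) (BT.leaf (nat_lit 34940697)) (BT.leaf (nat_lit 39573537))) (BT.node (nat_lit 9774016) (BT.leaf (nat_lit 39573513)) (BT.leaf (nat_lit 34483737))))))) (BT.node (nat_lit 9775936) (BT.node (nat_lit 9774656) (BT.node (nat_lit 9774400) (BT.node (nat_lit 9774272) (BT.node (nat_lit 9774144) (BT.leaf (nat_lit 35902481)) (BT.leaf (nat_lit 38460425))) (BT.node (nat_lit 9774336) (BT.leaf (nat_lit 38460421)) (BT.leaf (nat_lit 35128853)))) (BT.node (nat_lit 9774528) (BT.node (nat_lit 9774464) (BT.leaf (nat_lit 41415189)) (BT.leaf (nat_lit 36921621))) (BT.node (nat_lit 9774592) (BT.leaf (nat_lit 34487321)) (BT.leaf (nat_lit 34483221))))) (BT.node (nat_lit 9775360) (BT.node (nat_lit 9774976) (BT.node (nat_lit 9774720) (BT.leaf (nat_lit 34483997)) (BT.leaf (nat_lit 41716997))) (BT.node (nat_lit 9775040) (BT.leaf (nat_lit 34820617)) (BT.leaf (nat_lit 34817561)))) (BT.node (nat_lit 9775808) (BT.node (nat_lit 9775680) (BT.leaf (nat_lit 41441293)) (BT.leaf (nat_lit 35714333))) (BT.node (nat_lit 9775872) (BT.leaf (nat_lit 34487069)) (BT.leaf (nat_lit 34484765)))))) (BT.node (nat_lit 9777024) (BT.node (nat_lit 9776384) (BT.node (nat_lit 9776064) (BT.node (nat_lit 9776000) (BT.leaf (nat_lit 39488021)) (BT.leaf (nat_lit 38676997))) (BT.node (nat_lit 9776192) (BT.leaf (nat_lit 37944845)) (BT.leaf (nat_lit 41751065)))) (BT.node (nat_lit 9776896) (BT.node (nat_lit 9776576) (BT.leaf (nat_lit 34484749)) (BT.leaf (nat_lit 39293717))) (BT.node (nat_lit 9776960) (BT.leaf (nat_lit 39590149)) (BT.leaf (nat_lit 36529421))))) (BT.node (nat_lit 9777280) (BT.node (nat_lit 9777152) (BT.node (nat_lit 9777088) (BT.leaf (nat_lit 36529433)) (BT.leaf (nat_lit 36517649))) (BT.node (nat_lit 9777216) (BT.leaf (nat_lit 36735773)) (BT.leaf (nat_lit 39602181)))) (BT.node (nat_lit 9777728) (BT.node (nat_lit 9777600) (BT.leaf (nat_lit 36516361)) (BT.leaf (nat_lit 36451085))) (BT.node (nat_lit 9777792) (BT.leaf (nat_lit 36451077)) (BT.leaf (nat_lit 36451081)))))))))) (BT.node (nat_lit 9788992) (BT.node (nat_lit 9784128) (BT.node (nat_lit 9780928) (BT.node (nat_lit 9779456) (BT.node (nat_lit 9778816) (BT.node (nat_lit 9778496) (BT.node (nat_lit 9778240) (BT.node (nat_lit 9777920) (BT.leaf (nat_lit 36451097)) (BT.leaf (nat_lit 36451105))) (BT.node (nat_lit 9778304) (BT.leaf (nat_lit 38066693)) (BT.leaf (nat_lit 38067225)))) (BT.node (nat_lit 9778688) (BT.node (nat_lit 9778560) (BT.leaf (nat_lit 39412257)) (BT.leaf (nat_lit 38054937))) (BT.node (nat_lit 9778752) (BT.leaf (nat_lit 38092317)) (BT.leaf (nat_lit 39371037))))) (BT.node (nat_lit 9779072) (BT.node (nat_lit 9778944) (BT.node (nat_lit 9778880) (BT.leaf (nat_lit 34485521)) (BT.leaf (nat_lit 38062089))) (BT.node (nat_lit 9779008) (BT.leaf (nat_lit 34485533)) (BT.leaf (nat_lit 39367969)))) (BT.node (nat_lit 9779200) (BT.node (nat_lit 9779136) (BT.leaf (nat_lit 34485537)) (BT.leaf (nat_lit 38922265))) (BT.node (nat_lit 9779328) (BT.leaf (nat_lit 38051865)) (BT.leaf (nat_lit 39376157)))))) (BT.node (nat_lit 9780096) (BT.node (nat_lit 9779840) (BT.node (nat_lit 9779712) (BT.node (nat_lit 9779648) (BT.leaf (nat_lit 39373857)) (BT.leaf (nat_lit 39378973))) (BT.node (nat_lit 9779776) (BT.leaf (nat_lit 35233037)) (BT.leaf (nat_lit 38036753)))) (BT.node (nat_lit 9779968) (BT.node (nat_lit 9779904) (BT.leaf (nat_lit 35233029)) (BT.leaf (nat_lit 35233033))) (BT.node (nat_lit 9780032) (BT.leaf (nat_lit 35233049)) (BT.leaf (nat_lit 35233057))))) (BT.node (nat_lit 9780480) (BT.node (nat_lit 9780352) (BT.node (nat_lit 9780288) (BT.leaf (nat_lit 37750549)) (BT.leaf (nat_lit 37733141))) (BT.node (nat_lit 9780416) (BT.leaf (nat_lit 38036741)) (BT.leaf (nat_lit 38036745)))) (BT.node (nat_lit 9780608) (BT.node (nat_lit 9780544) (BT.leaf (nat_lit 34485789)) (BT.leaf (nat_lit 38036769))) (BT.node (nat_lit 9780864) (BT.leaf (nat_lit 34485793)) (BT.leaf (nat_lit 34486029))))))) (BT.node (nat_lit 9782976) (BT.node (nat_lit 9782464) (BT.node (nat_lit 9781312) (BT.node (nat_lit 9781056) (BT.node (nat_lit 9780992) (BT.leaf (nat_lit 37733917)) (BT.leaf (nat_lit 37732377))) (BT.node (nat_lit 9781248) (BT.leaf (nat_lit 34486297)) (BT.leaf (nat_lit 34500357)))) (BT.node (nat_lit 9782336) (BT.node (nat_lit 9781376) (BT.leaf (nat_lit 35767577)) (BT.leaf (nat_lit 34509077))) (BT.node (nat_lit 9782400) (BT.leaf (nat_lit 38092049)) (BT.leaf (nat_lit 39486741))))) (BT.node (nat_lit 9782720) (BT.node (nat_lit 9782592) (BT.node (nat_lit 9782528) (BT.leaf (nat_lit 40857889)) (BT.leaf (nat_lit 39359765))) (BT.node (nat_lit 9782656) (BT.leaf (nat_lit 39130145)) (BT.leaf (nat_lit 39403277)))) (BT.node (nat_lit 9782848) (BT.node (nat_lit 9782784) (BT.leaf (nat_lit 39403297)) (BT.leaf (nat_lit 40860177))) (BT.node (nat_lit 9782912) (BT.leaf (nat_lit 39933973)) (BT.leaf (nat_lit 38862601)))))) (BT.node (nat_lit 9783552) (BT.node (nat_lit 9783234) (BT.node (nat_lit 9783104) (BT.node (nat_lit 9783040) (BT.leaf (nat_lit 34491157)) (BT.leaf (nat_lit 41454101))) (BT.node (nat_lit 9783232) (BT.leaf (nat_lit 39391777)) (BT.leaf (nat_lit 38951953)))) (BT.node (nat_lit 9783424) (BT.node (nat_lit 9783360) (BT.leaf (nat_lit 614016)) (BT.leaf (nat_lit 35069197))) (BT.node (nat_lit 9783488) (BT.leaf (nat_lit 34569221)) (BT.leaf (nat_lit 34569225))))) (BT.node (nat_lit 9783872) (BT.node (nat_lit 9783680) (BT.node (nat_lit 9783616) (BT.leaf (nat_lit 35068945)) (BT.leaf (nat_lit 35068933))) (BT.node (nat_lit 9783744) (BT.leaf (nat_lit 35068937)) (BT.leaf (nat_lit 39063581)))) (BT.node (nat_lit 9784000) (BT.node (nat_lit 9783936) (BT.leaf (nat_lit 40483849)) (BT.leaf (nat_lit 39195425))) (BT.node (nat_lit 9784064) (BT.leaf (nat_lit 35407113)) (BT.leaf (nat_lit 35407109)))))))) (BT.node (nat_lit 9786752) (BT.node (nat_lit 9785344) (BT.node (nat_lit 9784704) (BT.node (nat_lit 9784448) (BT.node (nat_lit 9784256) (BT.node (nat_lit 9784192) (BT.leaf (nat_lit 39390733)) (BT.leaf (nat_lit 34509593))) (BT.node (nat_lit 9784384) (BT.leaf (nat_lit 39390753)) (BT.leaf (nat_lit 39219205)))) (BT.node (nat_lit 9784576) (BT.node (nat_lit 9784512) (BT.leaf (nat_lit 39219209)) (BT.leaf (nat_lit 35060769))) (BT.node (nat_lit 9784640) (BT.leaf (nat_lit 36873757)) (BT.leaf (nat_lit 35060745))))) (BT.node (nat_lit 9785024) (BT.node (nat_lit 9784896) (BT.node (nat_lit 9784706) (BT.leaf (nat_lit 39393289)) (BT.leaf (nat_lit 611784))) (BT.node (nat_lit 9784960) (BT.leaf (nat_lit 34610949)) (BT.leaf (nat_lit 34610953)))) (BT.node (nat_lit 9785216) (BT.node (nat_lit 9785152) (BT.leaf (nat_lit 38804753)) (BT.leaf (nat_lit 34487313))) (BT.node (nat_lit 9785280) (BT.leaf (nat_lit 34488861)) (BT.leaf (nat_lit 38405649)))))) (BT.node (nat_lit 9786112) (BT.node (nat_lit 9785728) (BT.node (nat_lit 9785472) (BT.node (nat_lit 9785408) (BT.leaf (nat_lit 34487325)) (BT.leaf (nat_lit 39179533))) (BT.node (nat_lit 9785600) (BT.leaf (nat_lit 39270417)) (BT.leaf (nat_lit 34620697)))) (BT.node (nat_lit 9785984) (BT.node (nat_lit 9785792) (BT.leaf (nat_lit 39132949)) (BT.leaf (nat_lit 39268897))) (BT.node (nat_lit 9786048) (BT.leaf (nat_lit 35023649)) (BT.leaf (nat_lit 35023625))))) (BT.node (nat_lit 9786432) (BT.node (nat_lit 9786304) (BT.node (nat_lit 9786176) (BT.leaf (nat_lit 39125253)) (BT.leaf (nat_lit 39173645))) (BT.node (nat_lit 9786368) (BT.leaf (nat_lit 39406093)) (BT.leaf (nat_lit 39296021)))) (BT.node (nat_lit 9786624) (BT.node (nat_lit 9786496) (BT.leaf (nat_lit 35833109)) (BT.leaf (nat_lit 35833117))) (BT.node (nat_lit 9786688) (BT.leaf (nat_lit 39395337)) (BT.leaf (nat_lit 39799833))))))) (BT.node (nat_lit 9787776) (BT.node (nat_lit 9787264) (BT.node (nat_lit 9787008) (BT.node (nat_lit 9786880) (BT.node (nat_lit 9786816) (BT.leaf (nat_lit 34488077)) (BT.leaf (nat_lit 35268893))) (BT.node (nat_lit 9786944) (BT.leaf (nat_lit 39394569)) (BT.leaf (nat_lit 34488333)))) (BT.node (nat_lit 9787136) (BT.node (nat_lit 9787072) (BT.leaf (nat_lit 35269141)) (BT.leaf (nat_lit 35269149))) (BT.node (nat_lit 9787200) (BT.leaf (nat_lit 35270409)) (BT.leaf (nat_lit 34488093))))) (BT.node (nat_lit 9787520) (BT.node (nat_lit 9787392) (BT.node (nat_lit 9787328) (BT.leaf (nat_lit 34488349)) (BT.leaf (nat_lit 35270433))) (BT.node (nat_lit 9787456) (BT.leaf (nat_lit 39395105)) (BT.leaf (nat_lit 34492177)))) (BT.node (nat_lit 9787648) (BT.node (nat_lit 9787584) (BT.leaf (nat_lit 34492189)) (BT.leaf (nat_lit 39394565))) (BT.node (nat_lit 9787712) (BT.leaf (nat_lit 34489361)) (BT.leaf (nat_lit 38506777)))))) (BT.node (nat_lit 9788352) (BT.node (nat_lit 9788096) (BT.node (nat_lit 9787968) (BT.node (nat_lit 9787904) (BT.leaf (nat_lit 39306509)) (BT.leaf (nat_lit 39306273))) (BT.node (nat_lit 9788032) (BT.leaf (nat_lit 35133461)) (BT.leaf (nat_lit 34488609)))) (BT.node (nat_lit 9788224) (BT.node (nat_lit 9788160) (BT.leaf (nat_lit 34509597)) (BT.leaf (nat_lit 40567577))) (BT.node (nat_lit 9788288) (BT.leaf (nat_lit 34491165)) (BT.leaf (nat_lit 38326029))))) (BT.node (nat_lit 9788608) (BT.node (nat_lit 9788486) (BT.node (nat_lit 9788484) (BT.leaf (nat_lit 34491673)) (BT.leaf (nat_lit 638416))) (BT.node (nat_lit 9788488) (BT.leaf (nat_lit 638416)) (BT.leaf (nat_lit 638416)))) (BT.node (nat_lit 9788736) (BT.node (nat_lit 9788672) (BT.leaf (nat_lit 39470361)) (BT.leaf (nat_lit 39393313))) (BT.node (nat_lit 9788928) (BT.leaf (nat_lit 39187489)) (BT.leaf (nat_lit 34491925))))))))) (BT.node (nat_lit 9794560) (BT.node (nat_lit 9791488) (BT.node (nat_lit 9790144) (BT.node (nat_lit 9789568) (BT.node (nat_lit 9789312) (BT.node (nat_lit 9789120) (BT.node (nat_lit 9789056) (BT.leaf (nat_lit 34492181)) (BT.leaf (nat_lit 34492437))) (BT.node (nat_lit 9789248) (BT.leaf (nat_lit 39187233)) (BT.leaf (nat_lit 34492441)))) (BT.node (nat_lit 9789440) (BT.node (nat_lit 9789376) (BT.leaf (nat_lit 35261957)) (BT.leaf (nat_lit 35261961))) (BT.node (nat_lit 9789504) (BT.leaf (nat_lit 35261965)) (BT.leaf (nat_lit 35697425))))) (BT.node (nat_lit 9789888) (BT.node (nat_lit 9789696) (BT.node (nat_lit 9789632) (BT.leaf (nat_lit 34491921)) (BT.leaf (nat_lit 39187725))) (BT.node (nat_lit 9789824) (BT.leaf (nat_lit 35697437)) (BT.leaf (nat_lit 34492445)))) (BT.node (nat_lit 9790016) (BT.node (nat_lit 9789952) (BT.leaf (nat_lit 39395101)) (BT.leaf (nat_lit 38611973))) (BT.node (nat_lit 9790080) (BT.leaf (nat_lit 35924997)) (BT.leaf (nat_lit 34492941)))))) (BT.node (nat_lit 9790848) (BT.node (nat_lit 9790464) (BT.node (nat_lit 9790272) (BT.node (nat_lit 9790208) (BT.leaf (nat_lit 34499353)) (BT.leaf (nat_lit 39396641))) (BT.node (nat_lit 9790400) (BT.leaf (nat_lit 34538001)) (BT.leaf (nat_lit 38609177)))) (BT.node (nat_lit 9790720) (BT.node (nat_lit 9790592) (BT.leaf (nat_lit 39410977)) (BT.leaf (nat_lit 39410957))) (BT.node (nat_lit 9790784) (BT.leaf (nat_lit 39410973)) (BT.leaf (nat_lit 34492961))))) (BT.node (nat_lit 9791104) (BT.node (nat_lit 9790976) (BT.node (nat_lit 9790912) (BT.leaf (nat_lit 38815769)) (BT.leaf (nat_lit 34544393))) (BT.node (nat_lit 9791040) (BT.leaf (nat_lit 38583065)) (BT.leaf (nat_lit 34493217)))) (BT.node (nat_lit 9791296) (BT.node (nat_lit 9791232) (BT.leaf (nat_lit 39852037)) (BT.leaf (nat_lit 39303173))) (BT.node (nat_lit 9791360) (BT.leaf (nat_lit 34493457)) (BT.leaf (nat_lit 35566105))))))) (BT.node (nat_lit 9793152) (BT.node (nat_lit 9792576) (BT.node (nat_lit 9791872) (BT.node (nat_lit 9791680) (BT.node (nat_lit 9791616) (BT.leaf (nat_lit 34493713)) (BT.leaf (nat_lit 34494225))) (BT.node (nat_lit 9791744) (BT.leaf (nat_lit 34574341)) (BT.leaf (nat_lit 37731845)))) (BT.node (nat_lit 9792256) (BT.node (nat_lit 9792064) (BT.leaf (nat_lit 34494481)) (BT.leaf (nat_lit 39455253))) (BT.node (nat_lit 9792512) (BT.leaf (nat_lit 39293973)) (BT.leaf (nat_lit 39369229))))) (BT.node (nat_lit 9792832) (BT.node (nat_lit 9792704) (BT.node (nat_lit 9792640) (BT.leaf (nat_lit 34487825)) (BT.leaf (nat_lit 39483397))) (BT.node (nat_lit 9792768) (BT.leaf (nat_lit 39416857)) (BT.leaf (nat_lit 39416865)))) (BT.node (nat_lit 9793024) (BT.node (nat_lit 9792896) (BT.leaf (nat_lit 34495249)) (BT.leaf (nat_lit 39315217))) (BT.node (nat_lit 9793088) (BT.leaf (nat_lit 34495757)) (BT.leaf (nat_lit 38445585)))))) (BT.node (nat_lit 9794048) (BT.node (nat_lit 9793600) (BT.node (nat_lit 9793280) (BT.node (nat_lit 9793216) (BT.leaf (nat_lit 38445589)) (BT.leaf (nat_lit 38445597))) (BT.node (nat_lit 9793344) (BT.leaf (nat_lit 34351637)) (BT.leaf (nat_lit 39145761)))) (BT.node (nat_lit 9793728) (BT.node (nat_lit 9793664) (BT.leaf (nat_lit 34495517)) (BT.leaf (nat_lit 35366169))) (BT.node (nat_lit 9793856) (BT.leaf (nat_lit 34496785)) (BT.leaf (nat_lit 37087513))))) (BT.node (nat_lit 9794304) (BT.node (nat_lit 9794176) (BT.node (nat_lit 9794112) (BT.leaf (nat_lit 34495777)) (BT.leaf (nat_lit 39139589))) (BT.node (nat_lit 9794240) (BT.leaf (nat_lit 40060689)) (BT.leaf (nat_lit 37673505)))) (BT.node (nat_lit 9794432) (BT.node (nat_lit 9794368) (BT.leaf (nat_lit 34112797)) (BT.leaf (nat_lit 37673481))) (BT.node (nat_lit 9794496) (BT.leaf (nat_lit 39142665)) (BT.leaf (nat_lit 39142661)))))))) (BT.node (nat_lit 9797184) (BT.node (nat_lit 9795968) (BT.node (nat_lit 9795328) (BT.node (nat_lit 9795008) (BT.node (nat_lit 9794880) (BT.node (nat_lit 9794816) (BT.leaf (nat_lit 34619397)) (BT.leaf (nat_lit 39141389))) (BT.node (nat_lit 9794944) (BT.leaf (nat_lit 39141125)) (BT.leaf (nat_lit 39625477)))) (BT.node (nat_lit 9795136) (BT.node (nat_lit 9795072) (BT.leaf (nat_lit 39625481)) (BT.leaf (nat_lit 39626249))) (BT.node (nat_lit 9795200) (BT.leaf (nat_lit 34617873)) (BT.leaf (nat_lit 34497041))))) (BT.node (nat_lit 9795712) (BT.node (nat_lit 9795520) (BT.node (nat_lit 9795456) (BT.leaf (nat_lit 39453701)) (BT.leaf (nat_lit 39454473))) (BT.node (nat_lit 9795648) (BT.leaf (nat_lit 34498321)) (BT.leaf (nat_lit 34498577)))) (BT.node (nat_lit 9795840) (BT.node (nat_lit 9795776) (BT.leaf (nat_lit 37732117)) (BT.leaf (nat_lit 39425565))) (BT.node (nat_lit 9795904) (BT.leaf (nat_lit 34606089)) (BT.leaf (nat_lit 39416077)))))) (BT.node (nat_lit 9796544) (BT.node (nat_lit 9796224) (BT.node (nat_lit 9796096) (BT.node (nat_lit 9796032) (BT.leaf (nat_lit 39426589)) (BT.leaf (nat_lit 39416097))) (BT.node (nat_lit 9796160) (BT.leaf (nat_lit 34499349)) (BT.leaf (nat_lit 39426845)))) (BT.node (nat_lit 9796416) (BT.node (nat_lit 9796352) (BT.leaf (nat_lit 34500117)) (BT.leaf (nat_lit 39416841))) (BT.node (nat_lit 9796480) (BT.leaf (nat_lit 39416837)) (BT.leaf (nat_lit 34500125))))) (BT.node (nat_lit 9796928) (BT.node (nat_lit 9796800) (BT.node (nat_lit 9796672) (BT.leaf (nat_lit 34500381)) (BT.leaf (nat_lit 39416845))) (BT.node (nat_lit 9796864) (BT.leaf (nat_lit 34549273)) (BT.leaf (nat_lit 39036433)))) (BT.node (nat_lit 9797056) (BT.node (nat_lit 9796992) (BT.leaf (nat_lit 34589201)) (BT.leaf (nat_lit 39036445))) (BT.node (nat_lit 9797120) (BT.leaf (nat_lit 39157025)) (BT.leaf (nat_lit 39158049))))))) (BT.node (nat_lit 9798656) (BT.node (nat_lit 9798080) (BT.node (nat_lit 9797824) (BT.node (nat_lit 9797696) (BT.node (nat_lit 9797248) (BT.leaf (nat_lit 39158561)) (BT.leaf (nat_lit 35766557))) (BT.node (nat_lit 9797760) (BT.leaf (nat_lit 37928209)) (BT.leaf (nat_lit 34585877)))) (BT.node (nat_lit 9797952) (BT.node (nat_lit 9797888) (BT.leaf (nat_lit 40486149)) (BT.leaf (nat_lit 40486681))) (BT.node (nat_lit 9798016) (BT.leaf (nat_lit 38460189)) (BT.leaf (nat_lit 40486177))))) (BT.node (nat_lit 9798400) (BT.node (nat_lit 9798272) (BT.node (nat_lit 9798144) (BT.leaf (nat_lit 39431945)) (BT.leaf (nat_lit 39431941))) (BT.node (nat_lit 9798336) (BT.leaf (nat_lit 39432225)) (BT.leaf (nat_lit 34501393)))) (BT.node (nat_lit 9798528) (BT.node (nat_lit 9798464) (BT.leaf (nat_lit 39430689)) (BT.leaf (nat_lit 40410649))) (BT.node (nat_lit 9798592) (BT.leaf (nat_lit 35407133)) (BT.leaf (nat_lit 34655513)))))) (BT.node (nat_lit 9799232) (BT.node (nat_lit 9798976) (BT.node (nat_lit 9798848) (BT.node (nat_lit 9798784) (BT.leaf (nat_lit 37729821)) (BT.leaf (nat_lit 39432993))) (BT.node (nat_lit 9798912) (BT.leaf (nat_lit 35193113)) (BT.leaf (nat_lit 39434245)))) (BT.node (nat_lit 9799104) (BT.node (nat_lit 9799040) (BT.leaf (nat_lit 38460177)) (BT.leaf (nat_lit 40008481))) (BT.node (nat_lit 9799168) (BT.leaf (nat_lit 37927177)) (BT.leaf (nat_lit 39436293))))) (BT.node (nat_lit 9799488) (BT.node (nat_lit 9799360) (BT.node (nat_lit 9799296) (BT.leaf (nat_lit 40050457)) (BT.leaf (nat_lit 38552093))) (BT.node (nat_lit 9799424) (BT.leaf (nat_lit 39462153)) (BT.leaf (nat_lit 39462149)))) (BT.node (nat_lit 9799616) (BT.node (nat_lit 9799552) (BT.leaf (nat_lit 39461893)) (BT.leaf (nat_lit 40049945))) (BT.node (nat_lit 9799680) (BT.leaf (nat_lit 40483869)) (BT.leaf (nat_lit 34502161))))))))))) (BT.node (nat_lit 9820032) (BT.node (nat_lit 9810304) (BT.node (nat_lit 9803968) (BT.node (nat_lit 9801280) (BT.node (nat_lit 9800448) (BT.node (nat_lit 9800066) (BT.node (nat_lit 9799936) (BT.node (nat_lit 9799808) (BT.node (nat_lit 9799744) (BT.leaf (nat_lit 613052)) (BT.leaf (nat_lit 34502417))) (BT.node (nat_lit 9799872) (BT.leaf (nat_lit 35257605)) (BT.leaf (nat_lit 35257625)))) (BT.node (nat_lit 9800064) (BT.node (nat_lit 9800000) (BT.leaf (nat_lit 39482121)) (BT.leaf (nat_lit 35239449))) (BT.node (nat_lit 9800065) (BT.leaf (nat_lit 35253261)) (BT.leaf (nat_lit 650484))))) (BT.node (nat_lit 9800192) (BT.node (nat_lit 9800070) (BT.node (nat_lit 9800067) (BT.leaf (nat_lit 650484)) (BT.leaf (nat_lit 650484))) (BT.node (nat_lit 9800128) (BT.leaf (nat_lit 650484)) (BT.leaf (nat_lit 34502673)))) (BT.node (nat_lit 9800320) (BT.node (nat_lit 9800256) (BT.leaf (nat_lit 34502929)) (BT.leaf (nat_lit 39438877))) (BT.node (nat_lit 9800384) (BT.leaf (nat_lit 35258393)) (BT.leaf (nat_lit 34502933)))))) (BT.node (nat_lit 9800963) (BT.node (nat_lit 9800705) (BT.node (nat_lit 9800576) (BT.node (nat_lit 9800512) (BT.leaf (nat_lit 35746329)) (BT.leaf (nat_lit 38070541))) (BT.node (nat_lit 9800704) (BT.leaf (nat_lit 39445789)) (BT.leaf (nat_lit 36465945)))) (BT.node (nat_lit 9800896) (BT.node (nat_lit 9800832) (BT.leaf (nat_lit 613500)) (BT.leaf (nat_lit 39447073))) (BT.node (nat_lit 9800960) (BT.leaf (nat_lit 39439901)) (BT.leaf (nat_lit 39263245))))) (BT.node (nat_lit 9801030) (BT.node (nat_lit 9800968) (BT.node (nat_lit 9800966) (BT.leaf (nat_lit 617308)) (BT.leaf (nat_lit 617308))) (BT.node (nat_lit 9801024) (BT.leaf (nat_lit 617308)) (BT.leaf (nat_lit 39263265)))) (BT.node (nat_lit 9801152) (BT.node (nat_lit 9801088) (BT.leaf (nat_lit 617316)) (BT.leaf (nat_lit 35677461))) (BT.node (nat_lit 9801216) (BT.leaf (nat_lit 38070533)) (BT.leaf (nat_lit 38070537))))))) (BT.node (nat_lit 9802880) (BT.node (nat_lit 9802240) (BT.node (nat_lit 9801984) (BT.node (nat_lit 9801728) (BT.node (nat_lit 9801664) (BT.leaf (nat_lit 39450909)) (BT.leaf (nat_lit 37085717))) (BT.node (nat_lit 9801792) (BT.leaf (nat_lit 34504217)) (BT.leaf (nat_lit 37085729)))) (BT.node (nat_lit 9802112) (BT.node (nat_lit 9802048) (BT.leaf (nat_lit 34504465)) (BT.leaf (nat_lit 39133457))) (BT.node (nat_lit 9802176) (BT.leaf (nat_lit 34530065)) (BT.leaf (nat_lit 35926545))))) (BT.node (nat_lit 9802624) (BT.node (nat_lit 9802432) (BT.node (nat_lit 9802304) (BT.leaf (nat_lit 34525717)) (BT.leaf (nat_lit 39134981))) (BT.node (nat_lit 9802560) (BT.leaf (nat_lit 39138589)) (BT.leaf (nat_lit 35360025)))) (BT.node (nat_lit 9802752) (BT.node (nat_lit 9802688) (BT.leaf (nat_lit 34930965)) (BT.leaf (nat_lit 39444253))) (BT.node (nat_lit 9802816) (BT.leaf (nat_lit 34506773)) (BT.leaf (nat_lit 35245853)))))) (BT.node (nat_lit 9803456) (BT.node (nat_lit 9803200) (BT.node (nat_lit 9803008) (BT.node (nat_lit 9802944) (BT.leaf (nat_lit 35253253)) (BT.leaf (nat_lit 35253257))) (BT.node (nat_lit 9803072) (BT.leaf (nat_lit 35253273)) (BT.leaf (nat_lit 35253281)))) (BT.node (nat_lit 9803328) (BT.node (nat_lit 9803264) (BT.leaf (nat_lit 39445521)) (BT.leaf (nat_lit 39445777))) (BT.node (nat_lit 9803392) (BT.leaf (nat_lit 39446033)) (BT.leaf (nat_lit 39447329))))) (BT.node (nat_lit 9803717) (BT.node (nat_lit 9803584) (BT.node (nat_lit 9803520) (BT.leaf (nat_lit 38723345)) (BT.leaf (nat_lit 39298573))) (BT.node (nat_lit 9803648) (BT.leaf (nat_lit 38723357)) (BT.leaf (nat_lit 38758677)))) (BT.node (nat_lit 9803840) (BT.node (nat_lit 9803776) (BT.leaf (nat_lit 645452)) (BT.leaf (nat_lit 38684165))) (BT.node (nat_lit 9803904) (BT.leaf (nat_lit 38684169)) (BT.leaf (nat_lit 38684173)))))))) (BT.node (nat_lit 9807488) (BT.node (nat_lit 9805696) (BT.node (nat_lit 9804864) (BT.node (nat_lit 9804480) (BT.node (nat_lit 9804352) (BT.node (nat_lit 9804288) (BT.leaf (nat_lit 34507541)) (BT.leaf (nat_lit 34507545))) (BT.node (nat_lit 9804416) (BT.leaf (nat_lit 39452169)) (BT.leaf (nat_lit 39452165)))) (BT.node (nat_lit 9804672) (BT.node (nat_lit 9804544) (BT.leaf (nat_lit 34508573)) (BT.leaf (nat_lit 34508313))) (BT.node (nat_lit 9804736) (BT.leaf (nat_lit 39194373)) (BT.leaf (nat_lit 39272709))))) (BT.node (nat_lit 9805248) (BT.node (nat_lit 9805056) (BT.node (nat_lit 9804992) (BT.leaf (nat_lit 39137541)) (BT.leaf (nat_lit 39423753))) (BT.node (nat_lit 9805184) (BT.leaf (nat_lit 39423749)) (BT.leaf (nat_lit 39424261)))) (BT.node (nat_lit 9805504) (BT.node (nat_lit 9805312) (BT.leaf (nat_lit 39455261)) (BT.leaf (nat_lit 39694869))) (BT.node (nat_lit 9805568) (BT.leaf (nat_lit 39458321)) (BT.leaf (nat_lit 39539205)))))) (BT.node (nat_lit 9806336) (BT.node (nat_lit 9806016) (BT.node (nat_lit 9805888) (BT.node (nat_lit 9805760) (BT.leaf (nat_lit 39424269)) (BT.leaf (nat_lit 39424273))) (BT.node (nat_lit 9805952) (BT.leaf (nat_lit 39424281)) (BT.leaf (nat_lit 39424285)))) (BT.node (nat_lit 9806272) (BT.node (nat_lit 9806080) (BT.leaf (nat_lit 39424289)) (BT.leaf (nat_lit 35371013))) (BT.node (nat_lit 9806278) (BT.leaf (nat_lit 39436297)) (BT.leaf (nat_lit 645032))))) (BT.node (nat_lit 9806656) (BT.node (nat_lit 9806464) (BT.node (nat_lit 9806400) (BT.leaf (nat_lit 39436041)) (BT.leaf (nat_lit 39436037))) (BT.node (nat_lit 9806592) (BT.leaf (nat_lit 39444237)) (BT.leaf (nat_lit 39919637)))) (BT.node (nat_lit 9807232) (BT.node (nat_lit 9806720) (BT.leaf (nat_lit 39630101)) (BT.leaf (nat_lit 34503441))) (BT.node (nat_lit 9807296) (BT.leaf (nat_lit 39538957)) (BT.leaf (nat_lit 34507793))))))) (BT.node (nat_lit 9808960) (BT.node (nat_lit 9808384) (BT.node (nat_lit 9807808) (BT.node (nat_lit 9807680) (BT.node (nat_lit 9807616) (BT.leaf (nat_lit 39436305)) (BT.leaf (nat_lit 39436317))) (BT.node (nat_lit 9807744) (BT.leaf (nat_lit 39436321)) (BT.leaf (nat_lit 41175309)))) (BT.node (nat_lit 9808192) (BT.node (nat_lit 9808000) (BT.leaf (nat_lit 35097621)) (BT.leaf (nat_lit 39466521))) (BT.node (nat_lit 9808320) (BT.leaf (nat_lit 41719301)) (BT.leaf (nat_lit 39575585))))) (BT.node (nat_lit 9808640) (BT.node (nat_lit 9808512) (BT.node (nat_lit 9808448) (BT.leaf (nat_lit 39170325)) (BT.leaf (nat_lit 34509333))) (BT.node (nat_lit 9808576) (BT.leaf (nat_lit 39549961)) (BT.leaf (nat_lit 40693773)))) (BT.node (nat_lit 9808768) (BT.node (nat_lit 9808704) (BT.leaf (nat_lit 40702749)) (BT.leaf (nat_lit 39576865))) (BT.node (nat_lit 9808896) (BT.leaf (nat_lit 34509341)) (BT.leaf (nat_lit 41155605)))))) (BT.node (nat_lit 9809600) (BT.node (nat_lit 9809344) (BT.node (nat_lit 9809152) (BT.node (nat_lit 9809024) (BT.leaf (nat_lit 34509329)) (BT.leaf (nat_lit 41155093))) (BT.node (nat_lit 9809280) (BT.leaf (nat_lit 34509853)) (BT.leaf (nat_lit 35259937)))) (BT.node (nat_lit 9809472) (BT.node (nat_lit 9809408) (BT.leaf (nat_lit 40717325)) (BT.leaf (nat_lit 39557645))) (BT.node (nat_lit 9809536) (BT.leaf (nat_lit 35259921)) (BT.leaf (nat_lit 39407625))))) (BT.node (nat_lit 9810048) (BT.node (nat_lit 9809856) (BT.node (nat_lit 9809664) (BT.leaf (nat_lit 35259933)) (BT.leaf (nat_lit 38593289))) (BT.node (nat_lit 9809984) (BT.leaf (nat_lit 34510369)) (BT.leaf (nat_lit 34510349)))) (BT.node (nat_lit 9810176) (BT.node (nat_lit 9810112) (BT.leaf (nat_lit 39473681)) (BT.leaf (nat_lit 39473441))) (BT.node (nat_lit 9810240) (BT.leaf (nat_lit 39675157)) (BT.leaf (nat_lit 38948125))))))))) (BT.node (nat_lit 9815232) (BT.node (nat_lit 9812416) (BT.node (nat_lit 9811392) (BT.node (nat_lit 9810816) (BT.node (nat_lit 9810560) (BT.node (nat_lit 9810432) (BT.node (nat_lit 9810368) (BT.leaf (nat_lit 41085449)) (BT.leaf (nat_lit 35243541))) (BT.node (nat_lit 9810496) (BT.leaf (nat_lit 35257097)) (BT.leaf (nat_lit 34511133)))) (BT.node (nat_lit 9810688) (BT.node (nat_lit 9810624) (BT.leaf (nat_lit 34511389)) (BT.leaf (nat_lit 35257113))) (BT.node (nat_lit 9810752) (BT.leaf (nat_lit 35257121)) (BT.leaf (nat_lit 38493721))))) (BT.node (nat_lit 9811008) (BT.node (nat_lit 9810818) (BT.node (nat_lit 9810817) (BT.leaf (nat_lit 38493725)) (BT.leaf (nat_lit 613288))) (BT.node (nat_lit 9810944) (BT.leaf (nat_lit 613288)) (BT.leaf (nat_lit 41401369)))) (BT.node (nat_lit 9811136) (BT.node (nat_lit 9811072) (BT.leaf (nat_lit 37419029)) (BT.leaf (nat_lit 34518045))) (BT.node (nat_lit 9811264) (BT.leaf (nat_lit 39474181)) (BT.leaf (nat_lit 41165845)))))) (BT.node (nat_lit 9811840) (BT.node (nat_lit 9811584) (BT.node (nat_lit 9811463) (BT.node (nat_lit 9811462) (BT.leaf (nat_lit 41732121)) (BT.leaf (nat_lit 636564))) (BT.node (nat_lit 9811520) (BT.leaf (nat_lit 636564)) (BT.leaf (nat_lit 39477517)))) (BT.node (nat_lit 9811712) (BT.node (nat_lit 9811648) (BT.leaf (nat_lit 34940693)) (BT.leaf (nat_lit 39477537))) (BT.node (nat_lit 9811776) (BT.leaf (nat_lit 35314969)) (BT.leaf (nat_lit 35235077))))) (BT.node (nat_lit 9812096) (BT.node (nat_lit 9811968) (BT.node (nat_lit 9811904) (BT.leaf (nat_lit 35235081)) (BT.leaf (nat_lit 35235085))) (BT.node (nat_lit 9812032) (BT.leaf (nat_lit 35235093)) (BT.leaf (nat_lit 35538705)))) (BT.node (nat_lit 9812288) (BT.node (nat_lit 9812160) (BT.leaf (nat_lit 39065881)) (BT.leaf (nat_lit 35538713))) (BT.node (nat_lit 9812352) (BT.leaf (nat_lit 35258889)) (BT.leaf (nat_lit 35258893))))))) (BT.node (nat_lit 9813440) (BT.node (nat_lit 9812928) (BT.node (nat_lit 9812736) (BT.node (nat_lit 9812544) (BT.node (nat_lit 9812480) (BT.leaf (nat_lit 36630549)) (BT.leaf (nat_lit 38612241))) (BT.node (nat_lit 9812672) (BT.leaf (nat_lit 40473097)) (BT.leaf (nat_lit 35252997)))) (BT.node (nat_lit 9812806) (BT.node (nat_lit 9812800) (BT.leaf (nat_lit 35253001)) (BT.leaf (nat_lit 39482117))) (BT.node (nat_lit 9812864) (BT.leaf (nat_lit 651024)) (BT.leaf (nat_lit 34512913))))) (BT.node (nat_lit 9813184) (BT.node (nat_lit 9813056) (BT.node (nat_lit 9812992) (BT.leaf (nat_lit 39483657)) (BT.leaf (nat_lit 39483653))) (BT.node (nat_lit 9813120) (BT.leaf (nat_lit 39483401)) (BT.leaf (nat_lit 34513681)))) (BT.node (nat_lit 9813312) (BT.node (nat_lit 9813248) (BT.leaf (nat_lit 35459845)) (BT.leaf (nat_lit 35459861))) (BT.node (nat_lit 9813376) (BT.leaf (nat_lit 35459869)) (BT.leaf (nat_lit 38863137)))))) (BT.node (nat_lit 9814400) (BT.node (nat_lit 9813952) (BT.node (nat_lit 9813824) (BT.node (nat_lit 9813696) (BT.leaf (nat_lit 40695045)) (BT.leaf (nat_lit 38915093))) (BT.node (nat_lit 9813888) (BT.leaf (nat_lit 38914833)) (BT.leaf (nat_lit 38914841)))) (BT.node (nat_lit 9814144) (BT.node (nat_lit 9814080) (BT.leaf (nat_lit 38838305)) (BT.leaf (nat_lit 39502861))) (BT.node (nat_lit 9814208) (BT.leaf (nat_lit 34011669)) (BT.leaf (nat_lit 38838293))))) (BT.node (nat_lit 9814912) (BT.node (nat_lit 9814592) (BT.node (nat_lit 9814528) (BT.leaf (nat_lit 39257869)) (BT.leaf (nat_lit 38436373))) (BT.node (nat_lit 9814848) (BT.leaf (nat_lit 38043673)) (BT.leaf (nat_lit 36290317)))) (BT.node (nat_lit 9815104) (BT.node (nat_lit 9814984) (BT.leaf (nat_lit 36290313)) (BT.leaf (nat_lit 641248))) (BT.node (nat_lit 9815168) (BT.leaf (nat_lit 38095365)) (BT.leaf (nat_lit 38095369)))))))) (BT.node (nat_lit 9817600) (BT.node (nat_lit 9816512) (BT.node (nat_lit 9815872) (BT.node (nat_lit 9815616) (BT.node (nat_lit 9815424) (BT.node (nat_lit 9815296) (BT.leaf (nat_lit 40857109)) (BT.leaf (nat_lit 38095385))) (BT.node (nat_lit 9815552) (BT.leaf (nat_lit 41747225)) (BT.leaf (nat_lit 39203873)))) (BT.node (nat_lit 9815744) (BT.node (nat_lit 9815680) (BT.leaf (nat_lit 39158293)) (BT.leaf (nat_lit 39361569))) (BT.node (nat_lit 9815808) (BT.leaf (nat_lit 39157253)) (BT.leaf (nat_lit 41678361))))) (BT.node (nat_lit 9816256) (BT.node (nat_lit 9816128) (BT.node (nat_lit 9815936) (BT.leaf (nat_lit 35752473)) (BT.leaf (nat_lit 38070037))) (BT.node (nat_lit 9816192) (BT.leaf (nat_lit 35678485)) (BT.leaf (nat_lit 35030813)))) (BT.node (nat_lit 9816384) (BT.node (nat_lit 9816320) (BT.leaf (nat_lit 38939681)) (BT.leaf (nat_lit 41746949))) (BT.node (nat_lit 9816448) (BT.leaf (nat_lit 35031057)) (BT.leaf (nat_lit 35031069)))))) (BT.node (nat_lit 9817088) (BT.node (nat_lit 9816768) (BT.node (nat_lit 9816640) (BT.node (nat_lit 9816576) (BT.leaf (nat_lit 34515997)) (BT.leaf (nat_lit 39776545))) (BT.node (nat_lit 9816704) (BT.leaf (nat_lit 39776525)) (BT.leaf (nat_lit 38320133)))) (BT.node (nat_lit 9816960) (BT.node (nat_lit 9816832) (BT.leaf (nat_lit 38320137)) (BT.leaf (nat_lit 36936205))) (BT.node (nat_lit 9817024) (BT.leaf (nat_lit 34519061)) (BT.leaf (nat_lit 39142945))))) (BT.node (nat_lit 9817344) (BT.node (nat_lit 9817216) (BT.node (nat_lit 9817152) (BT.leaf (nat_lit 39489557)) (BT.leaf (nat_lit 39142917))) (BT.node (nat_lit 9817280) (BT.leaf (nat_lit 34516241)) (BT.leaf (nat_lit 34516497)))) (BT.node (nat_lit 9817472) (BT.node (nat_lit 9817408) (BT.leaf (nat_lit 39653645)) (BT.leaf (nat_lit 39653665))) (BT.node (nat_lit 9817536) (BT.leaf (nat_lit 34516513)) (BT.leaf (nat_lit 39141901))))))) (BT.node (nat_lit 9819072) (BT.node (nat_lit 9818048) (BT.node (nat_lit 9817856) (BT.node (nat_lit 9817728) (BT.node (nat_lit 9817664) (BT.leaf (nat_lit 39157765)) (BT.leaf (nat_lit 38959637))) (BT.node (nat_lit 9817792) (BT.leaf (nat_lit 41631265)) (BT.leaf (nat_lit 38942485)))) (BT.node (nat_lit 9817925) (BT.node (nat_lit 9817920) (BT.leaf (nat_lit 37714697)) (BT.leaf (nat_lit 34673181))) (BT.node (nat_lit 9817984) (BT.leaf (nat_lit 624868)) (BT.leaf (nat_lit 39485217))))) (BT.node (nat_lit 9818560) (BT.node (nat_lit 9818304) (BT.node (nat_lit 9818176) (BT.leaf (nat_lit 38958613)) (BT.leaf (nat_lit 34517009))) (BT.node (nat_lit 9818432) (BT.leaf (nat_lit 34516757)) (BT.leaf (nat_lit 34517269)))) (BT.node (nat_lit 9818816) (BT.node (nat_lit 9818752) (BT.leaf (nat_lit 34516765)) (BT.leaf (nat_lit 39402773))) (BT.node (nat_lit 9818880) (BT.leaf (nat_lit 34517521)) (BT.leaf (nat_lit 34516753)))))) (BT.node (nat_lit 9819456) (BT.node (nat_lit 9819392) (BT.node (nat_lit 9819200) (BT.node (nat_lit 9819136) (BT.leaf (nat_lit 39494149)) (BT.leaf (nat_lit 39494153))) (BT.node (nat_lit 9819328) (BT.leaf (nat_lit 34517277)) (BT.leaf (nat_lit 39494945)))) (BT.node (nat_lit 9819396) (BT.node (nat_lit 9819395) (BT.leaf (nat_lit 39493921)) (BT.leaf (nat_lit 613724))) (BT.node (nat_lit 9819398) (BT.leaf (nat_lit 622300)) (BT.leaf (nat_lit 622300))))) (BT.node (nat_lit 9819776) (BT.node (nat_lit 9819584) (BT.node (nat_lit 9819520) (BT.leaf (nat_lit 38070025)) (BT.leaf (nat_lit 38070049))) (BT.node (nat_lit 9819712) (BT.leaf (nat_lit 36235553)) (BT.leaf (nat_lit 34522397)))) (BT.node (nat_lit 9819904) (BT.node (nat_lit 9819840) (BT.leaf (nat_lit 36235533)) (BT.leaf (nat_lit 36235537))) (BT.node (nat_lit 9819968) (BT.leaf (nat_lit 36235541)) (BT.leaf (nat_lit 36235545)))))))))) (BT.node (nat_lit 9829504) (BT.node (nat_lit 9824320) (BT.node (nat_lit 9822080) (BT.node (nat_lit 9821056) (BT.node (nat_lit 9820544) (BT.node (nat_lit 9820288) (BT.node (nat_lit 9820160) (BT.node (nat_lit 9820096) (BT.leaf (nat_lit 36235549)) (BT.leaf (nat_lit 34646533))) (BT.node (nat_lit 9820224) (BT.leaf (nat_lit 34646537)) (BT.leaf (nat_lit 34646549)))) (BT.node (nat_lit 9820416) (BT.node (nat_lit 9820352) (BT.leaf (nat_lit 34646561)) (BT.leaf (nat_lit 34514209))) (BT.node (nat_lit 9820480) (BT.leaf (nat_lit 38950929)) (BT.leaf (nat_lit 40242185))))) (BT.node (nat_lit 9820800) (BT.node (nat_lit 9820672) (BT.node (nat_lit 9820608) (BT.leaf (nat_lit 35830045)) (BT.leaf (nat_lit 39649549))) (BT.node (nat_lit 9820736) (BT.leaf (nat_lit 34727969)) (BT.leaf (nat_lit 38958369)))) (BT.node (nat_lit 9820928) (BT.node (nat_lit 9820864) (BT.leaf (nat_lit 34784273)) (BT.leaf (nat_lit 40312597))) (BT.node (nat_lit 9820992) (BT.leaf (nat_lit 40312853)) (BT.leaf (nat_lit 39433241)))))) (BT.node (nat_lit 9821568) (BT.node (nat_lit 9821312) (BT.node (nat_lit 9821184) (BT.node (nat_lit 9821120) (BT.leaf (nat_lit 34519069)) (BT.leaf (nat_lit 38390033))) (BT.node (nat_lit 9821248) (BT.leaf (nat_lit 38390045)) (BT.leaf (nat_lit 39314701)))) (BT.node (nat_lit 9821440) (BT.node (nat_lit 9821376) (BT.leaf (nat_lit 39314721)) (BT.leaf (nat_lit 39314693))) (BT.node (nat_lit 9821504) (BT.leaf (nat_lit 35721997)) (BT.leaf (nat_lit 35721741))))) (BT.node (nat_lit 9821824) (BT.node (nat_lit 9821696) (BT.node (nat_lit 9821632) (BT.leaf (nat_lit 35023393)) (BT.leaf (nat_lit 36312081))) (BT.node (nat_lit 9821760) (BT.leaf (nat_lit 40567817)) (BT.leaf (nat_lit 36933125)))) (BT.node (nat_lit 9821952) (BT.node (nat_lit 9821888) (BT.leaf (nat_lit 39311881)) (BT.leaf (nat_lit 34535189))) (BT.node (nat_lit 9822016) (BT.leaf (nat_lit 41350677)) (BT.leaf (nat_lit 37409309))))))) (BT.node (nat_lit 9823232) (BT.node (nat_lit 9822592) (BT.node (nat_lit 9822336) (BT.node (nat_lit 9822208) (BT.node (nat_lit 9822144) (BT.leaf (nat_lit 35060513)) (BT.leaf (nat_lit 35062305))) (BT.node (nat_lit 9822272) (BT.leaf (nat_lit 39053845)) (BT.leaf (nat_lit 34138389)))) (BT.node (nat_lit 9822464) (BT.node (nat_lit 9822400) (BT.leaf (nat_lit 34886153)) (BT.leaf (nat_lit 38692113))) (BT.node (nat_lit 9822528) (BT.leaf (nat_lit 34520341)) (BT.leaf (nat_lit 37779733))))) (BT.node (nat_lit 9822976) (BT.node (nat_lit 9822720) (BT.node (nat_lit 9822656) (BT.leaf (nat_lit 38124053)) (BT.leaf (nat_lit 38436361))) (BT.node (nat_lit 9822912) (BT.leaf (nat_lit 38436357)) (BT.leaf (nat_lit 35615505)))) (BT.node (nat_lit 9823104) (BT.node (nat_lit 9823040) (BT.leaf (nat_lit 35826969)) (BT.leaf (nat_lit 34602761))) (BT.node (nat_lit 9823168) (BT.leaf (nat_lit 35112965)) (BT.leaf (nat_lit 35404313)))))) (BT.node (nat_lit 9823744) (BT.node (nat_lit 9823488) (BT.node (nat_lit 9823360) (BT.node (nat_lit 9823296) (BT.leaf (nat_lit 35111957)) (BT.leaf (nat_lit 38522913))) (BT.node (nat_lit 9823424) (BT.leaf (nat_lit 39330825)) (BT.leaf (nat_lit 34515729)))) (BT.node (nat_lit 9823616) (BT.node (nat_lit 9823552) (BT.leaf (nat_lit 34917389)) (BT.leaf (nat_lit 38079001))) (BT.node (nat_lit 9823680) (BT.leaf (nat_lit 39485197)) (BT.leaf (nat_lit 41750305))))) (BT.node (nat_lit 9824000) (BT.node (nat_lit 9823872) (BT.node (nat_lit 9823808) (BT.leaf (nat_lit 36163601)) (BT.leaf (nat_lit 39485709))) (BT.node (nat_lit 9823936) (BT.leaf (nat_lit 36163609)) (BT.leaf (nat_lit 34514973)))) (BT.node (nat_lit 9824128) (BT.node (nat_lit 9824064) (BT.leaf (nat_lit 39486737)) (BT.leaf (nat_lit 36062749))) (BT.node (nat_lit 9824192) (BT.leaf (nat_lit 40466713)) (BT.leaf (nat_lit 39511073)))))))) (BT.node (nat_lit 9827264) (BT.node (nat_lit 9825792) (BT.node (nat_lit 9824832) (BT.node (nat_lit 9824576) (BT.node (nat_lit 9824448) (BT.node (nat_lit 9824384) (BT.leaf (nat_lit 34522385)) (BT.leaf (nat_lit 39717657))) (BT.node (nat_lit 9824512) (BT.leaf (nat_lit 39492877)) (BT.leaf (nat_lit 36060953)))) (BT.node (nat_lit 9824704) (BT.node (nat_lit 9824640) (BT.leaf (nat_lit 36060693)) (BT.leaf (nat_lit 41148433))) (BT.node (nat_lit 9824768) (BT.leaf (nat_lit 41248797)) (BT.leaf (nat_lit 36060677))))) (BT.node (nat_lit 9825472) (BT.node (nat_lit 9824960) (BT.node (nat_lit 9824896) (BT.leaf (nat_lit 36060681)) (BT.leaf (nat_lit 36060697))) (BT.node (nat_lit 9825280) (BT.leaf (nat_lit 36060705)) (BT.leaf (nat_lit 39515677)))) (BT.node (nat_lit 9825664) (BT.node (nat_lit 9825536) (BT.leaf (nat_lit 37083157)) (BT.leaf (nat_lit 37083169))) (BT.node (nat_lit 9825728) (BT.leaf (nat_lit 34523409)) (BT.leaf (nat_lit 41083425)))))) (BT.node (nat_lit 9826368) (BT.node (nat_lit 9826048) (BT.node (nat_lit 9825920) (BT.node (nat_lit 9825856) (BT.leaf (nat_lit 38960645)) (BT.leaf (nat_lit 38960649))) (BT.node (nat_lit 9825984) (BT.leaf (nat_lit 34523665)) (BT.leaf (nat_lit 34523921)))) (BT.node (nat_lit 9826176) (BT.node (nat_lit 9826112) (BT.leaf (nat_lit 35611937)) (BT.leaf (nat_lit 35639061))) (BT.node (nat_lit 9826304) (BT.leaf (nat_lit 35611917)) (BT.leaf (nat_lit 35611925))))) (BT.node (nat_lit 9826624) (BT.node (nat_lit 9826496) (BT.node (nat_lit 9826432) (BT.leaf (nat_lit 35611933)) (BT.leaf (nat_lit 34524449))) (BT.node (nat_lit 9826560) (BT.leaf (nat_lit 38410249)) (BT.leaf (nat_lit 34990617)))) (BT.node (nat_lit 9827072) (BT.node (nat_lit 9827008) (BT.leaf (nat_lit 41427205)) (BT.leaf (nat_lit 39150881))) (BT.node (nat_lit 9827136) (BT.leaf (nat_lit 34900757)) (BT.leaf (nat_lit 34983701))))))) (BT.node (nat_lit 9828288) (BT.node (nat_lit 9827776) (BT.node (nat_lit 9827520) (BT.node (nat_lit 9827392) (BT.node (nat_lit 9827328) (BT.leaf (nat_lit 35941653)) (BT.leaf (nat_lit 35944197))) (BT.node (nat_lit 9827456) (BT.leaf (nat_lit 39289633)) (BT.leaf (nat_lit 35354381)))) (BT.node (nat_lit 9827648) (BT.node (nat_lit 9827584) (BT.leaf (nat_lit 39319317)) (BT.leaf (nat_lit 38674973))) (BT.node (nat_lit 9827712) (BT.leaf (nat_lit 34525209)) (BT.leaf (nat_lit 35944213))))) (BT.node (nat_lit 9828032) (BT.node (nat_lit 9827904) (BT.node (nat_lit 9827840) (BT.leaf (nat_lit 35968277)) (BT.leaf (nat_lit 34014997))) (BT.node (nat_lit 9827968) (BT.leaf (nat_lit 34560525)) (BT.leaf (nat_lit 34008853)))) (BT.node (nat_lit 9828160) (BT.node (nat_lit 9828096) (BT.leaf (nat_lit 34525461)) (BT.leaf (nat_lit 41146885))) (BT.node (nat_lit 9828224) (BT.leaf (nat_lit 39138337)) (BT.leaf (nat_lit 41569293)))))) (BT.node (nat_lit 9828800) (BT.node (nat_lit 9828544) (BT.node (nat_lit 9828416) (BT.node (nat_lit 9828352) (BT.leaf (nat_lit 34202373)) (BT.leaf (nat_lit 35135521))) (BT.node (nat_lit 9828480) (BT.leaf (nat_lit 39522593)) (BT.leaf (nat_lit 39522061)))) (BT.node (nat_lit 9828672) (BT.node (nat_lit 9828608) (BT.leaf (nat_lit 39522573)) (BT.leaf (nat_lit 37043973))) (BT.node (nat_lit 9828736) (BT.leaf (nat_lit 40393757)) (BT.leaf (nat_lit 34799121))))) (BT.node (nat_lit 9829184) (BT.node (nat_lit 9828992) (BT.node (nat_lit 9828928) (BT.leaf (nat_lit 39285517)) (BT.leaf (nat_lit 35612437))) (BT.node (nat_lit 9829056) (BT.leaf (nat_lit 35612441)) (BT.leaf (nat_lit 35222561)))) (BT.node (nat_lit 9829378) (BT.node (nat_lit 9829376) (BT.leaf (nat_lit 36931357)) (BT.leaf (nat_lit 41149965))) (BT.node (nat_lit 9829440) (BT.leaf (nat_lit 646240)) (BT.leaf (nat_lit 35353621))))))))) (BT.node (nat_lit 9833664) (BT.node (nat_lit 9831492) (BT.node (nat_lit 9830528) (BT.node (nat_lit 9830016) (BT.node (nat_lit 9829760) (BT.node (nat_lit 9829632) (BT.node (nat_lit 9829568) (BT.leaf (nat_lit 34017565)) (BT.leaf (nat_lit 39083273))) (BT.node (nat_lit 9829696) (BT.leaf (nat_lit 35348757)) (BT.leaf (nat_lit 37671709)))) (BT.node (nat_lit 9829888) (BT.node (nat_lit 9829824) (BT.leaf (nat_lit 34528797)) (BT.leaf (nat_lit 41035549))) (BT.node (nat_lit 9829952) (BT.leaf (nat_lit 34928145)) (BT.leaf (nat_lit 34481413))))) (BT.node (nat_lit 9830272) (BT.node (nat_lit 9830144) (BT.node (nat_lit 9830080) (BT.leaf (nat_lit 39533345)) (BT.leaf (nat_lit 34483205))) (BT.node (nat_lit 9830208) (BT.leaf (nat_lit 34928401)) (BT.leaf (nat_lit 35532309)))) (BT.node (nat_lit 9830400) (BT.node (nat_lit 9830336) (BT.leaf (nat_lit 34543901)) (BT.leaf (nat_lit 40473121))) (BT.node (nat_lit 9830464) (BT.leaf (nat_lit 39573785)) (BT.leaf (nat_lit 34532369)))))) (BT.node (nat_lit 9831040) (BT.node (nat_lit 9830784) (BT.node (nat_lit 9830656) (BT.node (nat_lit 9830592) (BT.leaf (nat_lit 39527945)) (BT.leaf (nat_lit 34532637))) (BT.node (nat_lit 9830720) (BT.leaf (nat_lit 36928029)) (BT.leaf (nat_lit 37045513)))) (BT.node (nat_lit 9830848) (BT.node (nat_lit 9830787) (BT.leaf (nat_lit 34937377)) (BT.leaf (nat_lit 614484))) (BT.node (nat_lit 9830912) (BT.leaf (nat_lit 41552921)) (BT.leaf (nat_lit 37738253))))) (BT.node (nat_lit 9831296) (BT.node (nat_lit 9831168) (BT.node (nat_lit 9831104) (BT.leaf (nat_lit 34957329)) (BT.leaf (nat_lit 34957077))) (BT.node (nat_lit 9831232) (BT.leaf (nat_lit 34957061)) (BT.leaf (nat_lit 34957089)))) (BT.node (nat_lit 9831424) (BT.node (nat_lit 9831360) (BT.leaf (nat_lit 38444321)) (BT.leaf (nat_lit 34182425))) (BT.node (nat_lit 9831491) (BT.leaf (nat_lit 34856721)) (BT.leaf (nat_lit 651488))))))) (BT.node (nat_lit 9832640) (BT.node (nat_lit 9832128) (BT.node (nat_lit 9831680) (BT.node (nat_lit 9831616) (BT.node (nat_lit 9831552) (BT.leaf (nat_lit 651488)) (BT.leaf (nat_lit 38521885))) (BT.node (nat_lit 9831620) (BT.leaf (nat_lit 40322849)) (BT.leaf (nat_lit 642132)))) (BT.node (nat_lit 9831936) (BT.node (nat_lit 9831872) (BT.leaf (nat_lit 34676253)) (BT.leaf (nat_lit 35632141))) (BT.node (nat_lit 9832064) (BT.leaf (nat_lit 41488929)) (BT.leaf (nat_lit 34992413))))) (BT.node (nat_lit 9832384) (BT.node (nat_lit 9832256) (BT.node (nat_lit 9832195) (BT.leaf (nat_lit 34937365)) (BT.leaf (nat_lit 637920))) (BT.node (nat_lit 9832320) (BT.leaf (nat_lit 37677065)) (BT.leaf (nat_lit 35112453)))) (BT.node (nat_lit 9832512) (BT.node (nat_lit 9832448) (BT.leaf (nat_lit 34994465)) (BT.leaf (nat_lit 34534929))) (BT.node (nat_lit 9832576) (BT.leaf (nat_lit 35535125)) (BT.leaf (nat_lit 39997705)))))) (BT.node (nat_lit 9833152) (BT.node (nat_lit 9832896) (BT.node (nat_lit 9832768) (BT.node (nat_lit 9832704) (BT.leaf (nat_lit 40956177)) (BT.leaf (nat_lit 35112221))) (BT.node (nat_lit 9832832) (BT.leaf (nat_lit 39532573)) (BT.leaf (nat_lit 41076253)))) (BT.node (nat_lit 9833024) (BT.node (nat_lit 9832960) (BT.leaf (nat_lit 38834961)) (BT.leaf (nat_lit 35248405))) (BT.node (nat_lit 9833088) (BT.leaf (nat_lit 34939153)) (BT.leaf (nat_lit 34939161))))) (BT.node (nat_lit 9833408) (BT.node (nat_lit 9833280) (BT.node (nat_lit 9833216) (BT.leaf (nat_lit 34939165)) (BT.leaf (nat_lit 35202053))) (BT.node (nat_lit 9833344) (BT.leaf (nat_lit 35202057)) (BT.leaf (nat_lit 34535961)))) (BT.node (nat_lit 9833536) (BT.node (nat_lit 9833472) (BT.leaf (nat_lit 41528333)) (BT.leaf (nat_lit 34536473))) (BT.node (nat_lit 9833600) (BT.leaf (nat_lit 35621913)) (BT.leaf (nat_lit 35100697)))))))) (BT.node (nat_lit 9836160) (BT.node (nat_lit 9834944) (BT.node (nat_lit 9834176) (BT.node (nat_lit 9833920) (BT.node (nat_lit 9833792) (BT.node (nat_lit 9833728) (BT.leaf (nat_lit 35963909)) (BT.leaf (nat_lit 38128917))) (BT.node (nat_lit 9833856) (BT.leaf (nat_lit 34940689)) (BT.leaf (nat_lit 35194393)))) (BT.node (nat_lit 9834048) (BT.node (nat_lit 9833984) (BT.leaf (nat_lit 35049745)) (BT.leaf (nat_lit 35049753))) (BT.node (nat_lit 9834112) (BT.leaf (nat_lit 35269893)) (BT.leaf (nat_lit 34488089))))) (BT.node (nat_lit 9834624) (BT.node (nat_lit 9834304) (BT.node (nat_lit 9834240) (BT.leaf (nat_lit 41389089)) (BT.leaf (nat_lit 35270169))) (BT.node (nat_lit 9834560) (BT.leaf (nat_lit 35270177)) (BT.leaf (nat_lit 35574801)))) (BT.node (nat_lit 9834816) (BT.node (nat_lit 9834752) (BT.leaf (nat_lit 35574805)) (BT.leaf (nat_lit 39583237))) (BT.node (nat_lit 9834880) (BT.leaf (nat_lit 34540573)) (BT.leaf (nat_lit 40063005)))))) (BT.node (nat_lit 9835584) (BT.node (nat_lit 9835328) (BT.node (nat_lit 9835200) (BT.node (nat_lit 9835136) (BT.leaf (nat_lit 39545349)) (BT.leaf (nat_lit 39577873))) (BT.node (nat_lit 9835264) (BT.leaf (nat_lit 35249677)) (BT.leaf (nat_lit 39954705)))) (BT.node (nat_lit 9835456) (BT.node (nat_lit 9835392) (BT.leaf (nat_lit 34541841)) (BT.leaf (nat_lit 39466765))) (BT.node (nat_lit 9835520) (BT.leaf (nat_lit 34541589)) (BT.leaf (nat_lit 35498525))))) (BT.node (nat_lit 9835840) (BT.node (nat_lit 9835712) (BT.node (nat_lit 9835648) (BT.leaf (nat_lit 34541845)) (BT.leaf (nat_lit 35498245))) (BT.node (nat_lit 9835776) (BT.leaf (nat_lit 35498249)) (BT.leaf (nat_lit 34541597)))) (BT.node (nat_lit 9835968) (BT.node (nat_lit 9835904) (BT.leaf (nat_lit 35498273)) (BT.leaf (nat_lit 38952733))) (BT.node (nat_lit 9836032) (BT.leaf (nat_lit 34541585)) (BT.leaf (nat_lit 35531033))))))) (BT.node (nat_lit 9837312) (BT.node (nat_lit 9836672) (BT.node (nat_lit 9836416) (BT.node (nat_lit 9836288) (BT.node (nat_lit 9836224) (BT.leaf (nat_lit 34541853)) (BT.leaf (nat_lit 38952217))) (BT.node (nat_lit 9836352) (BT.leaf (nat_lit 35248649)) (BT.leaf (nat_lit 35248645)))) (BT.node (nat_lit 9836544) (BT.node (nat_lit 9836480) (BT.leaf (nat_lit 34542605)) (BT.leaf (nat_lit 35248653))) (BT.node (nat_lit 9836608) (BT.leaf (nat_lit 34536465)) (BT.leaf (nat_lit 35530001))))) (BT.node (nat_lit 9836992) (BT.node (nat_lit 9836864) (BT.node (nat_lit 9836736) (BT.leaf (nat_lit 34542877)) (BT.leaf (nat_lit 34543633))) (BT.node (nat_lit 9836928) (BT.leaf (nat_lit 37419285)) (BT.leaf (nat_lit 34544153)))) (BT.node (nat_lit 9837120) (BT.node (nat_lit 9837056) (BT.leaf (nat_lit 39583773)) (BT.leaf (nat_lit 34544417))) (BT.node (nat_lit 9837248) (BT.leaf (nat_lit 34545169)) (BT.leaf (nat_lit 34920717)))))) (BT.node (nat_lit 9838144) (BT.node (nat_lit 9837696) (BT.node (nat_lit 9837568) (BT.node (nat_lit 9837376) (BT.leaf (nat_lit 34920725)) (BT.leaf (nat_lit 34545937))) (BT.node (nat_lit 9837632) (BT.leaf (nat_lit 36401433)) (BT.leaf (nat_lit 36400157)))) (BT.node (nat_lit 9837824) (BT.node (nat_lit 9837760) (BT.leaf (nat_lit 34642197)) (BT.leaf (nat_lit 36564485))) (BT.node (nat_lit 9838080) (BT.leaf (nat_lit 37839621)) (BT.leaf (nat_lit 40495905))))) (BT.node (nat_lit 9838400) (BT.node (nat_lit 9838272) (BT.node (nat_lit 9838208) (BT.leaf (nat_lit 40495881)) (BT.leaf (nat_lit 40495877))) (BT.node (nat_lit 9838336) (BT.leaf (nat_lit 38039829)) (BT.leaf (nat_lit 38039837)))) (BT.node (nat_lit 9838528) (BT.node (nat_lit 9838464) (BT.leaf (nat_lit 39350305)) (BT.leaf (nat_lit 39350549))) (BT.node (nat_lit 9838592) (BT.leaf (nat_lit 39350541)) (BT.leaf (nat_lit 39353369)))))))))))) (BT.node (nat_lit 9881536) (BT.node (nat_lit 9861888) (BT.node (nat_lit 9852032) (BT.node (nat_lit 9847168) (BT.node (nat_lit 9841984) (BT.node (nat_lit 9840128) (BT.node (nat_lit 9839424) (BT.node (nat_lit 9838912) (BT.node (nat_lit 9838792) (BT.node (nat_lit 9838787) (BT.leaf (nat_lit 34546957)) (BT.leaf (nat_lit 615148))) (BT.node (nat_lit 9838848) (BT.leaf (nat_lit 615148)) (BT.leaf (nat_lit 39412233)))) (BT.node (nat_lit 9839296) (BT.node (nat_lit 9839232) (BT.leaf (nat_lit 39723809)) (BT.leaf (nat_lit 38884109))) (BT.node (nat_lit 9839360) (BT.leaf (nat_lit 38311453)) (BT.leaf (nat_lit 39170073))))) (BT.node (nat_lit 9839808) (BT.node (nat_lit 9839680) (BT.node (nat_lit 9839488) (BT.leaf (nat_lit 39267093)) (BT.leaf (nat_lit 34797077))) (BT.node (nat_lit 9839744) (BT.leaf (nat_lit 39372577)) (BT.leaf (nat_lit 39373325)))) (BT.node (nat_lit 9840000) (BT.node (nat_lit 9839936) (BT.leaf (nat_lit 38910469)) (BT.leaf (nat_lit 38910477))) (BT.node (nat_lit 9840064) (BT.leaf (nat_lit 38910489)) (BT.leaf (nat_lit 38910493)))))) (BT.node (nat_lit 9840896) (BT.node (nat_lit 9840576) (BT.node (nat_lit 9840448) (BT.node (nat_lit 9840320) (BT.leaf (nat_lit 38910237)) (BT.leaf (nat_lit 39393301))) (BT.node (nat_lit 9840512) (BT.leaf (nat_lit 39262733)) (BT.leaf (nat_lit 34546189)))) (BT.node (nat_lit 9840768) (BT.node (nat_lit 9840704) (BT.leaf (nat_lit 37755165)) (BT.leaf (nat_lit 41603617))) (BT.node (nat_lit 9840832) (BT.leaf (nat_lit 41603093)) (BT.leaf (nat_lit 34546973))))) (BT.node (nat_lit 9841600) (BT.node (nat_lit 9841024) (BT.node (nat_lit 9840960) (BT.leaf (nat_lit 39104289)) (BT.leaf (nat_lit 34546721))) (BT.node (nat_lit 9841344) (BT.leaf (nat_lit 34546977)) (BT.leaf (nat_lit 39659533)))) (BT.node (nat_lit 9841856) (BT.node (nat_lit 9841728) (BT.leaf (nat_lit 38909713)) (BT.leaf (nat_lit 38909725))) (BT.node (nat_lit 9841920) (BT.leaf (nat_lit 34485513)) (BT.leaf (nat_lit 38918937))))))) (BT.node (nat_lit 9843776) (BT.node (nat_lit 9843072) (BT.node (nat_lit 9842240) (BT.node (nat_lit 9842112) (BT.node (nat_lit 9842048) (BT.leaf (nat_lit 38909977)) (BT.leaf (nat_lit 38909717))) (BT.node (nat_lit 9842176) (BT.leaf (nat_lit 38909729)) (BT.leaf (nat_lit 38893857)))) (BT.node (nat_lit 9842944) (BT.node (nat_lit 9842304) (BT.leaf (nat_lit 34485769)) (BT.leaf (nat_lit 39623189))) (BT.node (nat_lit 9843008) (BT.leaf (nat_lit 38996741)) (BT.leaf (nat_lit 39374361))))) (BT.node (nat_lit 9843456) (BT.node (nat_lit 9843264) (BT.node (nat_lit 9843200) (BT.leaf (nat_lit 39374369)) (BT.leaf (nat_lit 39360525))) (BT.node (nat_lit 9843328) (BT.leaf (nat_lit 39360033)) (BT.leaf (nat_lit 37932829)))) (BT.node (nat_lit 9843648) (BT.node (nat_lit 9843584) (BT.leaf (nat_lit 37752073)) (BT.leaf (nat_lit 39371277))) (BT.node (nat_lit 9843712) (BT.leaf (nat_lit 36528665)) (BT.leaf (nat_lit 34547729)))))) (BT.node (nat_lit 9845504) (BT.node (nat_lit 9844352) (BT.node (nat_lit 9844224) (BT.node (nat_lit 9843904) (BT.leaf (nat_lit 35872797)) (BT.leaf (nat_lit 35786245))) (BT.node (nat_lit 9844288) (BT.leaf (nat_lit 41638421)) (BT.leaf (nat_lit 41638429)))) (BT.node (nat_lit 9844992) (BT.node (nat_lit 9844928) (BT.leaf (nat_lit 36528417)) (BT.leaf (nat_lit 38997525))) (BT.node (nat_lit 9845120) (BT.leaf (nat_lit 39412229)) (BT.leaf (nat_lit 39122973))))) (BT.node (nat_lit 9846080) (BT.node (nat_lit 9845824) (BT.node (nat_lit 9845760) (BT.leaf (nat_lit 38831393)) (BT.leaf (nat_lit 41167129))) (BT.node (nat_lit 9846016) (BT.leaf (nat_lit 39187461)) (BT.leaf (nat_lit 39719201)))) (BT.node (nat_lit 9846720) (BT.node (nat_lit 9846656) (BT.leaf (nat_lit 39187465)) (BT.leaf (nat_lit 39365405))) (BT.node (nat_lit 9847104) (BT.leaf (nat_lit 38884129)) (BT.leaf (nat_lit 34548249)))))))) (BT.node (nat_lit 9849664) (BT.node (nat_lit 9848384) (BT.node (nat_lit 9847936) (BT.node (nat_lit 9847616) (BT.node (nat_lit 9847360) (BT.node (nat_lit 9847232) (BT.leaf (nat_lit 38075933)) (BT.leaf (nat_lit 34549021))) (BT.node (nat_lit 9847552) (BT.leaf (nat_lit 34549017)) (BT.leaf (nat_lit 34604809)))) (BT.node (nat_lit 9847808) (BT.node (nat_lit 9847744) (BT.leaf (nat_lit 39136545)) (BT.leaf (nat_lit 38333193))) (BT.node (nat_lit 9847872) (BT.leaf (nat_lit 39135265)) (BT.leaf (nat_lit 38333189))))) (BT.node (nat_lit 9848130) (BT.node (nat_lit 9848064) (BT.node (nat_lit 9848000) (BT.leaf (nat_lit 39132685)) (BT.leaf (nat_lit 34570777))) (BT.node (nat_lit 9848128) (BT.leaf (nat_lit 38976525)) (BT.leaf (nat_lit 39132961)))) (BT.node (nat_lit 9848256) (BT.node (nat_lit 9848192) (BT.leaf (nat_lit 617020)) (BT.leaf (nat_lit 38487065))) (BT.node (nat_lit 9848320) (BT.leaf (nat_lit 34504473)) (BT.leaf (nat_lit 39036685)))))) (BT.node (nat_lit 9849088) (BT.node (nat_lit 9848832) (BT.node (nat_lit 9848576) (BT.node (nat_lit 9848512) (BT.leaf (nat_lit 39036701)) (BT.leaf (nat_lit 41274649))) (BT.node (nat_lit 9848704) (BT.leaf (nat_lit 39157769)) (BT.leaf (nat_lit 39150341)))) (BT.node (nat_lit 9848960) (BT.node (nat_lit 9848896) (BT.leaf (nat_lit 39146249)) (BT.leaf (nat_lit 39160609))) (BT.node (nat_lit 9849024) (BT.leaf (nat_lit 36464657)) (BT.leaf (nat_lit 36356113))))) (BT.node (nat_lit 9849344) (BT.node (nat_lit 9849216) (BT.node (nat_lit 9849152) (BT.leaf (nat_lit 36464669)) (BT.leaf (nat_lit 34555417))) (BT.node (nat_lit 9849280) (BT.leaf (nat_lit 36465681)) (BT.leaf (nat_lit 41719045)))) (BT.node (nat_lit 9849536) (BT.node (nat_lit 9849408) (BT.leaf (nat_lit 38511905)) (BT.leaf (nat_lit 34598161))) (BT.node (nat_lit 9849600) (BT.leaf (nat_lit 39146785)) (BT.leaf (nat_lit 34552093))))))) (BT.node (nat_lit 9850496) (BT.node (nat_lit 9849984) (BT.node (nat_lit 9849859) (BT.node (nat_lit 9849792) (BT.node (nat_lit 9849728) (BT.leaf (nat_lit 39146765)) (BT.leaf (nat_lit 39146769))) (BT.node (nat_lit 9849858) (BT.leaf (nat_lit 39146781)) (BT.leaf (nat_lit 622676)))) (BT.node (nat_lit 9849864) (BT.node (nat_lit 9849860) (BT.leaf (nat_lit 622676)) (BT.leaf (nat_lit 622676))) (BT.node (nat_lit 9849920) (BT.leaf (nat_lit 622676)) (BT.leaf (nat_lit 38963989))))) (BT.node (nat_lit 9850245) (BT.node (nat_lit 9850176) (BT.node (nat_lit 9850048) (BT.leaf (nat_lit 34551057)) (BT.leaf (nat_lit 39313433))) (BT.node (nat_lit 9850242) (BT.leaf (nat_lit 34550813)) (BT.leaf (nat_lit 647104)))) (BT.node (nat_lit 9850368) (BT.node (nat_lit 9850247) (BT.leaf (nat_lit 647104)) (BT.leaf (nat_lit 647104))) (BT.node (nat_lit 9850432) (BT.leaf (nat_lit 38976545)) (BT.leaf (nat_lit 38976521)))))) (BT.node (nat_lit 9851328) (BT.node (nat_lit 9850816) (BT.node (nat_lit 9850624) (BT.node (nat_lit 9850560) (BT.leaf (nat_lit 38977057)) (BT.leaf (nat_lit 40480025))) (BT.node (nat_lit 9850688) (BT.leaf (nat_lit 38073629)) (BT.leaf (nat_lit 39130657)))) (BT.node (nat_lit 9851200) (BT.node (nat_lit 9850880) (BT.leaf (nat_lit 39275541)) (BT.leaf (nat_lit 34553109))) (BT.node (nat_lit 9851264) (BT.leaf (nat_lit 39157265)) (BT.leaf (nat_lit 34552081))))) (BT.node (nat_lit 9851776) (BT.node (nat_lit 9851648) (BT.node (nat_lit 9851392) (BT.leaf (nat_lit 34552085)) (BT.leaf (nat_lit 39486997))) (BT.node (nat_lit 9851712) (BT.leaf (nat_lit 34553097)) (BT.leaf (nat_lit 34553093)))) (BT.node (nat_lit 9851904) (BT.node (nat_lit 9851840) (BT.leaf (nat_lit 34552845)) (BT.leaf (nat_lit 34553101))) (BT.node (nat_lit 9851968) (BT.leaf (nat_lit 38421009)) (BT.leaf (nat_lit 38421013))))))))) (BT.node (nat_lit 9857413) (BT.node (nat_lit 9854592) (BT.node (nat_lit 9852800) (BT.node (nat_lit 9852418) (BT.node (nat_lit 9852288) (BT.node (nat_lit 9852160) (BT.node (nat_lit 9852096) (BT.leaf (nat_lit 35011093)) (BT.leaf (nat_lit 35011101))) (BT.node (nat_lit 9852224) (BT.leaf (nat_lit 38896133)) (BT.leaf (nat_lit 34552349)))) (BT.node (nat_lit 9852416) (BT.node (nat_lit 9852352) (BT.leaf (nat_lit 34552605)) (BT.leaf (nat_lit 34553873))) (BT.node (nat_lit 9852417) (BT.leaf (nat_lit 38896161)) (BT.leaf (nat_lit 645808))))) (BT.node (nat_lit 9852544) (BT.node (nat_lit 9852421) (BT.node (nat_lit 9852419) (BT.leaf (nat_lit 645808)) (BT.leaf (nat_lit 645808))) (BT.node (nat_lit 9852480) (BT.leaf (nat_lit 645808)) (BT.leaf (nat_lit 37930017)))) (BT.node (nat_lit 9852672) (BT.node (nat_lit 9852608) (BT.leaf (nat_lit 37929753)) (BT.leaf (nat_lit 37929997))) (BT.node (nat_lit 9852736) (BT.leaf (nat_lit 37930009)) (BT.leaf (nat_lit 39162649)))))) (BT.node (nat_lit 9854016) (BT.node (nat_lit 9853184) (BT.node (nat_lit 9852992) (BT.node (nat_lit 9852928) (BT.leaf (nat_lit 34553889)) (BT.leaf (nat_lit 34505745))) (BT.node (nat_lit 9853056) (BT.leaf (nat_lit 35570457)) (BT.leaf (nat_lit 38890777)))) (BT.node (nat_lit 9853504) (BT.node (nat_lit 9853440) (BT.leaf (nat_lit 34505489)) (BT.leaf (nat_lit 39168285))) (BT.node (nat_lit 9853952) (BT.leaf (nat_lit 34556949)) (BT.leaf (nat_lit 39183649))))) (BT.node (nat_lit 9854336) (BT.node (nat_lit 9854144) (BT.node (nat_lit 9854080) (BT.leaf (nat_lit 34555409)) (BT.leaf (nat_lit 39251973))) (BT.node (nat_lit 9854272) (BT.leaf (nat_lit 39186445)) (BT.leaf (nat_lit 39171357)))) (BT.node (nat_lit 9854464) (BT.node (nat_lit 9854400) (BT.leaf (nat_lit 39185185)) (BT.leaf (nat_lit 38938141))) (BT.node (nat_lit 9854528) (BT.leaf (nat_lit 34556937)) (BT.leaf (nat_lit 34556933))))))) (BT.node (nat_lit 9856000) (BT.node (nat_lit 9855360) (BT.node (nat_lit 9854848) (BT.node (nat_lit 9854720) (BT.node (nat_lit 9854656) (BT.leaf (nat_lit 34556685)) (BT.leaf (nat_lit 34556941))) (BT.node (nat_lit 9854784) (BT.leaf (nat_lit 40807433)) (BT.leaf (nat_lit 34557713)))) (BT.node (nat_lit 9855232) (BT.node (nat_lit 9855168) (BT.leaf (nat_lit 34557969)) (BT.leaf (nat_lit 38972677))) (BT.node (nat_lit 9855296) (BT.leaf (nat_lit 38972681)) (BT.leaf (nat_lit 38972685))))) (BT.node (nat_lit 9855680) (BT.node (nat_lit 9855488) (BT.node (nat_lit 9855424) (BT.leaf (nat_lit 39684637)) (BT.leaf (nat_lit 34558225))) (BT.node (nat_lit 9855616) (BT.leaf (nat_lit 34611205)) (BT.leaf (nat_lit 39912205)))) (BT.node (nat_lit 9855808) (BT.node (nat_lit 9855744) (BT.leaf (nat_lit 36516881)) (BT.leaf (nat_lit 34558481))) (BT.node (nat_lit 9855872) (BT.leaf (nat_lit 38961425)) (BT.leaf (nat_lit 39116557)))))) (BT.node (nat_lit 9856640) (BT.node (nat_lit 9856256) (BT.node (nat_lit 9856128) (BT.node (nat_lit 9856064) (BT.leaf (nat_lit 39220229)) (BT.leaf (nat_lit 39182341))) (BT.node (nat_lit 9856192) (BT.leaf (nat_lit 34558993)) (BT.leaf (nat_lit 34569733)))) (BT.node (nat_lit 9856384) (BT.node (nat_lit 9856320) (BT.leaf (nat_lit 34559249)) (BT.leaf (nat_lit 39281689))) (BT.node (nat_lit 9856448) (BT.leaf (nat_lit 39200789)) (BT.leaf (nat_lit 34568973))))) (BT.node (nat_lit 9856896) (BT.node (nat_lit 9856768) (BT.node (nat_lit 9856704) (BT.leaf (nat_lit 34560017)) (BT.leaf (nat_lit 38938125))) (BT.node (nat_lit 9856832) (BT.leaf (nat_lit 39186693)) (BT.leaf (nat_lit 39186697)))) (BT.node (nat_lit 9857344) (BT.node (nat_lit 9856960) (BT.leaf (nat_lit 39186713)) (BT.leaf (nat_lit 39185669))) (BT.node (nat_lit 9857408) (BT.leaf (nat_lit 34560537)) (BT.leaf (nat_lit 34845469)))))))) (BT.node (nat_lit 9859456) (BT.node (nat_lit 9858560) (BT.node (nat_lit 9858048) (BT.node (nat_lit 9857664) (BT.node (nat_lit 9857536) (BT.node (nat_lit 9857472) (BT.leaf (nat_lit 632608)) (BT.leaf (nat_lit 39705625))) (BT.node (nat_lit 9857600) (BT.leaf (nat_lit 35128861)) (BT.leaf (nat_lit 34561305)))) (BT.node (nat_lit 9857792) (BT.node (nat_lit 9857728) (BT.leaf (nat_lit 37764113)) (BT.leaf (nat_lit 40051225))) (BT.node (nat_lit 9857856) (BT.leaf (nat_lit 37764125)) (BT.leaf (nat_lit 39694085))))) (BT.node (nat_lit 9858304) (BT.node (nat_lit 9858176) (BT.node (nat_lit 9858112) (BT.leaf (nat_lit 37714705)) (BT.leaf (nat_lit 40050969))) (BT.node (nat_lit 9858240) (BT.leaf (nat_lit 37714717)) (BT.leaf (nat_lit 35164697)))) (BT.node (nat_lit 9858432) (BT.node (nat_lit 9858368) (BT.leaf (nat_lit 39194637)) (BT.leaf (nat_lit 39195405))) (BT.node (nat_lit 9858496) (BT.leaf (nat_lit 35128849)) (BT.leaf (nat_lit 38415905)))))) (BT.node (nat_lit 9859072) (BT.node (nat_lit 9858759) (BT.node (nat_lit 9858629) (BT.node (nat_lit 9858624) (BT.leaf (nat_lit 39195397)) (BT.leaf (nat_lit 38023177))) (BT.node (nat_lit 9858688) (BT.leaf (nat_lit 651612)) (BT.leaf (nat_lit 39197957)))) (BT.node (nat_lit 9858880) (BT.node (nat_lit 9858816) (BT.leaf (nat_lit 651536)) (BT.leaf (nat_lit 40065305))) (BT.node (nat_lit 9858944) (BT.leaf (nat_lit 35271197)) (BT.leaf (nat_lit 39225605))))) (BT.node (nat_lit 9859328) (BT.node (nat_lit 9859200) (BT.node (nat_lit 9859136) (BT.leaf (nat_lit 39229709)) (BT.leaf (nat_lit 40065049))) (BT.node (nat_lit 9859264) (BT.leaf (nat_lit 38333213)) (BT.leaf (nat_lit 41651213)))) (BT.node (nat_lit 9859336) (BT.node (nat_lit 9859334) (BT.leaf (nat_lit 39240713)) (BT.leaf (nat_lit 641824))) (BT.node (nat_lit 9859392) (BT.leaf (nat_lit 641824)) (BT.leaf (nat_lit 39200261))))))) (BT.node (nat_lit 9860736) (BT.node (nat_lit 9859968) (BT.node (nat_lit 9859712) (BT.node (nat_lit 9859584) (BT.node (nat_lit 9859520) (BT.leaf (nat_lit 39200265)) (BT.leaf (nat_lit 39200281))) (BT.node (nat_lit 9859648) (BT.leaf (nat_lit 39211525)) (BT.leaf (nat_lit 39200797)))) (BT.node (nat_lit 9859840) (BT.node (nat_lit 9859776) (BT.leaf (nat_lit 34624281)) (BT.leaf (nat_lit 34624273))) (BT.node (nat_lit 9859904) (BT.leaf (nat_lit 39201565)) (BT.leaf (nat_lit 35319305))))) (BT.node (nat_lit 9860288) (BT.node (nat_lit 9860160) (BT.node (nat_lit 9860096) (BT.leaf (nat_lit 39213325)) (BT.leaf (nat_lit 34563101))) (BT.node (nat_lit 9860224) (BT.leaf (nat_lit 34563357)) (BT.leaf (nat_lit 35900953)))) (BT.node (nat_lit 9860357) (BT.node (nat_lit 9860356) (BT.leaf (nat_lit 34564369)) (BT.leaf (nat_lit 616396))) (BT.node (nat_lit 9860359) (BT.leaf (nat_lit 616396)) (BT.leaf (nat_lit 616396)))))) (BT.node (nat_lit 9861312) (BT.node (nat_lit 9861056) (BT.node (nat_lit 9860928) (BT.node (nat_lit 9860864) (BT.leaf (nat_lit 41600005)) (BT.leaf (nat_lit 35901205))) (BT.node (nat_lit 9860992) (BT.leaf (nat_lit 35901217)) (BT.leaf (nat_lit 34565649)))) (BT.node (nat_lit 9861184) (BT.node (nat_lit 9861120) (BT.leaf (nat_lit 34565905)) (BT.leaf (nat_lit 37166873))) (BT.node (nat_lit 9861248) (BT.leaf (nat_lit 34566925)) (BT.leaf (nat_lit 36167433))))) (BT.node (nat_lit 9861568) (BT.node (nat_lit 9861440) (BT.node (nat_lit 9861376) (BT.leaf (nat_lit 36167429)) (BT.leaf (nat_lit 35678221))) (BT.node (nat_lit 9861504) (BT.leaf (nat_lit 36167437)) (BT.leaf (nat_lit 39417365)))) (BT.node (nat_lit 9861696) (BT.node (nat_lit 9861632) (BT.leaf (nat_lit 34581509)) (BT.leaf (nat_lit 39213341))) (BT.node (nat_lit 9861760) (BT.leaf (nat_lit 39383057)) (BT.leaf (nat_lit 35647513)))))))))) (BT.node (nat_lit 9871616) (BT.node (nat_lit 9867072) (BT.node (nat_lit 9864576) (BT.node (nat_lit 9863168) (BT.node (nat_lit 9862656) (BT.node (nat_lit 9862400) (BT.node (nat_lit 9862208) (BT.node (nat_lit 9862016) (BT.leaf (nat_lit 36061453)) (BT.leaf (nat_lit 36061461))) (BT.node (nat_lit 9862272) (BT.leaf (nat_lit 36061473)) (BT.leaf (nat_lit 36061205)))) (BT.node (nat_lit 9862528) (BT.node (nat_lit 9862464) (BT.leaf (nat_lit 36221957)) (BT.leaf (nat_lit 36221961))) (BT.node (nat_lit 9862592) (BT.leaf (nat_lit 36221973)) (BT.leaf (nat_lit 34567961))))) (BT.node (nat_lit 9862912) (BT.node (nat_lit 9862784) (BT.node (nat_lit 9862720) (BT.leaf (nat_lit 36167449)) (BT.leaf (nat_lit 36162833))) (BT.node (nat_lit 9862848) (BT.leaf (nat_lit 35551761)) (BT.leaf (nat_lit 34863901)))) (BT.node (nat_lit 9863040) (BT.node (nat_lit 9862976) (BT.leaf (nat_lit 39217677)) (BT.leaf (nat_lit 37729565))) (BT.node (nat_lit 9863104) (BT.leaf (nat_lit 34568217)) (BT.leaf (nat_lit 39218465)))))) (BT.node (nat_lit 9863680) (BT.node (nat_lit 9863424) (BT.node (nat_lit 9863296) (BT.node (nat_lit 9863232) (BT.leaf (nat_lit 34975009)) (BT.leaf (nat_lit 39432965))) (BT.node (nat_lit 9863360) (BT.leaf (nat_lit 37172485)) (BT.leaf (nat_lit 34569485)))) (BT.node (nat_lit 9863616) (BT.node (nat_lit 9863488) (BT.leaf (nat_lit 39181573)) (BT.leaf (nat_lit 39181577))) (BT.node (nat_lit 9863620) (BT.leaf (nat_lit 40623897)) (BT.leaf (nat_lit 623704))))) (BT.node (nat_lit 9864128) (BT.node (nat_lit 9863808) (BT.node (nat_lit 9863744) (BT.leaf (nat_lit 34568965)) (BT.leaf (nat_lit 39200525))) (BT.node (nat_lit 9863872) (BT.leaf (nat_lit 39200781)) (BT.leaf (nat_lit 39513353)))) (BT.node (nat_lit 9864384) (BT.node (nat_lit 9864192) (BT.leaf (nat_lit 39221277)) (BT.leaf (nat_lit 39360009))) (BT.node (nat_lit 9864448) (BT.leaf (nat_lit 38891285)) (BT.leaf (nat_lit 38891297))))))) (BT.node (nat_lit 9865984) (BT.node (nat_lit 9865216) (BT.node (nat_lit 9864896) (BT.node (nat_lit 9864768) (BT.node (nat_lit 9864704) (BT.leaf (nat_lit 39061261)) (BT.leaf (nat_lit 34569501))) (BT.node (nat_lit 9864832) (BT.leaf (nat_lit 38856473)) (BT.leaf (nat_lit 35727645)))) (BT.node (nat_lit 9865088) (BT.node (nat_lit 9864960) (BT.leaf (nat_lit 34569761)) (BT.leaf (nat_lit 39181841))) (BT.node (nat_lit 9865152) (BT.leaf (nat_lit 39181849)) (BT.leaf (nat_lit 39181853))))) (BT.node (nat_lit 9865415) (BT.node (nat_lit 9865411) (BT.node (nat_lit 9865344) (BT.leaf (nat_lit 34569741)) (BT.leaf (nat_lit 40623877))) (BT.node (nat_lit 9865413) (BT.leaf (nat_lit 636560)) (BT.leaf (nat_lit 636560)))) (BT.node (nat_lit 9865664) (BT.node (nat_lit 9865600) (BT.leaf (nat_lit 636560)) (BT.leaf (nat_lit 39197701))) (BT.node (nat_lit 9865728) (BT.leaf (nat_lit 39225885)) (BT.leaf (nat_lit 39213837)))))) (BT.node (nat_lit 9866496) (BT.node (nat_lit 9866240) (BT.node (nat_lit 9866112) (BT.node (nat_lit 9866048) (BT.leaf (nat_lit 34570013)) (BT.leaf (nat_lit 39197965))) (BT.node (nat_lit 9866176) (BT.leaf (nat_lit 39197969)) (BT.leaf (nat_lit 39197973)))) (BT.node (nat_lit 9866368) (BT.node (nat_lit 9866304) (BT.leaf (nat_lit 39197977)) (BT.leaf (nat_lit 39197981))) (BT.node (nat_lit 9866432) (BT.leaf (nat_lit 39197985)) (BT.leaf (nat_lit 40624917))))) (BT.node (nat_lit 9866752) (BT.node (nat_lit 9866624) (BT.node (nat_lit 9866560) (BT.leaf (nat_lit 40624929)) (BT.leaf (nat_lit 38823701))) (BT.node (nat_lit 9866688) (BT.leaf (nat_lit 39345949)) (BT.leaf (nat_lit 41558033)))) (BT.node (nat_lit 9866944) (BT.node (nat_lit 9866816) (BT.leaf (nat_lit 41138953)) (BT.leaf (nat_lit 40946445))) (BT.node (nat_lit 9867008) (BT.leaf (nat_lit 34570781)) (BT.leaf (nat_lit 39344909)))))))) (BT.node (nat_lit 9869312) (BT.node (nat_lit 9868160) (BT.node (nat_lit 9867648) (BT.node (nat_lit 9867328) (BT.node (nat_lit 9867200) (BT.node (nat_lit 9867136) (BT.leaf (nat_lit 39340817)) (BT.leaf (nat_lit 34993433))) (BT.node (nat_lit 9867264) (BT.leaf (nat_lit 34993437)) (BT.leaf (nat_lit 34992901)))) (BT.node (nat_lit 9867520) (BT.node (nat_lit 9867456) (BT.leaf (nat_lit 34992905)) (BT.leaf (nat_lit 34992929))) (BT.node (nat_lit 9867584) (BT.leaf (nat_lit 35222801)) (BT.leaf (nat_lit 35222805))))) (BT.node (nat_lit 9867904) (BT.node (nat_lit 9867776) (BT.node (nat_lit 9867712) (BT.leaf (nat_lit 35222813)) (BT.leaf (nat_lit 41241121))) (BT.node (nat_lit 9867840) (BT.leaf (nat_lit 38518545)) (BT.leaf (nat_lit 40872469)))) (BT.node (nat_lit 9868032) (BT.node (nat_lit 9867968) (BT.leaf (nat_lit 40872477)) (BT.leaf (nat_lit 41241101))) (BT.node (nat_lit 9868096) (BT.leaf (nat_lit 41241109)) (BT.leaf (nat_lit 41241117)))))) (BT.node (nat_lit 9868800) (BT.node (nat_lit 9868480) (BT.node (nat_lit 9868288) (BT.node (nat_lit 9868224) (BT.leaf (nat_lit 39346205)) (BT.leaf (nat_lit 39240225))) (BT.node (nat_lit 9868352) (BT.leaf (nat_lit 39240477)) (BT.leaf (nat_lit 39240205)))) (BT.node (nat_lit 9868608) (BT.node (nat_lit 9868544) (BT.leaf (nat_lit 37133333)) (BT.leaf (nat_lit 41021973))) (BT.node (nat_lit 9868672) (BT.leaf (nat_lit 39245089)) (BT.leaf (nat_lit 34572053))))) (BT.node (nat_lit 9869056) (BT.node (nat_lit 9868928) (BT.node (nat_lit 9868864) (BT.leaf (nat_lit 34572061)) (BT.leaf (nat_lit 34572305))) (BT.node (nat_lit 9868992) (BT.leaf (nat_lit 39243809)) (BT.leaf (nat_lit 35144733)))) (BT.node (nat_lit 9869184) (BT.node (nat_lit 9869120) (BT.leaf (nat_lit 41168917)) (BT.leaf (nat_lit 39243789))) (BT.node (nat_lit 9869248) (BT.leaf (nat_lit 39347489)) (BT.leaf (nat_lit 34572321))))))) (BT.node (nat_lit 9870400) (BT.node (nat_lit 9869824) (BT.node (nat_lit 9869568) (BT.node (nat_lit 9869440) (BT.node (nat_lit 9869376) (BT.leaf (nat_lit 40908305)) (BT.leaf (nat_lit 35502105))) (BT.node (nat_lit 9869504) (BT.leaf (nat_lit 35064585)) (BT.leaf (nat_lit 35400217)))) (BT.node (nat_lit 9869696) (BT.node (nat_lit 9869632) (BT.leaf (nat_lit 35328529)) (BT.leaf (nat_lit 34572833))) (BT.node (nat_lit 9869760) (BT.leaf (nat_lit 35319301)) (BT.leaf (nat_lit 35319309))))) (BT.node (nat_lit 9870144) (BT.node (nat_lit 9869952) (BT.node (nat_lit 9869888) (BT.leaf (nat_lit 41671701)) (BT.leaf (nat_lit 35318801))) (BT.node (nat_lit 9870016) (BT.leaf (nat_lit 39065889)) (BT.leaf (nat_lit 34563613)))) (BT.node (nat_lit 9870272) (BT.node (nat_lit 9870208) (BT.leaf (nat_lit 39321109)) (BT.leaf (nat_lit 40402713))) (BT.node (nat_lit 9870336) (BT.leaf (nat_lit 39248653)) (BT.leaf (nat_lit 41670689)))))) (BT.node (nat_lit 9871104) (BT.node (nat_lit 9870720) (BT.node (nat_lit 9870592) (BT.node (nat_lit 9870464) (BT.leaf (nat_lit 38340629)) (BT.leaf (nat_lit 34573853))) (BT.node (nat_lit 9870656) (BT.leaf (nat_lit 39251205)) (BT.leaf (nat_lit 39250693)))) (BT.node (nat_lit 9870976) (BT.node (nat_lit 9870784) (BT.leaf (nat_lit 34574353)) (BT.leaf (nat_lit 39170565))) (BT.node (nat_lit 9871040) (BT.leaf (nat_lit 34575121)) (BT.leaf (nat_lit 39266057))))) (BT.node (nat_lit 9871360) (BT.node (nat_lit 9871232) (BT.node (nat_lit 9871168) (BT.leaf (nat_lit 39266053)) (BT.leaf (nat_lit 38154525))) (BT.node (nat_lit 9871296) (BT.leaf (nat_lit 39295753)) (BT.leaf (nat_lit 39295749)))) (BT.node (nat_lit 9871488) (BT.node (nat_lit 9871424) (BT.leaf (nat_lit 38076185)) (BT.leaf (nat_lit 38074653))) (BT.node (nat_lit 9871552) (BT.leaf (nat_lit 38313753)) (BT.leaf (nat_lit 39295757))))))))) (BT.node (nat_lit 9876096) (BT.node (nat_lit 9873856) (BT.node (nat_lit 9872768) (BT.node (nat_lit 9872128) (BT.node (nat_lit 9871872) (BT.node (nat_lit 9871744) (BT.node (nat_lit 9871680) (BT.leaf (nat_lit 34575377)) (BT.leaf (nat_lit 38073373))) (BT.node (nat_lit 9871808) (BT.leaf (nat_lit 36060445)) (BT.leaf (nat_lit 37694993)))) (BT.node (nat_lit 9872000) (BT.node (nat_lit 9871936) (BT.leaf (nat_lit 37695005)) (BT.leaf (nat_lit 39711497))) (BT.node (nat_lit 9872064) (BT.leaf (nat_lit 39712521)) (BT.leaf (nat_lit 38163465))))) (BT.node (nat_lit 9872512) (BT.node (nat_lit 9872384) (BT.node (nat_lit 9872256) (BT.leaf (nat_lit 34577173)) (BT.leaf (nat_lit 39269405))) (BT.node (nat_lit 9872448) (BT.leaf (nat_lit 39132941)) (BT.leaf (nat_lit 39132933)))) (BT.node (nat_lit 9872640) (BT.node (nat_lit 9872576) (BT.leaf (nat_lit 39750409)) (BT.leaf (nat_lit 36063505))) (BT.node (nat_lit 9872704) (BT.leaf (nat_lit 36063769)) (BT.leaf (nat_lit 36063509)))))) (BT.node (nat_lit 9873280) (BT.node (nat_lit 9873024) (BT.node (nat_lit 9872896) (BT.node (nat_lit 9872832) (BT.leaf (nat_lit 36063493)) (BT.leaf (nat_lit 36063497))) (BT.node (nat_lit 9872960) (BT.leaf (nat_lit 36063513)) (BT.leaf (nat_lit 39299077)))) (BT.node (nat_lit 9873152) (BT.node (nat_lit 9873088) (BT.leaf (nat_lit 39277585)) (BT.leaf (nat_lit 40859681))) (BT.node (nat_lit 9873216) (BT.leaf (nat_lit 39298081)) (BT.leaf (nat_lit 40858397))))) (BT.node (nat_lit 9873600) (BT.node (nat_lit 9873408) (BT.node (nat_lit 9873344) (BT.leaf (nat_lit 39277573)) (BT.leaf (nat_lit 39277577))) (BT.node (nat_lit 9873472) (BT.leaf (nat_lit 39277593)) (BT.leaf (nat_lit 39299869)))) (BT.node (nat_lit 9873728) (BT.node (nat_lit 9873664) (BT.leaf (nat_lit 39276293)) (BT.leaf (nat_lit 34576397))) (BT.node (nat_lit 9873792) (BT.leaf (nat_lit 38946073)) (BT.leaf (nat_lit 38946321))))))) (BT.node (nat_lit 9874880) (BT.node (nat_lit 9874368) (BT.node (nat_lit 9874112) (BT.node (nat_lit 9873984) (BT.node (nat_lit 9873920) (BT.leaf (nat_lit 38946329)) (BT.leaf (nat_lit 34582301))) (BT.node (nat_lit 9874048) (BT.leaf (nat_lit 38946337)) (BT.leaf (nat_lit 34576657)))) (BT.node (nat_lit 9874240) (BT.node (nat_lit 9874176) (BT.leaf (nat_lit 34488853)) (BT.leaf (nat_lit 34643481))) (BT.node (nat_lit 9874304) (BT.leaf (nat_lit 35844361)) (BT.leaf (nat_lit 34577181))))) (BT.node (nat_lit 9874624) (BT.node (nat_lit 9874496) (BT.node (nat_lit 9874432) (BT.leaf (nat_lit 38512665)) (BT.leaf (nat_lit 38512921))) (BT.node (nat_lit 9874560) (BT.leaf (nat_lit 35036445)) (BT.leaf (nat_lit 35036449)))) (BT.node (nat_lit 9874752) (BT.node (nat_lit 9874688) (BT.leaf (nat_lit 35085577)) (BT.leaf (nat_lit 35085573))) (BT.node (nat_lit 9874816) (BT.leaf (nat_lit 35825685)) (BT.leaf (nat_lit 35059229)))))) (BT.node (nat_lit 9875456) (BT.node (nat_lit 9875136) (BT.node (nat_lit 9875008) (BT.node (nat_lit 9874944) (BT.leaf (nat_lit 38491669)) (BT.leaf (nat_lit 35064353))) (BT.node (nat_lit 9875072) (BT.leaf (nat_lit 36345625)) (BT.leaf (nat_lit 35064325)))) (BT.node (nat_lit 9875328) (BT.node (nat_lit 9875200) (BT.leaf (nat_lit 38475029)) (BT.leaf (nat_lit 39334161))) (BT.node (nat_lit 9875392) (BT.leaf (nat_lit 34589189)) (BT.leaf (nat_lit 39285533))))) (BT.node (nat_lit 9875712) (BT.node (nat_lit 9875584) (BT.node (nat_lit 9875520) (BT.leaf (nat_lit 35899425)) (BT.leaf (nat_lit 34159133))) (BT.node (nat_lit 9875648) (BT.leaf (nat_lit 39255565)) (BT.leaf (nat_lit 34610449)))) (BT.node (nat_lit 9875904) (BT.node (nat_lit 9875840) (BT.leaf (nat_lit 35858977)) (BT.leaf (nat_lit 39255821))) (BT.node (nat_lit 9875968) (BT.leaf (nat_lit 35858965)) (BT.leaf (nat_lit 36715549)))))))) (BT.node (nat_lit 9878788) (BT.node (nat_lit 9877568) (BT.node (nat_lit 9876736) (BT.node (nat_lit 9876416) (BT.node (nat_lit 9876288) (BT.node (nat_lit 9876224) (BT.leaf (nat_lit 36408605)) (BT.leaf (nat_lit 40644109))) (BT.node (nat_lit 9876352) (BT.leaf (nat_lit 39260193)) (BT.leaf (nat_lit 41040405)))) (BT.node (nat_lit 9876544) (BT.node (nat_lit 9876480) (BT.leaf (nat_lit 39260937)) (BT.leaf (nat_lit 39260933))) (BT.node (nat_lit 9876608) (BT.leaf (nat_lit 39260961)) (BT.leaf (nat_lit 35288089))))) (BT.node (nat_lit 9877315) (BT.node (nat_lit 9877120) (BT.node (nat_lit 9876864) (BT.leaf (nat_lit 34605073)) (BT.leaf (nat_lit 38149893))) (BT.node (nat_lit 9877248) (BT.leaf (nat_lit 34581517)) (BT.leaf (nat_lit 39281437)))) (BT.node (nat_lit 9877440) (BT.node (nat_lit 9877376) (BT.leaf (nat_lit 652304)) (BT.leaf (nat_lit 35290117))) (BT.node (nat_lit 9877504) (BT.leaf (nat_lit 35290121)) (BT.leaf (nat_lit 34581533)))))) (BT.node (nat_lit 9878144) (BT.node (nat_lit 9877888) (BT.node (nat_lit 9877696) (BT.node (nat_lit 9877632) (BT.leaf (nat_lit 35290145)) (BT.leaf (nat_lit 39357981))) (BT.node (nat_lit 9877760) (BT.leaf (nat_lit 40464921)) (BT.leaf (nat_lit 40464925)))) (BT.node (nat_lit 9878016) (BT.node (nat_lit 9877952) (BT.leaf (nat_lit 38946829)) (BT.leaf (nat_lit 38946837))) (BT.node (nat_lit 9878080) (BT.leaf (nat_lit 34582289)) (BT.leaf (nat_lit 39157525))))) (BT.node (nat_lit 9878400) (BT.node (nat_lit 9878272) (BT.node (nat_lit 9878208) (BT.leaf (nat_lit 39157269)) (BT.leaf (nat_lit 34582293))) (BT.node (nat_lit 9878336) (BT.leaf (nat_lit 41659397)) (BT.leaf (nat_lit 34503697)))) (BT.node (nat_lit 9878592) (BT.node (nat_lit 9878464) (BT.leaf (nat_lit 39275809)) (BT.leaf (nat_lit 40856345))) (BT.node (nat_lit 9878656) (BT.leaf (nat_lit 39274509)) (BT.leaf (nat_lit 39277341))))))) (BT.node (nat_lit 9880128) (BT.node (nat_lit 9879360) (BT.node (nat_lit 9879104) (BT.node (nat_lit 9878791) (BT.node (nat_lit 9878790) (BT.leaf (nat_lit 650008)) (BT.leaf (nat_lit 650008))) (BT.node (nat_lit 9878848) (BT.leaf (nat_lit 650008)) (BT.leaf (nat_lit 39301145)))) (BT.node (nat_lit 9879232) (BT.node (nat_lit 9879168) (BT.leaf (nat_lit 37073429)) (BT.leaf (nat_lit 34572569))) (BT.node (nat_lit 9879296) (BT.leaf (nat_lit 37073441)) (BT.leaf (nat_lit 34607113))))) (BT.node (nat_lit 9879744) (BT.node (nat_lit 9879552) (BT.node (nat_lit 9879424) (BT.leaf (nat_lit 39282717)) (BT.leaf (nat_lit 39310597))) (BT.node (nat_lit 9879616) (BT.leaf (nat_lit 35217681)) (BT.leaf (nat_lit 35217697)))) (BT.node (nat_lit 9880000) (BT.node (nat_lit 9879936) (BT.leaf (nat_lit 39307269)) (BT.leaf (nat_lit 39305993))) (BT.node (nat_lit 9880064) (BT.leaf (nat_lit 37027097)) (BT.leaf (nat_lit 34261785)))))) (BT.node (nat_lit 9880640) (BT.node (nat_lit 9880384) (BT.node (nat_lit 9880256) (BT.node (nat_lit 9880192) (BT.leaf (nat_lit 35056389)) (BT.leaf (nat_lit 41552409))) (BT.node (nat_lit 9880320) (BT.leaf (nat_lit 38739717)) (BT.leaf (nat_lit 38470677)))) (BT.node (nat_lit 9880512) (BT.node (nat_lit 9880448) (BT.leaf (nat_lit 38486305)) (BT.leaf (nat_lit 39532553))) (BT.node (nat_lit 9880576) (BT.leaf (nat_lit 35061265)) (BT.leaf (nat_lit 37722657))))) (BT.node (nat_lit 9881216) (BT.node (nat_lit 9880832) (BT.node (nat_lit 9880704) (BT.leaf (nat_lit 39532549)) (BT.leaf (nat_lit 36974085))) (BT.node (nat_lit 9880960) (BT.leaf (nat_lit 39310613)) (BT.leaf (nat_lit 37265429)))) (BT.node (nat_lit 9881408) (BT.node (nat_lit 9881280) (BT.leaf (nat_lit 36449805)) (BT.leaf (nat_lit 34563353))) (BT.node (nat_lit 9881472) (BT.leaf (nat_lit 36502025)) (BT.leaf (nat_lit 38848529))))))))))) (BT.node (nat_lit 9901376) (BT.node (nat_lit 9890944) (BT.node (nat_lit 9886400) (BT.node (nat_lit 9883648) (BT.node (nat_lit 9882560) (BT.node (nat_lit 9882048) (BT.node (nat_lit 9881792) (BT.node (nat_lit 9881664) (BT.node (nat_lit 9881600) (BT.leaf (nat_lit 36502021)) (BT.leaf (nat_lit 34587409))) (BT.node (nat_lit 9881728) (BT.leaf (nat_lit 37677833)) (BT.leaf (nat_lit 35062277)))) (BT.node (nat_lit 9881920) (BT.node (nat_lit 9881856) (BT.leaf (nat_lit 34995217)) (BT.leaf (nat_lit 40876821))) (BT.node (nat_lit 9881984) (BT.leaf (nat_lit 33997853)) (BT.leaf (nat_lit 34600989))))) (BT.node (nat_lit 9882304) (BT.node (nat_lit 9882176) (BT.node (nat_lit 9882112) (BT.leaf (nat_lit 39325445)) (BT.leaf (nat_lit 34588177))) (BT.node (nat_lit 9882240) (BT.leaf (nat_lit 39324193)) (BT.leaf (nat_lit 35349789)))) (BT.node (nat_lit 9882432) (BT.node (nat_lit 9882368) (BT.leaf (nat_lit 40879377)) (BT.leaf (nat_lit 40366113))) (BT.node (nat_lit 9882496) (BT.leaf (nat_lit 38429721)) (BT.leaf (nat_lit 35844625)))))) (BT.node (nat_lit 9883072) (BT.node (nat_lit 9882816) (BT.node (nat_lit 9882688) (BT.node (nat_lit 9882624) (BT.leaf (nat_lit 39319309)) (BT.leaf (nat_lit 34680601))) (BT.node (nat_lit 9882752) (BT.leaf (nat_lit 34587929)) (BT.leaf (nat_lit 38773269)))) (BT.node (nat_lit 9882944) (BT.node (nat_lit 9882880) (BT.leaf (nat_lit 34589721)) (BT.leaf (nat_lit 34491413))) (BT.node (nat_lit 9883008) (BT.leaf (nat_lit 34590481)) (BT.leaf (nat_lit 34800665))))) (BT.node (nat_lit 9883392) (BT.node (nat_lit 9883200) (BT.node (nat_lit 9883136) (BT.leaf (nat_lit 38361377)) (BT.leaf (nat_lit 35891989))) (BT.node (nat_lit 9883264) (BT.leaf (nat_lit 34529309)) (BT.leaf (nat_lit 39310357)))) (BT.node (nat_lit 9883520) (BT.node (nat_lit 9883456) (BT.leaf (nat_lit 39318533)) (BT.leaf (nat_lit 39058437))) (BT.node (nat_lit 9883584) (BT.leaf (nat_lit 39534869)) (BT.leaf (nat_lit 39070729))))))) (BT.node (nat_lit 9884800) (BT.node (nat_lit 9884224) (BT.node (nat_lit 9883968) (BT.node (nat_lit 9883840) (BT.node (nat_lit 9883776) (BT.leaf (nat_lit 40076829)) (BT.leaf (nat_lit 39070725))) (BT.node (nat_lit 9883904) (BT.leaf (nat_lit 34592785)) (BT.leaf (nat_lit 38475549)))) (BT.node (nat_lit 9884096) (BT.node (nat_lit 9884032) (BT.leaf (nat_lit 37554453)) (BT.leaf (nat_lit 39158537))) (BT.node (nat_lit 9884160) (BT.leaf (nat_lit 36344341)) (BT.leaf (nat_lit 34577429))))) (BT.node (nat_lit 9884480) (BT.node (nat_lit 9884352) (BT.node (nat_lit 9884288) (BT.leaf (nat_lit 34593293)) (BT.leaf (nat_lit 36494613))) (BT.node (nat_lit 9884416) (BT.leaf (nat_lit 36493853)) (BT.leaf (nat_lit 41644305)))) (BT.node (nat_lit 9884672) (BT.node (nat_lit 9884608) (BT.leaf (nat_lit 41557281)) (BT.leaf (nat_lit 36491805))) (BT.node (nat_lit 9884736) (BT.leaf (nat_lit 36494617)) (BT.leaf (nat_lit 36494353)))))) (BT.node (nat_lit 9885632) (BT.node (nat_lit 9885184) (BT.node (nat_lit 9885056) (BT.node (nat_lit 9884992) (BT.leaf (nat_lit 41557269)) (BT.leaf (nat_lit 34593313))) (BT.node (nat_lit 9885120) (BT.leaf (nat_lit 35346957)) (BT.leaf (nat_lit 34594053)))) (BT.node (nat_lit 9885504) (BT.node (nat_lit 9885312) (BT.leaf (nat_lit 34594061)) (BT.leaf (nat_lit 40814113))) (BT.node (nat_lit 9885568) (BT.leaf (nat_lit 41148961)) (BT.leaf (nat_lit 41636613))))) (BT.node (nat_lit 9886144) (BT.node (nat_lit 9886016) (BT.node (nat_lit 9885696) (BT.leaf (nat_lit 41637145)) (BT.leaf (nat_lit 34593289))) (BT.node (nat_lit 9886080) (BT.leaf (nat_lit 39329805)) (BT.leaf (nat_lit 34963729)))) (BT.node (nat_lit 9886272) (BT.node (nat_lit 9886208) (BT.leaf (nat_lit 40181281)) (BT.leaf (nat_lit 35562513))) (BT.node (nat_lit 9886336) (BT.leaf (nat_lit 39340041)) (BT.leaf (nat_lit 39340037)))))))) (BT.node (nat_lit 9888576) (BT.node (nat_lit 9887488) (BT.node (nat_lit 9886976) (BT.node (nat_lit 9886720) (BT.node (nat_lit 9886592) (BT.node (nat_lit 9886464) (BT.leaf (nat_lit 35033121)) (BT.leaf (nat_lit 39334921))) (BT.node (nat_lit 9886656) (BT.leaf (nat_lit 41634833)) (BT.leaf (nat_lit 35673105)))) (BT.node (nat_lit 9886848) (BT.node (nat_lit 9886784) (BT.leaf (nat_lit 41634313)) (BT.leaf (nat_lit 41634309))) (BT.node (nat_lit 9886912) (BT.leaf (nat_lit 35673113)) (BT.leaf (nat_lit 37233173))))) (BT.node (nat_lit 9887232) (BT.node (nat_lit 9887104) (BT.node (nat_lit 9887040) (BT.leaf (nat_lit 39321861)) (BT.leaf (nat_lit 35560469))) (BT.node (nat_lit 9887168) (BT.leaf (nat_lit 35560721)) (BT.leaf (nat_lit 35560725)))) (BT.node (nat_lit 9887360) (BT.node (nat_lit 9887296) (BT.leaf (nat_lit 39335173)) (BT.leaf (nat_lit 36535569))) (BT.node (nat_lit 9887424) (BT.leaf (nat_lit 35562769)) (BT.leaf (nat_lit 35562781)))))) (BT.node (nat_lit 9888000) (BT.node (nat_lit 9887744) (BT.node (nat_lit 9887616) (BT.node (nat_lit 9887552) (BT.leaf (nat_lit 35620373)) (BT.leaf (nat_lit 34595593))) (BT.node (nat_lit 9887680) (BT.leaf (nat_lit 39536409)) (BT.leaf (nat_lit 34594329)))) (BT.node (nat_lit 9887872) (BT.node (nat_lit 9887808) (BT.leaf (nat_lit 40717077)) (BT.leaf (nat_lit 40910357))) (BT.node (nat_lit 9887936) (BT.leaf (nat_lit 40911393)) (BT.leaf (nat_lit 34594333))))) (BT.node (nat_lit 9888320) (BT.node (nat_lit 9888128) (BT.node (nat_lit 9888064) (BT.leaf (nat_lit 40911365)) (BT.leaf (nat_lit 39334945))) (BT.node (nat_lit 9888256) (BT.leaf (nat_lit 40912673)) (BT.leaf (nat_lit 37782817)))) (BT.node (nat_lit 9888448) (BT.node (nat_lit 9888384) (BT.leaf (nat_lit 34598673)) (BT.leaf (nat_lit 37782797))) (BT.node (nat_lit 9888512) (BT.leaf (nat_lit 37782801)) (BT.leaf (nat_lit 35717125))))))) (BT.node (nat_lit 9889728) (BT.node (nat_lit 9889088) (BT.node (nat_lit 9888832) (BT.node (nat_lit 9888704) (BT.node (nat_lit 9888640) (BT.leaf (nat_lit 35717129)) (BT.leaf (nat_lit 35717133))) (BT.node (nat_lit 9888768) (BT.leaf (nat_lit 35714069)) (BT.leaf (nat_lit 35714073)))) (BT.node (nat_lit 9888960) (BT.node (nat_lit 9888896) (BT.leaf (nat_lit 35713809)) (BT.leaf (nat_lit 34530073))) (BT.node (nat_lit 9889024) (BT.leaf (nat_lit 39334917)) (BT.leaf (nat_lit 35033093))))) (BT.node (nat_lit 9889472) (BT.node (nat_lit 9889216) (BT.node (nat_lit 9889152) (BT.leaf (nat_lit 35033097)) (BT.leaf (nat_lit 35033101))) (BT.node (nat_lit 9889408) (BT.leaf (nat_lit 35203345)) (BT.leaf (nat_lit 39699477)))) (BT.node (nat_lit 9889600) (BT.node (nat_lit 9889536) (BT.leaf (nat_lit 39699733)) (BT.leaf (nat_lit 35557393))) (BT.node (nat_lit 9889664) (BT.leaf (nat_lit 39170313)) (BT.leaf (nat_lit 39238665)))))) (BT.node (nat_lit 9890432) (BT.node (nat_lit 9890176) (BT.node (nat_lit 9889928) (BT.node (nat_lit 9889923) (BT.leaf (nat_lit 41623573)) (BT.leaf (nat_lit 650696))) (BT.node (nat_lit 9890048) (BT.leaf (nat_lit 650696)) (BT.leaf (nat_lit 35429149)))) (BT.node (nat_lit 9890304) (BT.node (nat_lit 9890240) (BT.leaf (nat_lit 35550993)) (BT.leaf (nat_lit 37012497))) (BT.node (nat_lit 9890368) (BT.leaf (nat_lit 35551001)) (BT.leaf (nat_lit 38517789))))) (BT.node (nat_lit 9890688) (BT.node (nat_lit 9890560) (BT.node (nat_lit 9890496) (BT.leaf (nat_lit 35031825)) (BT.leaf (nat_lit 37046033))) (BT.node (nat_lit 9890624) (BT.leaf (nat_lit 35031833)) (BT.leaf (nat_lit 35031837)))) (BT.node (nat_lit 9890816) (BT.node (nat_lit 9890752) (BT.leaf (nat_lit 35672837)) (BT.leaf (nat_lit 35672841))) (BT.node (nat_lit 9890880) (BT.leaf (nat_lit 34594841)) (BT.leaf (nat_lit 35672853))))))))) (BT.node (nat_lit 9895936) (BT.node (nat_lit 9893440) (BT.node (nat_lit 9892352) (BT.node (nat_lit 9891584) (BT.node (nat_lit 9891328) (BT.node (nat_lit 9891200) (BT.node (nat_lit 9891008) (BT.leaf (nat_lit 41634329)) (BT.leaf (nat_lit 34600725))) (BT.node (nat_lit 9891264) (BT.leaf (nat_lit 34595357)) (BT.leaf (nat_lit 34595613)))) (BT.node (nat_lit 9891456) (BT.node (nat_lit 9891392) (BT.leaf (nat_lit 39544073)) (BT.leaf (nat_lit 35337225))) (BT.node (nat_lit 9891520) (BT.leaf (nat_lit 39321865)) (BT.leaf (nat_lit 34596625))))) (BT.node (nat_lit 9891971) (BT.node (nat_lit 9891712) (BT.node (nat_lit 9891648) (BT.leaf (nat_lit 34978833)) (BT.leaf (nat_lit 34979857))) (BT.node (nat_lit 9891776) (BT.leaf (nat_lit 34596381)) (BT.leaf (nat_lit 34978849)))) (BT.node (nat_lit 9892224) (BT.node (nat_lit 9891976) (BT.leaf (nat_lit 627492)) (BT.leaf (nat_lit 627492))) (BT.node (nat_lit 9892288) (BT.leaf (nat_lit 36942621)) (BT.leaf (nat_lit 34907673)))))) (BT.node (nat_lit 9892928) (BT.node (nat_lit 9892672) (BT.node (nat_lit 9892544) (BT.node (nat_lit 9892416) (BT.leaf (nat_lit 36942609)) (BT.leaf (nat_lit 35623181))) (BT.node (nat_lit 9892608) (BT.leaf (nat_lit 38429713)) (BT.leaf (nat_lit 34552601)))) (BT.node (nat_lit 9892800) (BT.node (nat_lit 9892736) (BT.leaf (nat_lit 34906653)) (BT.leaf (nat_lit 41161221))) (BT.node (nat_lit 9892864) (BT.leaf (nat_lit 41161241)) (BT.leaf (nat_lit 41161249))))) (BT.node (nat_lit 9893184) (BT.node (nat_lit 9893056) (BT.node (nat_lit 9892992) (BT.leaf (nat_lit 35623185)) (BT.leaf (nat_lit 35053061))) (BT.node (nat_lit 9893120) (BT.leaf (nat_lit 38357765)) (BT.leaf (nat_lit 41558561)))) (BT.node (nat_lit 9893312) (BT.node (nat_lit 9893248) (BT.leaf (nat_lit 34015241)) (BT.leaf (nat_lit 35053065))) (BT.node (nat_lit 9893376) (BT.leaf (nat_lit 39085329)) (BT.leaf (nat_lit 39096333))))))) (BT.node (nat_lit 9894912) (BT.node (nat_lit 9894144) (BT.node (nat_lit 9893888) (BT.node (nat_lit 9893760) (BT.node (nat_lit 9893504) (BT.leaf (nat_lit 37425421)) (BT.leaf (nat_lit 35634189))) (BT.node (nat_lit 9893824) (BT.leaf (nat_lit 34598681)) (BT.leaf (nat_lit 34598685)))) (BT.node (nat_lit 9894016) (BT.node (nat_lit 9893952) (BT.leaf (nat_lit 34600209)) (BT.leaf (nat_lit 39233549))) (BT.node (nat_lit 9894080) (BT.leaf (nat_lit 39233825)) (BT.leaf (nat_lit 40912393))))) (BT.node (nat_lit 9894528) (BT.node (nat_lit 9894400) (BT.node (nat_lit 9894208) (BT.leaf (nat_lit 39234337)) (BT.leaf (nat_lit 34600213))) (BT.node (nat_lit 9894464) (BT.leaf (nat_lit 34599965)) (BT.leaf (nat_lit 39198733)))) (BT.node (nat_lit 9894720) (BT.node (nat_lit 9894592) (BT.leaf (nat_lit 39198729)) (BT.leaf (nat_lit 39235873))) (BT.node (nat_lit 9894848) (BT.leaf (nat_lit 34600221)) (BT.leaf (nat_lit 34600713)))))) (BT.node (nat_lit 9895424) (BT.node (nat_lit 9895168) (BT.node (nat_lit 9895040) (BT.node (nat_lit 9894976) (BT.leaf (nat_lit 34600709)) (BT.leaf (nat_lit 34600461))) (BT.node (nat_lit 9895104) (BT.leaf (nat_lit 34600717)) (BT.leaf (nat_lit 35650061)))) (BT.node (nat_lit 9895296) (BT.node (nat_lit 9895232) (BT.leaf (nat_lit 35650065)) (BT.leaf (nat_lit 35650069))) (BT.node (nat_lit 9895360) (BT.leaf (nat_lit 35650073)) (BT.leaf (nat_lit 35650081))))) (BT.node (nat_lit 9895744) (BT.node (nat_lit 9895552) (BT.node (nat_lit 9895488) (BT.leaf (nat_lit 35650833)) (BT.leaf (nat_lit 35650837))) (BT.node (nat_lit 9895680) (BT.leaf (nat_lit 35650841)) (BT.leaf (nat_lit 34997765)))) (BT.node (nat_lit 9895808) (BT.node (nat_lit 9895750) (BT.leaf (nat_lit 34997769)) (BT.leaf (nat_lit 639912))) (BT.node (nat_lit 9895872) (BT.leaf (nat_lit 34601501)) (BT.leaf (nat_lit 34601757)))))))) (BT.node (nat_lit 9898304) (BT.node (nat_lit 9897024) (BT.node (nat_lit 9896448) (BT.node (nat_lit 9896192) (BT.node (nat_lit 9896064) (BT.node (nat_lit 9896003) (BT.leaf (nat_lit 34997793)) (BT.leaf (nat_lit 640224))) (BT.node (nat_lit 9896128) (BT.leaf (nat_lit 34908181)) (BT.leaf (nat_lit 35064581)))) (BT.node (nat_lit 9896320) (BT.node (nat_lit 9896256) (BT.leaf (nat_lit 34979865)) (BT.leaf (nat_lit 34602785))) (BT.node (nat_lit 9896384) (BT.leaf (nat_lit 39349001)) (BT.leaf (nat_lit 39348997))))) (BT.node (nat_lit 9896768) (BT.node (nat_lit 9896576) (BT.node (nat_lit 9896512) (BT.leaf (nat_lit 34603537)) (BT.leaf (nat_lit 39348513))) (BT.node (nat_lit 9896704) (BT.leaf (nat_lit 39919621)) (BT.leaf (nat_lit 37978633)))) (BT.node (nat_lit 9896896) (BT.node (nat_lit 9896832) (BT.leaf (nat_lit 40208665)) (BT.leaf (nat_lit 34651925))) (BT.node (nat_lit 9896960) (BT.leaf (nat_lit 34604561)) (BT.leaf (nat_lit 35870485)))))) (BT.node (nat_lit 9897664) (BT.node (nat_lit 9897280) (BT.node (nat_lit 9897152) (BT.node (nat_lit 9897088) (BT.leaf (nat_lit 35786253)) (BT.leaf (nat_lit 35585565))) (BT.node (nat_lit 9897216) (BT.leaf (nat_lit 34606861)) (BT.leaf (nat_lit 36517401)))) (BT.node (nat_lit 9897536) (BT.node (nat_lit 9897472) (BT.leaf (nat_lit 34608157)) (BT.leaf (nat_lit 40012577))) (BT.node (nat_lit 9897600) (BT.leaf (nat_lit 34604833)) (BT.leaf (nat_lit 38116621))))) (BT.node (nat_lit 9897984) (BT.node (nat_lit 9897856) (BT.node (nat_lit 9897728) (BT.leaf (nat_lit 38116629)) (BT.leaf (nat_lit 38116369))) (BT.node (nat_lit 9897920) (BT.leaf (nat_lit 39873561)) (BT.leaf (nat_lit 39486485)))) (BT.node (nat_lit 9898176) (BT.node (nat_lit 9898112) (BT.leaf (nat_lit 39649821)) (BT.leaf (nat_lit 39594521))) (BT.node (nat_lit 9898240) (BT.leaf (nat_lit 39655201)) (BT.leaf (nat_lit 39653637))))))) (BT.node (nat_lit 9900160) (BT.node (nat_lit 9898816) (BT.node (nat_lit 9898560) (BT.node (nat_lit 9898432) (BT.node (nat_lit 9898368) (BT.leaf (nat_lit 39649797)) (BT.leaf (nat_lit 39649801))) (BT.node (nat_lit 9898496) (BT.leaf (nat_lit 39649813)) (BT.leaf (nat_lit 39649561)))) (BT.node (nat_lit 9898688) (BT.node (nat_lit 9898624) (BT.leaf (nat_lit 34726937)) (BT.leaf (nat_lit 39944973))) (BT.node (nat_lit 9898752) (BT.leaf (nat_lit 37811741)) (BT.leaf (nat_lit 40225041))))) (BT.node (nat_lit 9899520) (BT.node (nat_lit 9899328) (BT.node (nat_lit 9899264) (BT.leaf (nat_lit 39944225)) (BT.leaf (nat_lit 39664909))) (BT.node (nat_lit 9899456) (BT.leaf (nat_lit 39664929)) (BT.leaf (nat_lit 39664901)))) (BT.node (nat_lit 9899968) (BT.node (nat_lit 9899648) (BT.leaf (nat_lit 39663901)) (BT.leaf (nat_lit 35585809))) (BT.node (nat_lit 9900096) (BT.leaf (nat_lit 37969413)) (BT.leaf (nat_lit 37969417)))))) (BT.node (nat_lit 9900800) (BT.node (nat_lit 9900416) (BT.node (nat_lit 9900288) (BT.node (nat_lit 9900224) (BT.leaf (nat_lit 40210701)) (BT.leaf (nat_lit 35585797))) (BT.node (nat_lit 9900352) (BT.leaf (nat_lit 35585801)) (BT.leaf (nat_lit 35585813)))) (BT.node (nat_lit 9900544) (BT.node (nat_lit 9900480) (BT.leaf (nat_lit 35585825)) (BT.leaf (nat_lit 36517145))) (BT.node (nat_lit 9900672) (BT.leaf (nat_lit 36516889)) (BT.leaf (nat_lit 39666461))))) (BT.node (nat_lit 9901056) (BT.node (nat_lit 9900928) (BT.node (nat_lit 9900864) (BT.leaf (nat_lit 35093773)) (BT.leaf (nat_lit 34605585))) (BT.node (nat_lit 9900992) (BT.leaf (nat_lit 35093765)) (BT.leaf (nat_lit 35093769)))) (BT.node (nat_lit 9901248) (BT.node (nat_lit 9901120) (BT.leaf (nat_lit 35093785)) (BT.leaf (nat_lit 34606097))) (BT.node (nat_lit 9901312) (BT.leaf (nat_lit 35586329)) (BT.leaf (nat_lit 34606085)))))))))) (BT.node (nat_lit 9912960) (BT.node (nat_lit 9907904) (BT.node (nat_lit 9904832) (BT.node (nat_lit 9902656) (BT.node (nat_lit 9902016) (BT.node (nat_lit 9901632) (BT.node (nat_lit 9901504) (BT.node (nat_lit 9901440) (BT.leaf (nat_lit 35586073)) (BT.leaf (nat_lit 34561557))) (BT.node (nat_lit 9901568) (BT.leaf (nat_lit 35786265)) (BT.leaf (nat_lit 38970397)))) (BT.node (nat_lit 9901888) (BT.node (nat_lit 9901696) (BT.leaf (nat_lit 35786009)) (BT.leaf (nat_lit 40018713))) (BT.node (nat_lit 9901952) (BT.leaf (nat_lit 39669021)) (BT.leaf (nat_lit 36091929))))) (BT.node (nat_lit 9902336) (BT.node (nat_lit 9902208) (BT.node (nat_lit 9902144) (BT.leaf (nat_lit 34606605)) (BT.leaf (nat_lit 34607633))) (BT.node (nat_lit 9902272) (BT.leaf (nat_lit 34607889)) (BT.leaf (nat_lit 34608145)))) (BT.node (nat_lit 9902464) (BT.node (nat_lit 9902400) (BT.leaf (nat_lit 39767817)) (BT.leaf (nat_lit 35994381))) (BT.node (nat_lit 9902528) (BT.leaf (nat_lit 35994393)) (BT.leaf (nat_lit 35994397)))))) (BT.node (nat_lit 9903552) (BT.node (nat_lit 9902976) (BT.node (nat_lit 9902784) (BT.node (nat_lit 9902720) (BT.leaf (nat_lit 35993861)) (BT.leaf (nat_lit 35993865))) (BT.node (nat_lit 9902848) (BT.leaf (nat_lit 35993881)) (BT.leaf (nat_lit 35993889)))) (BT.node (nat_lit 9903104) (BT.node (nat_lit 9903040) (BT.leaf (nat_lit 38970885)) (BT.leaf (nat_lit 38970889))) (BT.node (nat_lit 9903168) (BT.leaf (nat_lit 38970905)) (BT.leaf (nat_lit 38970913))))) (BT.node (nat_lit 9904576) (BT.node (nat_lit 9903808) (BT.node (nat_lit 9903616) (BT.leaf (nat_lit 39473685)) (BT.leaf (nat_lit 39767557))) (BT.node (nat_lit 9904512) (BT.leaf (nat_lit 41153561)) (BT.leaf (nat_lit 38189581)))) (BT.node (nat_lit 9904704) (BT.node (nat_lit 9904640) (BT.leaf (nat_lit 38189597)) (BT.leaf (nat_lit 38189337))) (BT.node (nat_lit 9904768) (BT.leaf (nat_lit 38189345)) (BT.leaf (nat_lit 35873549))))))) (BT.node (nat_lit 9906048) (BT.node (nat_lit 9905536) (BT.node (nat_lit 9905280) (BT.node (nat_lit 9904960) (BT.node (nat_lit 9904896) (BT.leaf (nat_lit 35873561)) (BT.leaf (nat_lit 35873565))) (BT.node (nat_lit 9905152) (BT.leaf (nat_lit 35873569)) (BT.leaf (nat_lit 39764513)))) (BT.node (nat_lit 9905408) (BT.node (nat_lit 9905344) (BT.leaf (nat_lit 39269661)) (BT.leaf (nat_lit 38939401))) (BT.node (nat_lit 9905472) (BT.leaf (nat_lit 41748229)) (BT.leaf (nat_lit 38095133))))) (BT.node (nat_lit 9905728) (BT.node (nat_lit 9905669) (BT.node (nat_lit 9905667) (BT.leaf (nat_lit 39682317)) (BT.leaf (nat_lit 632912))) (BT.node (nat_lit 9905672) (BT.leaf (nat_lit 632912)) (BT.leaf (nat_lit 632912)))) (BT.node (nat_lit 9905856) (BT.node (nat_lit 9905792) (BT.leaf (nat_lit 39683613)) (BT.leaf (nat_lit 39736069))) (BT.node (nat_lit 9905984) (BT.leaf (nat_lit 34609681)) (BT.leaf (nat_lit 40466449)))))) (BT.node (nat_lit 9907264) (BT.node (nat_lit 9906624) (BT.node (nat_lit 9906304) (BT.node (nat_lit 9906112) (BT.leaf (nat_lit 39736073)) (BT.leaf (nat_lit 34611981))) (BT.node (nat_lit 9906432) (BT.leaf (nat_lit 35869729)) (BT.leaf (nat_lit 39179781)))) (BT.node (nat_lit 9906816) (BT.node (nat_lit 9906752) (BT.leaf (nat_lit 39171341)) (BT.leaf (nat_lit 38757653))) (BT.node (nat_lit 9906880) (BT.leaf (nat_lit 39831573)) (BT.leaf (nat_lit 39225877))))) (BT.node (nat_lit 9907584) (BT.node (nat_lit 9907456) (BT.node (nat_lit 9907398) (BT.leaf (nat_lit 39811085)) (BT.leaf (nat_lit 622176))) (BT.node (nat_lit 9907520) (BT.leaf (nat_lit 35869705)) (BT.leaf (nat_lit 35869701)))) (BT.node (nat_lit 9907776) (BT.node (nat_lit 9907648) (BT.leaf (nat_lit 35869709)) (BT.leaf (nat_lit 38877193))) (BT.node (nat_lit 9907840) (BT.leaf (nat_lit 34611233)) (BT.leaf (nat_lit 39180305)))))))) (BT.node (nat_lit 9910912) (BT.node (nat_lit 9909440) (BT.node (nat_lit 9908480) (BT.node (nat_lit 9908288) (BT.node (nat_lit 9908032) (BT.node (nat_lit 9907968) (BT.leaf (nat_lit 39180309)) (BT.leaf (nat_lit 39180313))) (BT.node (nat_lit 9908096) (BT.leaf (nat_lit 39180317)) (BT.leaf (nat_lit 34611213)))) (BT.node (nat_lit 9908357) (BT.node (nat_lit 9908352) (BT.leaf (nat_lit 39179801)) (BT.leaf (nat_lit 34611717))) (BT.node (nat_lit 9908416) (BT.leaf (nat_lit 639352)) (BT.leaf (nat_lit 38944009))))) (BT.node (nat_lit 9908992) (BT.node (nat_lit 9908608) (BT.node (nat_lit 9908544) (BT.leaf (nat_lit 38944005)) (BT.leaf (nat_lit 41675789))) (BT.node (nat_lit 9908928) (BT.leaf (nat_lit 39694877)) (BT.leaf (nat_lit 39811077)))) (BT.node (nat_lit 9909120) (BT.node (nat_lit 9909056) (BT.leaf (nat_lit 39811097)) (BT.leaf (nat_lit 39811105))) (BT.node (nat_lit 9909312) (BT.leaf (nat_lit 35869713)) (BT.leaf (nat_lit 34611485)))))) (BT.node (nat_lit 9910144) (BT.node (nat_lit 9909696) (BT.node (nat_lit 9909568) (BT.node (nat_lit 9909504) (BT.leaf (nat_lit 34611745)) (BT.leaf (nat_lit 38944529))) (BT.node (nat_lit 9909632) (BT.leaf (nat_lit 38944533)) (BT.leaf (nat_lit 38944541)))) (BT.node (nat_lit 9909824) (BT.node (nat_lit 9909760) (BT.leaf (nat_lit 34611725)) (BT.leaf (nat_lit 35290645))) (BT.node (nat_lit 9909952) (BT.leaf (nat_lit 38402317)) (BT.leaf (nat_lit 39198741))))) (BT.node (nat_lit 9910528) (BT.node (nat_lit 9910336) (BT.node (nat_lit 9910208) (BT.leaf (nat_lit 40988701)) (BT.leaf (nat_lit 40988437))) (BT.node (nat_lit 9910464) (BT.leaf (nat_lit 41735185)) (BT.leaf (nat_lit 41155105)))) (BT.node (nat_lit 9910656) (BT.node (nat_lit 9910592) (BT.leaf (nat_lit 39578389)) (BT.leaf (nat_lit 39578381))) (BT.node (nat_lit 9910848) (BT.leaf (nat_lit 41155597)) (BT.leaf (nat_lit 41157649))))))) (BT.node (nat_lit 9911808) (BT.node (nat_lit 9911304) (BT.node (nat_lit 9911232) (BT.node (nat_lit 9911040) (BT.node (nat_lit 9910976) (BT.leaf (nat_lit 35698701)) (BT.leaf (nat_lit 35698705))) (BT.node (nat_lit 9911168) (BT.leaf (nat_lit 35698713)) (BT.leaf (nat_lit 41329185)))) (BT.node (nat_lit 9911297) (BT.node (nat_lit 9911296) (BT.leaf (nat_lit 38968853)) (BT.leaf (nat_lit 38969353))) (BT.node (nat_lit 9911301) (BT.leaf (nat_lit 622208)) (BT.leaf (nat_lit 622208))))) (BT.node (nat_lit 9911552) (BT.node (nat_lit 9911424) (BT.node (nat_lit 9911360) (BT.leaf (nat_lit 622208)) (BT.leaf (nat_lit 41329165))) (BT.node (nat_lit 9911488) (BT.leaf (nat_lit 38943765)) (BT.leaf (nat_lit 41329177)))) (BT.node (nat_lit 9911680) (BT.node (nat_lit 9911616) (BT.leaf (nat_lit 38943773)) (BT.leaf (nat_lit 39571733))) (BT.node (nat_lit 9911744) (BT.leaf (nat_lit 39706145)) (BT.leaf (nat_lit 39705121)))))) (BT.node (nat_lit 9912384) (BT.node (nat_lit 9912128) (BT.node (nat_lit 9912000) (BT.node (nat_lit 9911936) (BT.leaf (nat_lit 34557213)) (BT.leaf (nat_lit 38511109))) (BT.node (nat_lit 9912064) (BT.leaf (nat_lit 38511137)) (BT.leaf (nat_lit 39349265)))) (BT.node (nat_lit 9912256) (BT.node (nat_lit 9912192) (BT.leaf (nat_lit 36933129)) (BT.leaf (nat_lit 35135497))) (BT.node (nat_lit 9912320) (BT.leaf (nat_lit 38312729)) (BT.leaf (nat_lit 41662225))))) (BT.node (nat_lit 9912704) (BT.node (nat_lit 9912576) (BT.node (nat_lit 9912448) (BT.leaf (nat_lit 39944965)) (BT.leaf (nat_lit 39594017))) (BT.node (nat_lit 9912640) (BT.leaf (nat_lit 37807129)) (BT.leaf (nat_lit 34613265)))) (BT.node (nat_lit 9912771) (BT.node (nat_lit 9912768) (BT.leaf (nat_lit 34613269)) (BT.leaf (nat_lit 35096589))) (BT.node (nat_lit 9912776) (BT.leaf (nat_lit 619700)) (BT.leaf (nat_lit 619700))))))))) (BT.node (nat_lit 9919043) (BT.node (nat_lit 9916224) (BT.node (nat_lit 9914432) (BT.node (nat_lit 9913728) (BT.node (nat_lit 9913472) (BT.node (nat_lit 9913344) (BT.node (nat_lit 9913280) (BT.leaf (nat_lit 34615053)) (BT.leaf (nat_lit 34613521))) (BT.node (nat_lit 9913408) (BT.leaf (nat_lit 34613777)) (BT.leaf (nat_lit 34614277)))) (BT.node (nat_lit 9913600) (BT.node (nat_lit 9913536) (BT.leaf (nat_lit 34614281)) (BT.leaf (nat_lit 34613793))) (BT.node (nat_lit 9913664) (BT.leaf (nat_lit 34614033)) (BT.leaf (nat_lit 34614289))))) (BT.node (nat_lit 9914112) (BT.node (nat_lit 9913984) (BT.node (nat_lit 9913792) (BT.leaf (nat_lit 34614545)) (BT.leaf (nat_lit 39944985))) (BT.node (nat_lit 9914048) (BT.leaf (nat_lit 41708557)) (BT.leaf (nat_lit 39804933)))) (BT.node (nat_lit 9914240) (BT.node (nat_lit 9914176) (BT.leaf (nat_lit 39804953)) (BT.leaf (nat_lit 40616993))) (BT.node (nat_lit 9914304) (BT.leaf (nat_lit 39677701)) (BT.leaf (nat_lit 39677705)))))) (BT.node (nat_lit 9915328) (BT.node (nat_lit 9914816) (BT.node (nat_lit 9914560) (BT.node (nat_lit 9914496) (BT.leaf (nat_lit 39591713)) (BT.leaf (nat_lit 39739425))) (BT.node (nat_lit 9914752) (BT.leaf (nat_lit 39826717)) (BT.leaf (nat_lit 39802649)))) (BT.node (nat_lit 9914944) (BT.node (nat_lit 9914880) (BT.leaf (nat_lit 38893841)) (BT.leaf (nat_lit 39116553))) (BT.node (nat_lit 9915264) (BT.leaf (nat_lit 41265925)) (BT.leaf (nat_lit 35096593))))) (BT.node (nat_lit 9915648) (BT.node (nat_lit 9915456) (BT.node (nat_lit 9915392) (BT.leaf (nat_lit 35096601)) (BT.leaf (nat_lit 35096605))) (BT.node (nat_lit 9915520) (BT.leaf (nat_lit 36297753)) (BT.leaf (nat_lit 34614797)))) (BT.node (nat_lit 9915776) (BT.node (nat_lit 9915712) (BT.leaf (nat_lit 34614817)) (BT.leaf (nat_lit 34615329))) (BT.node (nat_lit 9916032) (BT.leaf (nat_lit 34607109)) (BT.leaf (nat_lit 38676765))))))) (BT.node (nat_lit 9917568) (BT.node (nat_lit 9916675) (BT.node (nat_lit 9916420) (BT.node (nat_lit 9916352) (BT.node (nat_lit 9916288) (BT.leaf (nat_lit 38766873)) (BT.leaf (nat_lit 40192261))) (BT.node (nat_lit 9916416) (BT.leaf (nat_lit 34497301)) (BT.leaf (nat_lit 40192265)))) (BT.node (nat_lit 9916480) (BT.node (nat_lit 9916423) (BT.leaf (nat_lit 620904)) (BT.leaf (nat_lit 620904))) (BT.node (nat_lit 9916552) (BT.leaf (nat_lit 39606305)) (BT.leaf (nat_lit 645004))))) (BT.node (nat_lit 9916928) (BT.node (nat_lit 9916736) (BT.node (nat_lit 9916679) (BT.leaf (nat_lit 644992)) (BT.leaf (nat_lit 644992))) (BT.node (nat_lit 9916864) (BT.leaf (nat_lit 41269773)) (BT.leaf (nat_lit 41268741)))) (BT.node (nat_lit 9917184) (BT.node (nat_lit 9917120) (BT.leaf (nat_lit 36848905)) (BT.leaf (nat_lit 40204553))) (BT.node (nat_lit 9917376) (BT.leaf (nat_lit 37826077)) (BT.leaf (nat_lit 38668829)))))) (BT.node (nat_lit 9918208) (BT.node (nat_lit 9917952) (BT.node (nat_lit 9917760) (BT.node (nat_lit 9917696) (BT.leaf (nat_lit 39608349)) (BT.leaf (nat_lit 41485329))) (BT.node (nat_lit 9917888) (BT.leaf (nat_lit 40363293)) (BT.leaf (nat_lit 34616837)))) (BT.node (nat_lit 9918085) (BT.node (nat_lit 9918080) (BT.leaf (nat_lit 34649613)) (BT.leaf (nat_lit 34649365))) (BT.node (nat_lit 9918144) (BT.leaf (nat_lit 620188)) (BT.leaf (nat_lit 34619669))))) (BT.node (nat_lit 9918464) (BT.node (nat_lit 9918337) (BT.node (nat_lit 9918272) (BT.leaf (nat_lit 34649633)) (BT.leaf (nat_lit 41696285))) (BT.node (nat_lit 9918400) (BT.leaf (nat_lit 623716)) (BT.leaf (nat_lit 34627613)))) (BT.node (nat_lit 9918784) (BT.node (nat_lit 9918528) (BT.leaf (nat_lit 34616865)) (BT.leaf (nat_lit 41695505))) (BT.node (nat_lit 9918912) (BT.leaf (nat_lit 34648325)) (BT.leaf (nat_lit 36736285)))))))) (BT.node (nat_lit 9922240) (BT.node (nat_lit 9921024) (BT.node (nat_lit 9919936) (BT.node (nat_lit 9919488) (BT.node (nat_lit 9919296) (BT.node (nat_lit 9919170) (BT.leaf (nat_lit 621264)) (BT.leaf (nat_lit 630468))) (BT.node (nat_lit 9919360) (BT.leaf (nat_lit 34617105)) (BT.leaf (nat_lit 37805577)))) (BT.node (nat_lit 9919808) (BT.node (nat_lit 9919744) (BT.leaf (nat_lit 38754593)) (BT.leaf (nat_lit 34657293))) (BT.node (nat_lit 9919872) (BT.leaf (nat_lit 34657301)) (BT.leaf (nat_lit 34657309))))) (BT.node (nat_lit 9920768) (BT.node (nat_lit 9920640) (BT.node (nat_lit 9920128) (BT.leaf (nat_lit 38753821)) (BT.leaf (nat_lit 39606277))) (BT.node (nat_lit 9920704) (BT.leaf (nat_lit 36146181)) (BT.leaf (nat_lit 36146185)))) (BT.node (nat_lit 9920896) (BT.node (nat_lit 9920832) (BT.leaf (nat_lit 34566685)) (BT.leaf (nat_lit 34618141))) (BT.node (nat_lit 9920960) (BT.leaf (nat_lit 36146209)) (BT.leaf (nat_lit 36304913)))))) (BT.node (nat_lit 9921536) (BT.node (nat_lit 9921280) (BT.node (nat_lit 9921152) (BT.node (nat_lit 9921088) (BT.leaf (nat_lit 36304921)) (BT.leaf (nat_lit 39485961))) (BT.node (nat_lit 9921216) (BT.leaf (nat_lit 39605793)) (BT.leaf (nat_lit 39606049)))) (BT.node (nat_lit 9921408) (BT.node (nat_lit 9921344) (BT.leaf (nat_lit 38266657)) (BT.leaf (nat_lit 34622477))) (BT.node (nat_lit 9921472) (BT.leaf (nat_lit 34619149)) (BT.leaf (nat_lit 34649097))))) (BT.node (nat_lit 9921856) (BT.node (nat_lit 9921728) (BT.node (nat_lit 9921600) (BT.leaf (nat_lit 34649093)) (BT.leaf (nat_lit 34648857))) (BT.node (nat_lit 9921792) (BT.leaf (nat_lit 39634193)) (BT.leaf (nat_lit 39626525)))) (BT.node (nat_lit 9921984) (BT.node (nat_lit 9921920) (BT.leaf (nat_lit 35647257)) (BT.leaf (nat_lit 36065297))) (BT.node (nat_lit 9922048) (BT.leaf (nat_lit 35257369)) (BT.leaf (nat_lit 36065309))))))) (BT.node (nat_lit 9923712) (BT.node (nat_lit 9923072) (BT.node (nat_lit 9922752) (BT.node (nat_lit 9922432) (BT.node (nat_lit 9922304) (BT.leaf (nat_lit 40626713)) (BT.leaf (nat_lit 39627549))) (BT.node (nat_lit 9922688) (BT.leaf (nat_lit 36064021)) (BT.leaf (nat_lit 34618397)))) (BT.node (nat_lit 9922880) (BT.node (nat_lit 9922816) (BT.leaf (nat_lit 34619165)) (BT.leaf (nat_lit 35772961))) (BT.node (nat_lit 9922944) (BT.leaf (nat_lit 34619681)) (BT.leaf (nat_lit 34649361))))) (BT.node (nat_lit 9923392) (BT.node (nat_lit 9923200) (BT.node (nat_lit 9923136) (BT.leaf (nat_lit 34649373)) (BT.leaf (nat_lit 34619661))) (BT.node (nat_lit 9923264) (BT.leaf (nat_lit 35373317)) (BT.leaf (nat_lit 35373321)))) (BT.node (nat_lit 9923520) (BT.node (nat_lit 9923456) (BT.leaf (nat_lit 36064033)) (BT.leaf (nat_lit 39431689))) (BT.node (nat_lit 9923584) (BT.leaf (nat_lit 39431685)) (BT.leaf (nat_lit 34618653)))))) (BT.node (nat_lit 9924352) (BT.node (nat_lit 9924096) (BT.node (nat_lit 9923840) (BT.node (nat_lit 9923776) (BT.leaf (nat_lit 39426573)) (BT.leaf (nat_lit 35767069))) (BT.node (nat_lit 9924032) (BT.leaf (nat_lit 41275929)) (BT.leaf (nat_lit 39431949)))) (BT.node (nat_lit 9924224) (BT.node (nat_lit 9924162) (BT.leaf (nat_lit 39431953)) (BT.leaf (nat_lit 623712))) (BT.node (nat_lit 9924288) (BT.leaf (nat_lit 39431965)) (BT.leaf (nat_lit 39431969))))) (BT.node (nat_lit 9924608) (BT.node (nat_lit 9924480) (BT.node (nat_lit 9924416) (BT.leaf (nat_lit 34620185)) (BT.leaf (nat_lit 34621961))) (BT.node (nat_lit 9924544) (BT.leaf (nat_lit 34621957)) (BT.leaf (nat_lit 34621965)))) (BT.node (nat_lit 9924736) (BT.node (nat_lit 9924672) (BT.leaf (nat_lit 34620693)) (BT.leaf (nat_lit 35263505))) (BT.node (nat_lit 9924740) (BT.leaf (nat_lit 34621461)) (BT.leaf (nat_lit 651304)))))))))))))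
noncomputable def e1_e53248 : BT Nat := (BT.node (nat_lit 10014656) (BT.node (nat_lit 9975104) (BT.node (nat_lit 9947840) (BT.node (nat_lit 9936448) (BT.node (nat_lit 9930752) (BT.node (nat_lit 9927616) (BT.node (nat_lit 9926144) (BT.node (nat_lit 9925504) (BT.node (nat_lit 9924996) (BT.node (nat_lit 9924864) (BT.node (nat_lit 9924800) (BT.leaf (nat_lit 651304)) (BT.leaf (nat_lit 35263521))) (BT.node (nat_lit 9924928) (BT.leaf (nat_lit 35261709)) (BT.leaf (nat_lit 35261729)))) (BT.node (nat_lit 9925120) (BT.node (nat_lit 9924998) (BT.leaf (nat_lit 644428)) (BT.leaf (nat_lit 644428))) (BT.node (nat_lit 9925248) (BT.leaf (nat_lit 34621725)) (BT.leaf (nat_lit 39343637))))) (BT.node (nat_lit 9925824) (BT.node (nat_lit 9925632) (BT.node (nat_lit 9925568) (BT.leaf (nat_lit 34621973)) (BT.leaf (nat_lit 35266829))) (BT.node (nat_lit 9925760) (BT.leaf (nat_lit 35266833)) (BT.leaf (nat_lit 35266845)))) (BT.node (nat_lit 9926016) (BT.node (nat_lit 9925952) (BT.leaf (nat_lit 35266849)) (BT.leaf (nat_lit 39645473))) (BT.node (nat_lit 9926080) (BT.leaf (nat_lit 37006873)) (BT.leaf (nat_lit 39821325)))))) (BT.node (nat_lit 9926848) (BT.node (nat_lit 9926400) (BT.node (nat_lit 9926272) (BT.node (nat_lit 9926208) (BT.leaf (nat_lit 37006605)) (BT.leaf (nat_lit 39705113))) (BT.node (nat_lit 9926336) (BT.leaf (nat_lit 34496029)) (BT.leaf (nat_lit 34623001)))) (BT.node (nat_lit 9926592) (BT.node (nat_lit 9926528) (BT.leaf (nat_lit 40486669)) (BT.leaf (nat_lit 38465305))) (BT.node (nat_lit 9926656) (BT.leaf (nat_lit 39648781)) (BT.leaf (nat_lit 39649057))))) (BT.node (nat_lit 9927232) (BT.node (nat_lit 9927104) (BT.node (nat_lit 9927040) (BT.leaf (nat_lit 39358725)) (BT.leaf (nat_lit 41603605))) (BT.node (nat_lit 9927168) (BT.leaf (nat_lit 37736473)) (BT.leaf (nat_lit 39725581)))) (BT.node (nat_lit 9927488) (BT.node (nat_lit 9927360) (BT.leaf (nat_lit 39725601)) (BT.leaf (nat_lit 39725857))) (BT.node (nat_lit 9927552) (BT.leaf (nat_lit 34855693)) (BT.leaf (nat_lit 34855685))))))) (BT.node (nat_lit 9929280) (BT.node (nat_lit 9928512) (BT.node (nat_lit 9928064) (BT.node (nat_lit 9927936) (BT.node (nat_lit 9927680) (BT.leaf (nat_lit 34855689)) (BT.leaf (nat_lit 34855713))) (BT.node (nat_lit 9928000) (BT.leaf (nat_lit 39488013)) (BT.leaf (nat_lit 39488033)))) (BT.node (nat_lit 9928256) (BT.node (nat_lit 9928192) (BT.leaf (nat_lit 34102281)) (BT.leaf (nat_lit 39488529))) (BT.node (nat_lit 9928320) (BT.leaf (nat_lit 39727137)) (BT.leaf (nat_lit 38159889))))) (BT.node (nat_lit 9928896) (BT.node (nat_lit 9928768) (BT.node (nat_lit 9928576) (BT.leaf (nat_lit 39727373)) (BT.leaf (nat_lit 39683869))) (BT.node (nat_lit 9928832) (BT.leaf (nat_lit 39729933)) (BT.leaf (nat_lit 40859653)))) (BT.node (nat_lit 9929088) (BT.node (nat_lit 9929024) (BT.leaf (nat_lit 40859661)) (BT.leaf (nat_lit 39731485))) (BT.node (nat_lit 9929216) (BT.leaf (nat_lit 39729165)) (BT.leaf (nat_lit 40638217)))))) (BT.node (nat_lit 9930176) (BT.node (nat_lit 9929536) (BT.node (nat_lit 9929408) (BT.node (nat_lit 9929344) (BT.leaf (nat_lit 39730449)) (BT.leaf (nat_lit 40638221))) (BT.node (nat_lit 9929472) (BT.leaf (nat_lit 40638241)) (BT.leaf (nat_lit 40646925)))) (BT.node (nat_lit 9930048) (BT.node (nat_lit 9929920) (BT.leaf (nat_lit 40647437)) (BT.leaf (nat_lit 39384077))) (BT.node (nat_lit 9930112) (BT.leaf (nat_lit 39362829)) (BT.leaf (nat_lit 41256473))))) (BT.node (nat_lit 9930432) (BT.node (nat_lit 9930304) (BT.node (nat_lit 9930240) (BT.leaf (nat_lit 39732769)) (BT.leaf (nat_lit 39733529))) (BT.node (nat_lit 9930368) (BT.leaf (nat_lit 41047321)) (BT.leaf (nat_lit 41047329)))) (BT.node (nat_lit 9930560) (BT.node (nat_lit 9930496) (BT.leaf (nat_lit 38303761)) (BT.leaf (nat_lit 38303769))) (BT.node (nat_lit 9930688) (BT.leaf (nat_lit 38303773)) (BT.leaf (nat_lit 40852501)))))))) (BT.node (nat_lit 9933952) (BT.node (nat_lit 9932544) (BT.node (nat_lit 9931776) (BT.node (nat_lit 9931264) (BT.node (nat_lit 9931072) (BT.node (nat_lit 9930816) (BT.leaf (nat_lit 34100761)) (BT.leaf (nat_lit 39735841))) (BT.node (nat_lit 9931200) (BT.leaf (nat_lit 39355661)) (BT.leaf (nat_lit 39708705)))) (BT.node (nat_lit 9931584) (BT.node (nat_lit 9931328) (BT.leaf (nat_lit 39727905)) (BT.leaf (nat_lit 39709709))) (BT.node (nat_lit 9931712) (BT.leaf (nat_lit 41585689)) (BT.leaf (nat_lit 39296781))))) (BT.node (nat_lit 9932160) (BT.node (nat_lit 9931968) (BT.node (nat_lit 9931904) (BT.leaf (nat_lit 39713805)) (BT.leaf (nat_lit 39713825))) (BT.node (nat_lit 9932032) (BT.leaf (nat_lit 39725837)) (BT.leaf (nat_lit 39623201)))) (BT.node (nat_lit 9932288) (BT.node (nat_lit 9932224) (BT.leaf (nat_lit 38080021)) (BT.leaf (nat_lit 34632221))) (BT.node (nat_lit 9932352) (BT.leaf (nat_lit 39211025)) (BT.leaf (nat_lit 34855941)))))) (BT.node (nat_lit 9933312) (BT.node (nat_lit 9932800) (BT.node (nat_lit 9932672) (BT.node (nat_lit 9932608) (BT.leaf (nat_lit 37695517)) (BT.leaf (nat_lit 38090525))) (BT.node (nat_lit 9932736) (BT.leaf (nat_lit 39715333)) (BT.leaf (nat_lit 38089481)))) (BT.node (nat_lit 9933120) (BT.node (nat_lit 9932864) (BT.leaf (nat_lit 38089477)) (BT.leaf (nat_lit 38090273))) (BT.node (nat_lit 9933248) (BT.leaf (nat_lit 39438853)) (BT.leaf (nat_lit 39720973))))) (BT.node (nat_lit 9933632) (BT.node (nat_lit 9933504) (BT.node (nat_lit 9933440) (BT.leaf (nat_lit 39720977)) (BT.leaf (nat_lit 39720993))) (BT.node (nat_lit 9933568) (BT.leaf (nat_lit 34846993)) (BT.leaf (nat_lit 34847001)))) (BT.node (nat_lit 9933824) (BT.node (nat_lit 9933696) (BT.leaf (nat_lit 34847005)) (BT.leaf (nat_lit 38081305))) (BT.node (nat_lit 9933888) (BT.leaf (nat_lit 39722765)) (BT.leaf (nat_lit 40582417))))))) (BT.node (nat_lit 9935168) (BT.node (nat_lit 9934592) (BT.node (nat_lit 9934208) (BT.node (nat_lit 9934080) (BT.node (nat_lit 9934016) (BT.leaf (nat_lit 40582425)) (BT.leaf (nat_lit 38081813))) (BT.node (nat_lit 9934144) (BT.leaf (nat_lit 34631177)) (BT.leaf (nat_lit 34631173)))) (BT.node (nat_lit 9934464) (BT.node (nat_lit 9934272) (BT.leaf (nat_lit 34631201)) (BT.leaf (nat_lit 34630917))) (BT.node (nat_lit 9934528) (BT.leaf (nat_lit 34629401)) (BT.leaf (nat_lit 41712401))))) (BT.node (nat_lit 9934848) (BT.node (nat_lit 9934720) (BT.node (nat_lit 9934656) (BT.leaf (nat_lit 41713169)) (BT.leaf (nat_lit 41022989))) (BT.node (nat_lit 9934784) (BT.leaf (nat_lit 38655757)) (BT.leaf (nat_lit 35109401)))) (BT.node (nat_lit 9935040) (BT.node (nat_lit 9934976) (BT.leaf (nat_lit 39856409)) (BT.leaf (nat_lit 39800085))) (BT.node (nat_lit 9935104) (BT.leaf (nat_lit 39800597)) (BT.leaf (nat_lit 41463573)))))) (BT.node (nat_lit 9935872) (BT.node (nat_lit 9935424) (BT.node (nat_lit 9935296) (BT.node (nat_lit 9935232) (BT.leaf (nat_lit 38326049)) (BT.leaf (nat_lit 38314273))) (BT.node (nat_lit 9935360) (BT.leaf (nat_lit 34625813)) (BT.leaf (nat_lit 39823373)))) (BT.node (nat_lit 9935744) (BT.node (nat_lit 9935680) (BT.leaf (nat_lit 34633997)) (BT.leaf (nat_lit 39645729))) (BT.node (nat_lit 9935808) (BT.leaf (nat_lit 39770885)) (BT.leaf (nat_lit 34631713))))) (BT.node (nat_lit 9936192) (BT.node (nat_lit 9936000) (BT.node (nat_lit 9935936) (BT.leaf (nat_lit 34625817)) (BT.leaf (nat_lit 34625825))) (BT.node (nat_lit 9936064) (BT.leaf (nat_lit 36731681)) (BT.leaf (nat_lit 39926817)))) (BT.node (nat_lit 9936320) (BT.node (nat_lit 9936256) (BT.leaf (nat_lit 34639117)) (BT.leaf (nat_lit 36563469))) (BT.node (nat_lit 9936384) (BT.leaf (nat_lit 36563461)) (BT.leaf (nat_lit 36563465))))))))) (BT.node (nat_lit 9941504) (BT.node (nat_lit 9938688) (BT.node (nat_lit 9937536) (BT.node (nat_lit 9937024) (BT.node (nat_lit 9936704) (BT.node (nat_lit 9936576) (BT.node (nat_lit 9936512) (BT.leaf (nat_lit 34626065)) (BT.leaf (nat_lit 36564753))) (BT.node (nat_lit 9936640) (BT.leaf (nat_lit 36698373)) (BT.leaf (nat_lit 36451333)))) (BT.node (nat_lit 9936896) (BT.node (nat_lit 9936768) (BT.leaf (nat_lit 34626077)) (BT.leaf (nat_lit 37334809))) (BT.node (nat_lit 9936960) (BT.leaf (nat_lit 36935689)) (BT.leaf (nat_lit 34638369))))) (BT.node (nat_lit 9937280) (BT.node (nat_lit 9937152) (BT.node (nat_lit 9937088) (BT.leaf (nat_lit 34756369)) (BT.leaf (nat_lit 36681757))) (BT.node (nat_lit 9937216) (BT.leaf (nat_lit 36565773)) (BT.leaf (nat_lit 36565765)))) (BT.node (nat_lit 9937408) (BT.node (nat_lit 9937344) (BT.leaf (nat_lit 36565769)) (BT.leaf (nat_lit 36565785))) (BT.node (nat_lit 9937472) (BT.leaf (nat_lit 36565521)) (BT.leaf (nat_lit 39271173)))))) (BT.node (nat_lit 9938113) (BT.node (nat_lit 9937856) (BT.node (nat_lit 9937728) (BT.node (nat_lit 9937664) (BT.leaf (nat_lit 39271177)) (BT.leaf (nat_lit 38086169))) (BT.node (nat_lit 9937792) (BT.leaf (nat_lit 34797601)) (BT.leaf (nat_lit 39153177)))) (BT.node (nat_lit 9938048) (BT.node (nat_lit 9937920) (BT.leaf (nat_lit 34797845)) (BT.leaf (nat_lit 34797577))) (BT.node (nat_lit 9938112) (BT.leaf (nat_lit 34640909)) (BT.leaf (nat_lit 40194821))))) (BT.node (nat_lit 9938368) (BT.node (nat_lit 9938240) (BT.node (nat_lit 9938176) (BT.leaf (nat_lit 621272)) (BT.leaf (nat_lit 41182733))) (BT.node (nat_lit 9938304) (BT.leaf (nat_lit 34644749)) (BT.leaf (nat_lit 34626585)))) (BT.node (nat_lit 9938496) (BT.node (nat_lit 9938432) (BT.leaf (nat_lit 35993621)) (BT.leaf (nat_lit 35993361))) (BT.node (nat_lit 9938624) (BT.leaf (nat_lit 34627349)) (BT.leaf (nat_lit 34627101))))))) (BT.node (nat_lit 9939904) (BT.node (nat_lit 9939328) (BT.node (nat_lit 9939072) (BT.node (nat_lit 9938824) (BT.node (nat_lit 9938752) (BT.leaf (nat_lit 35993377)) (BT.leaf (nat_lit 38166285))) (BT.node (nat_lit 9939008) (BT.leaf (nat_lit 621684)) (BT.leaf (nat_lit 34627601)))) (BT.node (nat_lit 9939200) (BT.node (nat_lit 9939136) (BT.leaf (nat_lit 34627857)) (BT.leaf (nat_lit 39268357))) (BT.node (nat_lit 9939264) (BT.leaf (nat_lit 39268361)) (BT.leaf (nat_lit 39268377))))) (BT.node (nat_lit 9939648) (BT.node (nat_lit 9939456) (BT.node (nat_lit 9939392) (BT.leaf (nat_lit 39268385)) (BT.leaf (nat_lit 34628613))) (BT.node (nat_lit 9939584) (BT.leaf (nat_lit 34628617)) (BT.leaf (nat_lit 38204941)))) (BT.node (nat_lit 9939776) (BT.node (nat_lit 9939712) (BT.leaf (nat_lit 34628365)) (BT.leaf (nat_lit 34628373))) (BT.node (nat_lit 9939840) (BT.leaf (nat_lit 38204933)) (BT.leaf (nat_lit 38204937)))))) (BT.node (nat_lit 9940608) (BT.node (nat_lit 9940160) (BT.node (nat_lit 9940032) (BT.node (nat_lit 9939968) (BT.leaf (nat_lit 34628121)) (BT.leaf (nat_lit 38204949))) (BT.node (nat_lit 9940096) (BT.leaf (nat_lit 38204957)) (BT.leaf (nat_lit 38204961)))) (BT.node (nat_lit 9940288) (BT.node (nat_lit 9940224) (BT.leaf (nat_lit 34628129)) (BT.leaf (nat_lit 41462557))) (BT.node (nat_lit 9940416) (BT.leaf (nat_lit 40194825)) (BT.leaf (nat_lit 40194849))))) (BT.node (nat_lit 9941248) (BT.node (nat_lit 9940992) (BT.node (nat_lit 9940672) (BT.leaf (nat_lit 37741333)) (BT.leaf (nat_lit 37741341))) (BT.node (nat_lit 9941056) (BT.leaf (nat_lit 34629133)) (BT.leaf (nat_lit 34629389)))) (BT.node (nat_lit 9941376) (BT.node (nat_lit 9941312) (BT.leaf (nat_lit 39620621)) (BT.leaf (nat_lit 39620633))) (BT.node (nat_lit 9941440) (BT.leaf (nat_lit 39620637)) (BT.leaf (nat_lit 35306501)))))))) (BT.node (nat_lit 9944832) (BT.node (nat_lit 9942784) (BT.node (nat_lit 9942272) (BT.node (nat_lit 9942016) (BT.node (nat_lit 9941824) (BT.node (nat_lit 9941568) (BT.leaf (nat_lit 35306505)) (BT.leaf (nat_lit 35306257))) (BT.node (nat_lit 9941888) (BT.leaf (nat_lit 39614217)) (BT.leaf (nat_lit 39614213)))) (BT.node (nat_lit 9942144) (BT.node (nat_lit 9942080) (BT.leaf (nat_lit 34629665)) (BT.leaf (nat_lit 34650141))) (BT.node (nat_lit 9942208) (BT.leaf (nat_lit 34629645)) (BT.leaf (nat_lit 39421457))))) (BT.node (nat_lit 9942528) (BT.node (nat_lit 9942400) (BT.node (nat_lit 9942336) (BT.leaf (nat_lit 38354957)) (BT.leaf (nat_lit 38354977))) (BT.node (nat_lit 9942464) (BT.leaf (nat_lit 38655749)) (BT.leaf (nat_lit 39798297)))) (BT.node (nat_lit 9942656) (BT.node (nat_lit 9942592) (BT.leaf (nat_lit 35088673)) (BT.leaf (nat_lit 36561169))) (BT.node (nat_lit 9942720) (BT.leaf (nat_lit 35088653)) (BT.leaf (nat_lit 39840793)))))) (BT.node (nat_lit 9944064) (BT.node (nat_lit 9943616) (BT.node (nat_lit 9943168) (BT.node (nat_lit 9943104) (BT.leaf (nat_lit 35781917)) (BT.leaf (nat_lit 38915085))) (BT.node (nat_lit 9943488) (BT.leaf (nat_lit 39502341)) (BT.leaf (nat_lit 34866713)))) (BT.node (nat_lit 9943936) (BT.node (nat_lit 9943680) (BT.leaf (nat_lit 38910753)) (BT.leaf (nat_lit 41443865))) (BT.node (nat_lit 9944000) (BT.leaf (nat_lit 38314245)) (BT.leaf (nat_lit 38314249))))) (BT.node (nat_lit 9944576) (BT.node (nat_lit 9944192) (BT.node (nat_lit 9944128) (BT.leaf (nat_lit 38326021)) (BT.leaf (nat_lit 39770909))) (BT.node (nat_lit 9944448) (BT.leaf (nat_lit 39267849)) (BT.leaf (nat_lit 34630425)))) (BT.node (nat_lit 9944704) (BT.node (nat_lit 9944640) (BT.leaf (nat_lit 34630681)) (BT.leaf (nat_lit 34630937))) (BT.node (nat_lit 9944768) (BT.leaf (nat_lit 34631189)) (BT.leaf (nat_lit 34631445))))))) (BT.node (nat_lit 9946432) (BT.node (nat_lit 9945600) (BT.node (nat_lit 9945152) (BT.node (nat_lit 9945028) (BT.node (nat_lit 9944896) (BT.leaf (nat_lit 38953477)) (BT.leaf (nat_lit 41326105))) (BT.node (nat_lit 9945030) (BT.leaf (nat_lit 626712)) (BT.leaf (nat_lit 626712)))) (BT.node (nat_lit 9945472) (BT.node (nat_lit 9945408) (BT.leaf (nat_lit 34631193)) (BT.leaf (nat_lit 34101273))) (BT.node (nat_lit 9945536) (BT.leaf (nat_lit 34631449)) (BT.leaf (nat_lit 34632217))))) (BT.node (nat_lit 9945920) (BT.node (nat_lit 9945728) (BT.node (nat_lit 9945664) (BT.leaf (nat_lit 36939029)) (BT.leaf (nat_lit 39926797))) (BT.node (nat_lit 9945792) (BT.leaf (nat_lit 36731409)) (BT.leaf (nat_lit 41021449)))) (BT.node (nat_lit 9946176) (BT.node (nat_lit 9945984) (BT.leaf (nat_lit 38392325)) (BT.leaf (nat_lit 36681241))) (BT.node (nat_lit 9946240) (BT.leaf (nat_lit 37527577)) (BT.leaf (nat_lit 34636317)))))) (BT.node (nat_lit 9947264) (BT.node (nat_lit 9946816) (BT.node (nat_lit 9946688) (BT.node (nat_lit 9946560) (BT.leaf (nat_lit 36940053)) (BT.leaf (nat_lit 39791369))) (BT.node (nat_lit 9946752) (BT.leaf (nat_lit 34639133)) (BT.leaf (nat_lit 39791365)))) (BT.node (nat_lit 9947072) (BT.node (nat_lit 9947008) (BT.leaf (nat_lit 34638365)) (BT.leaf (nat_lit 34642449))) (BT.node (nat_lit 9947200) (BT.leaf (nat_lit 34642461)) (BT.leaf (nat_lit 39814681))))) (BT.node (nat_lit 9947520) (BT.node (nat_lit 9947336) (BT.node (nat_lit 9947328) (BT.leaf (nat_lit 34644765)) (BT.leaf (nat_lit 41583901))) (BT.node (nat_lit 9947456) (BT.leaf (nat_lit 623172)) (BT.leaf (nat_lit 34632965)))) (BT.node (nat_lit 9947652) (BT.node (nat_lit 9947648) (BT.leaf (nat_lit 34632969)) (BT.leaf (nat_lit 35879177))) (BT.node (nat_lit 9947712) (BT.leaf (nat_lit 624368)) (BT.leaf (nat_lit 35974941)))))))))) (BT.node (nat_lit 9962176) (BT.node (nat_lit 9955328) (BT.node (nat_lit 9951488) (BT.node (nat_lit 9950016) (BT.node (nat_lit 9948480) (BT.node (nat_lit 9948356) (BT.node (nat_lit 9948160) (BT.node (nat_lit 9947904) (BT.leaf (nat_lit 35980309)) (BT.leaf (nat_lit 35980317))) (BT.node (nat_lit 9948352) (BT.leaf (nat_lit 34633237)) (BT.leaf (nat_lit 34661137)))) (BT.node (nat_lit 9948416) (BT.node (nat_lit 9948360) (BT.leaf (nat_lit 624376)) (BT.leaf (nat_lit 624376))) (BT.node (nat_lit 9948419) (BT.leaf (nat_lit 35879181)) (BT.leaf (nat_lit 624372))))) (BT.node (nat_lit 9949568) (BT.node (nat_lit 9948736) (BT.node (nat_lit 9948544) (BT.leaf (nat_lit 34665477)) (BT.leaf (nat_lit 35878681))) (BT.node (nat_lit 9949504) (BT.leaf (nat_lit 39267609)) (BT.leaf (nat_lit 38438409)))) (BT.node (nat_lit 9949698) (BT.node (nat_lit 9949697) (BT.leaf (nat_lit 38655765)) (BT.leaf (nat_lit 636668))) (BT.node (nat_lit 9949888) (BT.leaf (nat_lit 636668)) (BT.leaf (nat_lit 38947085)))))) (BT.node (nat_lit 9950656) (BT.node (nat_lit 9950272) (BT.node (nat_lit 9950144) (BT.node (nat_lit 9950080) (BT.leaf (nat_lit 36561933)) (BT.leaf (nat_lit 35108897))) (BT.node (nat_lit 9950208) (BT.leaf (nat_lit 35108889)) (BT.leaf (nat_lit 35107845)))) (BT.node (nat_lit 9950400) (BT.node (nat_lit 9950336) (BT.leaf (nat_lit 35107849)) (BT.leaf (nat_lit 35107861))) (BT.node (nat_lit 9950528) (BT.leaf (nat_lit 35109145)) (BT.leaf (nat_lit 41080609))))) (BT.node (nat_lit 9951040) (BT.node (nat_lit 9950912) (BT.node (nat_lit 9950848) (BT.leaf (nat_lit 34633485)) (BT.leaf (nat_lit 38656025))) (BT.node (nat_lit 9950976) (BT.leaf (nat_lit 34633753)) (BT.leaf (nat_lit 39927069)))) (BT.node (nat_lit 9951360) (BT.node (nat_lit 9951232) (BT.leaf (nat_lit 40423189)) (BT.leaf (nat_lit 39840033))) (BT.node (nat_lit 9951424) (BT.leaf (nat_lit 39845385)) (BT.leaf (nat_lit 39845381))))))) (BT.node (nat_lit 9953600) (BT.node (nat_lit 9952771) (BT.node (nat_lit 9952640) (BT.node (nat_lit 9951872) (BT.node (nat_lit 9951808) (BT.leaf (nat_lit 39844613)) (BT.leaf (nat_lit 34634001))) (BT.node (nat_lit 9952128) (BT.leaf (nat_lit 34634005)) (BT.leaf (nat_lit 36668701)))) (BT.node (nat_lit 9952768) (BT.node (nat_lit 9952704) (BT.leaf (nat_lit 36640773)) (BT.leaf (nat_lit 40918277))) (BT.node (nat_lit 9952770) (BT.leaf (nat_lit 39635217)) (BT.leaf (nat_lit 645256))))) (BT.node (nat_lit 9952896) (BT.node (nat_lit 9952776) (BT.node (nat_lit 9952774) (BT.leaf (nat_lit 645256)) (BT.leaf (nat_lit 645256))) (BT.node (nat_lit 9952832) (BT.leaf (nat_lit 645256)) (BT.leaf (nat_lit 34648853)))) (BT.node (nat_lit 9953472) (BT.node (nat_lit 9953408) (BT.leaf (nat_lit 34649109)) (BT.leaf (nat_lit 37745161))) (BT.node (nat_lit 9953536) (BT.leaf (nat_lit 37745165)) (BT.leaf (nat_lit 37744657)))))) (BT.node (nat_lit 9954432) (BT.node (nat_lit 9954176) (BT.node (nat_lit 9953920) (BT.node (nat_lit 9953664) (BT.leaf (nat_lit 37744661)) (BT.leaf (nat_lit 37744669))) (BT.node (nat_lit 9954112) (BT.leaf (nat_lit 34703381)) (BT.leaf (nat_lit 36741901)))) (BT.node (nat_lit 9954304) (BT.node (nat_lit 9954240) (BT.leaf (nat_lit 36741905)) (BT.leaf (nat_lit 36741917))) (BT.node (nat_lit 9954368) (BT.leaf (nat_lit 36741921)) (BT.leaf (nat_lit 39013641))))) (BT.node (nat_lit 9954944) (BT.node (nat_lit 9954752) (BT.node (nat_lit 9954496) (BT.leaf (nat_lit 39013637)) (BT.leaf (nat_lit 39013133))) (BT.node (nat_lit 9954816) (BT.leaf (nat_lit 34691601)) (BT.leaf (nat_lit 39176717)))) (BT.node (nat_lit 9955136) (BT.node (nat_lit 9955072) (BT.leaf (nat_lit 39824657)) (BT.leaf (nat_lit 39800605))) (BT.node (nat_lit 9955200) (BT.leaf (nat_lit 39766549)) (BT.leaf (nat_lit 38969861)))))))) (BT.node (nat_lit 9958912) (BT.node (nat_lit 9956544) (BT.node (nat_lit 9955840) (BT.node (nat_lit 9955584) (BT.node (nat_lit 9955456) (BT.node (nat_lit 9955392) (BT.leaf (nat_lit 38968861)) (BT.leaf (nat_lit 41438737))) (BT.node (nat_lit 9955520) (BT.leaf (nat_lit 41438745)) (BT.leaf (nat_lit 37761561)))) (BT.node (nat_lit 9955712) (BT.node (nat_lit 9955648) (BT.leaf (nat_lit 37761817)) (BT.leaf (nat_lit 39825925))) (BT.node (nat_lit 9955776) (BT.leaf (nat_lit 36401421)) (BT.leaf (nat_lit 36400657))))) (BT.node (nat_lit 9956288) (BT.node (nat_lit 9956160) (BT.node (nat_lit 9956032) (BT.leaf (nat_lit 36400665)) (BT.leaf (nat_lit 39079453))) (BT.node (nat_lit 9956224) (BT.leaf (nat_lit 36401933)) (BT.leaf (nat_lit 36401925)))) (BT.node (nat_lit 9956416) (BT.node (nat_lit 9956352) (BT.leaf (nat_lit 36401929)) (BT.leaf (nat_lit 36401945))) (BT.node (nat_lit 9956480) (BT.leaf (nat_lit 36401953)) (BT.leaf (nat_lit 34815001)))))) (BT.node (nat_lit 9958016) (BT.node (nat_lit 9956742) (BT.node (nat_lit 9956672) (BT.node (nat_lit 9956608) (BT.leaf (nat_lit 39822349)) (BT.leaf (nat_lit 39822345))) (BT.node (nat_lit 9956736) (BT.leaf (nat_lit 39856417)) (BT.leaf (nat_lit 35488017)))) (BT.node (nat_lit 9956992) (BT.node (nat_lit 9956800) (BT.leaf (nat_lit 628852)) (BT.leaf (nat_lit 38070021))) (BT.node (nat_lit 9957952) (BT.leaf (nat_lit 39856653)) (BT.leaf (nat_lit 39627293))))) (BT.node (nat_lit 9958656) (BT.node (nat_lit 9958400) (BT.node (nat_lit 9958336) (BT.leaf (nat_lit 39627297)) (BT.leaf (nat_lit 39928609))) (BT.node (nat_lit 9958528) (BT.leaf (nat_lit 39770889)) (BT.leaf (nat_lit 34631953)))) (BT.node (nat_lit 9958784) (BT.node (nat_lit 9958720) (BT.leaf (nat_lit 38330909)) (BT.leaf (nat_lit 34634777))) (BT.node (nat_lit 9958848) (BT.leaf (nat_lit 38530585)) (BT.leaf (nat_lit 36946453))))))) (BT.node (nat_lit 9960512) (BT.node (nat_lit 9959808) (BT.node (nat_lit 9959424) (BT.node (nat_lit 9959232) (BT.node (nat_lit 9959168) (BT.leaf (nat_lit 39921421)) (BT.leaf (nat_lit 34739477))) (BT.node (nat_lit 9959296) (BT.leaf (nat_lit 34635033)) (BT.leaf (nat_lit 41517065)))) (BT.node (nat_lit 9959680) (BT.node (nat_lit 9959488) (BT.leaf (nat_lit 39837453)) (BT.leaf (nat_lit 34628105))) (BT.node (nat_lit 9959744) (BT.leaf (nat_lit 34636565)) (BT.leaf (nat_lit 34635289))))) (BT.node (nat_lit 9960192) (BT.node (nat_lit 9959936) (BT.node (nat_lit 9959872) (BT.leaf (nat_lit 36116769)) (BT.leaf (nat_lit 34635297))) (BT.node (nat_lit 9960128) (BT.leaf (nat_lit 39804941)) (BT.leaf (nat_lit 41021473)))) (BT.node (nat_lit 9960384) (BT.node (nat_lit 9960320) (BT.leaf (nat_lit 41021453)) (BT.leaf (nat_lit 38047249))) (BT.node (nat_lit 9960448) (BT.leaf (nat_lit 36558853)) (BT.leaf (nat_lit 36558857)))))) (BT.node (nat_lit 9961216) (BT.node (nat_lit 9960832) (BT.node (nat_lit 9960704) (BT.node (nat_lit 9960576) (BT.leaf (nat_lit 36558873)) (BT.leaf (nat_lit 36558881))) (BT.node (nat_lit 9960768) (BT.leaf (nat_lit 34636305)) (BT.leaf (nat_lit 34636309)))) (BT.node (nat_lit 9961088) (BT.node (nat_lit 9961024) (BT.leaf (nat_lit 34636813)) (BT.leaf (nat_lit 34636821))) (BT.node (nat_lit 9961152) (BT.leaf (nat_lit 39804937)) (BT.leaf (nat_lit 39511813))))) (BT.node (nat_lit 9961728) (BT.node (nat_lit 9961344) (BT.node (nat_lit 9961280) (BT.leaf (nat_lit 39511817)) (BT.leaf (nat_lit 39511833))) (BT.node (nat_lit 9961472) (BT.leaf (nat_lit 39511841)) (BT.leaf (nat_lit 37356057)))) (BT.node (nat_lit 9961984) (BT.node (nat_lit 9961792) (BT.leaf (nat_lit 34636833)) (BT.leaf (nat_lit 34637089))) (BT.node (nat_lit 9962048) (BT.leaf (nat_lit 36199701)) (BT.leaf (nat_lit 36199709))))))))) (BT.node (nat_lit 9969280) (BT.node (nat_lit 9965888) (BT.node (nat_lit 9964160) (BT.node (nat_lit 9963136) (BT.node (nat_lit 9962752) (BT.node (nat_lit 9962560) (BT.node (nat_lit 9962304) (BT.leaf (nat_lit 37527325)) (BT.leaf (nat_lit 34638361))) (BT.node (nat_lit 9962688) (BT.leaf (nat_lit 41448481)) (BT.leaf (nat_lit 36939285)))) (BT.node (nat_lit 9962944) (BT.node (nat_lit 9962816) (BT.leaf (nat_lit 41447693)) (BT.leaf (nat_lit 38963977))) (BT.node (nat_lit 9963008) (BT.leaf (nat_lit 39164681)) (BT.leaf (nat_lit 39164677))))) (BT.node (nat_lit 9963776) (BT.node (nat_lit 9963328) (BT.node (nat_lit 9963264) (BT.leaf (nat_lit 38959645)) (BT.leaf (nat_lit 35154209))) (BT.node (nat_lit 9963648) (BT.leaf (nat_lit 38956321)) (BT.leaf (nat_lit 34639125)))) (BT.node (nat_lit 9964032) (BT.node (nat_lit 9963840) (BT.leaf (nat_lit 36685573)) (BT.leaf (nat_lit 36685577))) (BT.node (nat_lit 9964096) (BT.leaf (nat_lit 36702221)) (BT.leaf (nat_lit 39591697)))))) (BT.node (nat_lit 9965248) (BT.node (nat_lit 9964800) (BT.node (nat_lit 9964608) (BT.node (nat_lit 9964352) (BT.leaf (nat_lit 39591709)) (BT.leaf (nat_lit 39270673))) (BT.node (nat_lit 9964672) (BT.leaf (nat_lit 39490061)) (BT.leaf (nat_lit 39490069)))) (BT.node (nat_lit 9965056) (BT.node (nat_lit 9964992) (BT.leaf (nat_lit 39490081)) (BT.leaf (nat_lit 40626437))) (BT.node (nat_lit 9965184) (BT.leaf (nat_lit 40626441)) (BT.leaf (nat_lit 38080537))))) (BT.node (nat_lit 9965568) (BT.node (nat_lit 9965440) (BT.node (nat_lit 9965376) (BT.leaf (nat_lit 34639645)) (BT.leaf (nat_lit 38319385))) (BT.node (nat_lit 9965504) (BT.leaf (nat_lit 34797589)) (BT.leaf (nat_lit 34815749)))) (BT.node (nat_lit 9965696) (BT.node (nat_lit 9965632) (BT.leaf (nat_lit 34815753)) (BT.leaf (nat_lit 34815761))) (BT.node (nat_lit 9965760) (BT.leaf (nat_lit 34815769)) (BT.leaf (nat_lit 34798101))))))) (BT.node (nat_lit 9967552) (BT.node (nat_lit 9966592) (BT.node (nat_lit 9966336) (BT.node (nat_lit 9966016) (BT.node (nat_lit 9965952) (BT.leaf (nat_lit 40801029)) (BT.leaf (nat_lit 34640913))) (BT.node (nat_lit 9966272) (BT.leaf (nat_lit 38079765)) (BT.leaf (nat_lit 34641425)))) (BT.node (nat_lit 9966464) (BT.node (nat_lit 9966400) (BT.leaf (nat_lit 34796817)) (BT.leaf (nat_lit 34796825))) (BT.node (nat_lit 9966528) (BT.leaf (nat_lit 34917381)) (BT.leaf (nat_lit 34917385))))) (BT.node (nat_lit 9967170) (BT.node (nat_lit 9966976) (BT.node (nat_lit 9966656) (BT.leaf (nat_lit 34917401)) (BT.leaf (nat_lit 34515985))) (BT.node (nat_lit 9967169) (BT.leaf (nat_lit 34647813)) (BT.leaf (nat_lit 623756)))) (BT.node (nat_lit 9967360) (BT.node (nat_lit 9967296) (BT.leaf (nat_lit 623756)) (BT.leaf (nat_lit 38166297))) (BT.node (nat_lit 9967424) (BT.leaf (nat_lit 34642453)) (BT.leaf (nat_lit 34642201)))))) (BT.node (nat_lit 9968704) (BT.node (nat_lit 9968448) (BT.node (nat_lit 9967680) (BT.node (nat_lit 9967616) (BT.leaf (nat_lit 34642709)) (BT.leaf (nat_lit 39591437))) (BT.node (nat_lit 9968384) (BT.leaf (nat_lit 36528909)) (BT.leaf (nat_lit 38076425)))) (BT.node (nat_lit 9968576) (BT.node (nat_lit 9968512) (BT.leaf (nat_lit 36528901)) (BT.leaf (nat_lit 36528905))) (BT.node (nat_lit 9968640) (BT.leaf (nat_lit 34643229)) (BT.leaf (nat_lit 36417809))))) (BT.node (nat_lit 9969024) (BT.node (nat_lit 9968896) (BT.node (nat_lit 9968768) (BT.leaf (nat_lit 34642953)) (BT.leaf (nat_lit 34642977))) (BT.node (nat_lit 9968960) (BT.leaf (nat_lit 34642957)) (BT.leaf (nat_lit 34642697)))) (BT.node (nat_lit 9969152) (BT.node (nat_lit 9969088) (BT.leaf (nat_lit 34642693)) (BT.leaf (nat_lit 34643233))) (BT.node (nat_lit 9969216) (BT.leaf (nat_lit 34643485)) (BT.leaf (nat_lit 40421141)))))))) (BT.node (nat_lit 9972160) (BT.node (nat_lit 9970688) (BT.node (nat_lit 9969856) (BT.node (nat_lit 9969536) (BT.node (nat_lit 9969408) (BT.node (nat_lit 9969344) (BT.leaf (nat_lit 39802641)) (BT.leaf (nat_lit 39272197))) (BT.node (nat_lit 9969472) (BT.leaf (nat_lit 39272201)) (BT.leaf (nat_lit 39272217)))) (BT.node (nat_lit 9969664) (BT.node (nat_lit 9969600) (BT.leaf (nat_lit 39272225)) (BT.leaf (nat_lit 36518669))) (BT.node (nat_lit 9969792) (BT.leaf (nat_lit 36518673)) (BT.leaf (nat_lit 36518681))))) (BT.node (nat_lit 9970304) (BT.node (nat_lit 9970176) (BT.node (nat_lit 9970112) (BT.leaf (nat_lit 36518685)) (BT.leaf (nat_lit 35993093))) (BT.node (nat_lit 9970240) (BT.leaf (nat_lit 35993097)) (BT.leaf (nat_lit 34644253)))) (BT.node (nat_lit 9970432) (BT.node (nat_lit 9970368) (BT.leaf (nat_lit 35993121)) (BT.leaf (nat_lit 40194581))) (BT.node (nat_lit 9970560) (BT.leaf (nat_lit 40194325)) (BT.leaf (nat_lit 34644757)))))) (BT.node (nat_lit 9971392) (BT.node (nat_lit 9971008) (BT.node (nat_lit 9970880) (BT.node (nat_lit 9970816) (BT.leaf (nat_lit 41182745)) (BT.leaf (nat_lit 36419341))) (BT.node (nat_lit 9970944) (BT.leaf (nat_lit 34645257)) (BT.leaf (nat_lit 34645253)))) (BT.node (nat_lit 9971136) (BT.node (nat_lit 9971072) (BT.leaf (nat_lit 34645005)) (BT.leaf (nat_lit 34645261))) (BT.node (nat_lit 9971264) (BT.leaf (nat_lit 39034125)) (BT.leaf (nat_lit 39842837))))) (BT.node (nat_lit 9971648) (BT.node (nat_lit 9971520) (BT.node (nat_lit 9971456) (BT.leaf (nat_lit 34645269)) (BT.leaf (nat_lit 36419333))) (BT.node (nat_lit 9971584) (BT.leaf (nat_lit 36419337)) (BT.leaf (nat_lit 34645021)))) (BT.node (nat_lit 9972032) (BT.node (nat_lit 9971968) (BT.leaf (nat_lit 36418577)) (BT.leaf (nat_lit 39268621))) (BT.node (nat_lit 9972096) (BT.leaf (nat_lit 39268625)) (BT.leaf (nat_lit 39268629))))))) (BT.node (nat_lit 9973440) (BT.node (nat_lit 9972736) (BT.node (nat_lit 9972480) (BT.node (nat_lit 9972288) (BT.node (nat_lit 9972224) (BT.leaf (nat_lit 39268877)) (BT.leaf (nat_lit 39269133))) (BT.node (nat_lit 9972352) (BT.leaf (nat_lit 39268641)) (BT.leaf (nat_lit 34646049)))) (BT.node (nat_lit 9972608) (BT.node (nat_lit 9972544) (BT.leaf (nat_lit 34987789)) (BT.leaf (nat_lit 36554505))) (BT.node (nat_lit 9972672) (BT.leaf (nat_lit 36554501)) (BT.leaf (nat_lit 36553753))))) (BT.node (nat_lit 9973120) (BT.node (nat_lit 9972992) (BT.node (nat_lit 9972864) (BT.leaf (nat_lit 34757637)) (BT.leaf (nat_lit 34646541))) (BT.node (nat_lit 9973056) (BT.leaf (nat_lit 35761161)) (BT.leaf (nat_lit 38981393)))) (BT.node (nat_lit 9973248) (BT.node (nat_lit 9973184) (BT.leaf (nat_lit 36549137)) (BT.leaf (nat_lit 34765317))) (BT.node (nat_lit 9973376) (BT.leaf (nat_lit 40959005)) (BT.leaf (nat_lit 34987801)))))) (BT.node (nat_lit 9973960) (BT.node (nat_lit 9973888) (BT.node (nat_lit 9973760) (BT.node (nat_lit 9973504) (BT.leaf (nat_lit 34987809)) (BT.leaf (nat_lit 34643469))) (BT.node (nat_lit 9973824) (BT.leaf (nat_lit 34757645)) (BT.leaf (nat_lit 34757649)))) (BT.node (nat_lit 9973956) (BT.node (nat_lit 9973955) (BT.leaf (nat_lit 34757653)) (BT.leaf (nat_lit 625004))) (BT.node (nat_lit 9973957) (BT.leaf (nat_lit 625004)) (BT.leaf (nat_lit 625004))))) (BT.node (nat_lit 9974208) (BT.node (nat_lit 9974080) (BT.node (nat_lit 9974016) (BT.leaf (nat_lit 625004)) (BT.leaf (nat_lit 34757665))) (BT.node (nat_lit 9974144) (BT.leaf (nat_lit 36549125)) (BT.leaf (nat_lit 36549129)))) (BT.node (nat_lit 9974464) (BT.node (nat_lit 9974272) (BT.leaf (nat_lit 36549141)) (BT.leaf (nat_lit 36549153))) (BT.node (nat_lit 9974784) (BT.leaf (nat_lit 40800773)) (BT.leaf (nat_lit 41742853))))))))))) (BT.node (nat_lit 9995008) (BT.node (nat_lit 9985856) (BT.node (nat_lit 9981248) (BT.node (nat_lit 9977984) (BT.node (nat_lit 9976768) (BT.node (nat_lit 9975808) (BT.node (nat_lit 9975360) (BT.node (nat_lit 9975232) (BT.node (nat_lit 9975168) (BT.leaf (nat_lit 40801037)) (BT.leaf (nat_lit 40801041))) (BT.node (nat_lit 9975296) (BT.leaf (nat_lit 40801045)) (BT.leaf (nat_lit 40801053)))) (BT.node (nat_lit 9975552) (BT.node (nat_lit 9975488) (BT.leaf (nat_lit 40801057)) (BT.leaf (nat_lit 34647309))) (BT.node (nat_lit 9975616) (BT.leaf (nat_lit 40206097)) (BT.leaf (nat_lit 40206609))))) (BT.node (nat_lit 9976192) (BT.node (nat_lit 9975936) (BT.node (nat_lit 9975872) (BT.leaf (nat_lit 34647301)) (BT.leaf (nat_lit 34647305))) (BT.node (nat_lit 9976128) (BT.leaf (nat_lit 34647329)) (BT.leaf (nat_lit 40204297)))) (BT.node (nat_lit 9976640) (BT.node (nat_lit 9976256) (BT.leaf (nat_lit 40204293)) (BT.leaf (nat_lit 39820821))) (BT.node (nat_lit 9976704) (BT.leaf (nat_lit 40377625)) (BT.leaf (nat_lit 38662149)))))) (BT.node (nat_lit 9977408) (BT.node (nat_lit 9977088) (BT.node (nat_lit 9976896) (BT.node (nat_lit 9976832) (BT.leaf (nat_lit 38662153)) (BT.leaf (nat_lit 38662165))) (BT.node (nat_lit 9977024) (BT.leaf (nat_lit 40860449)) (BT.leaf (nat_lit 40204301)))) (BT.node (nat_lit 9977280) (BT.node (nat_lit 9977216) (BT.leaf (nat_lit 40204305)) (BT.leaf (nat_lit 40204313))) (BT.node (nat_lit 9977344) (BT.leaf (nat_lit 40204317)) (BT.leaf (nat_lit 40204321))))) (BT.node (nat_lit 9977728) (BT.node (nat_lit 9977600) (BT.node (nat_lit 9977536) (BT.leaf (nat_lit 34648353)) (BT.leaf (nat_lit 39609365))) (BT.node (nat_lit 9977664) (BT.leaf (nat_lit 39609373)) (BT.leaf (nat_lit 34648333)))) (BT.node (nat_lit 9977856) (BT.node (nat_lit 9977792) (BT.leaf (nat_lit 34648609)) (BT.leaf (nat_lit 39645205))) (BT.node (nat_lit 9977920) (BT.leaf (nat_lit 39645209)) (BT.leaf (nat_lit 39645213))))))) (BT.node (nat_lit 9979776) (BT.node (nat_lit 9978688) (BT.node (nat_lit 9978240) (BT.node (nat_lit 9978112) (BT.node (nat_lit 9978048) (BT.leaf (nat_lit 34648589)) (BT.leaf (nat_lit 39423261))) (BT.node (nat_lit 9978176) (BT.leaf (nat_lit 39422469)) (BT.leaf (nat_lit 39422473)))) (BT.node (nat_lit 9978496) (BT.node (nat_lit 9978304) (BT.leaf (nat_lit 39421201)) (BT.leaf (nat_lit 34649369))) (BT.node (nat_lit 9978560) (BT.leaf (nat_lit 34649873)) (BT.leaf (nat_lit 34650129))))) (BT.node (nat_lit 9979072) (BT.node (nat_lit 9978880) (BT.node (nat_lit 9978752) (BT.leaf (nat_lit 39689493)) (BT.leaf (nat_lit 34649621))) (BT.node (nat_lit 9978944) (BT.leaf (nat_lit 34649877)) (BT.leaf (nat_lit 34650133)))) (BT.node (nat_lit 9979648) (BT.node (nat_lit 9979200) (BT.leaf (nat_lit 34650137)) (BT.leaf (nat_lit 34649617))) (BT.node (nat_lit 9979712) (BT.leaf (nat_lit 38355725)) (BT.leaf (nat_lit 38355737)))))) (BT.node (nat_lit 9980544) (BT.node (nat_lit 9980032) (BT.node (nat_lit 9979904) (BT.node (nat_lit 9979840) (BT.leaf (nat_lit 38355745)) (BT.leaf (nat_lit 38694929))) (BT.node (nat_lit 9979968) (BT.leaf (nat_lit 39227673)) (BT.leaf (nat_lit 38694937)))) (BT.node (nat_lit 9980416) (BT.node (nat_lit 9980352) (BT.leaf (nat_lit 39226397)) (BT.leaf (nat_lit 38354949))) (BT.node (nat_lit 9980480) (BT.leaf (nat_lit 38354953)) (BT.leaf (nat_lit 39924761))))) (BT.node (nat_lit 9980864) (BT.node (nat_lit 9980736) (BT.node (nat_lit 9980608) (BT.leaf (nat_lit 41311237)) (BT.leaf (nat_lit 41311241))) (BT.node (nat_lit 9980800) (BT.leaf (nat_lit 41310737)) (BT.leaf (nat_lit 39923993)))) (BT.node (nat_lit 9981120) (BT.node (nat_lit 9980992) (BT.leaf (nat_lit 38355229)) (BT.leaf (nat_lit 38656021))) (BT.node (nat_lit 9981184) (BT.leaf (nat_lit 38530577)) (BT.leaf (nat_lit 38530581)))))))) (BT.node (nat_lit 9983488) (BT.node (nat_lit 9982272) (BT.node (nat_lit 9981760) (BT.node (nat_lit 9981504) (BT.node (nat_lit 9981376) (BT.node (nat_lit 9981312) (BT.leaf (nat_lit 38530589)) (BT.leaf (nat_lit 39926025))) (BT.node (nat_lit 9981440) (BT.leaf (nat_lit 39926021)) (BT.leaf (nat_lit 34935057)))) (BT.node (nat_lit 9981632) (BT.node (nat_lit 9981568) (BT.leaf (nat_lit 39738901)) (BT.leaf (nat_lit 40496673))) (BT.node (nat_lit 9981696) (BT.leaf (nat_lit 34650909)) (BT.leaf (nat_lit 39835145))))) (BT.node (nat_lit 9982208) (BT.node (nat_lit 9982080) (BT.node (nat_lit 9982016) (BT.leaf (nat_lit 36563217)) (BT.leaf (nat_lit 36625945))) (BT.node (nat_lit 9982144) (BT.leaf (nat_lit 35088657)) (BT.leaf (nat_lit 35088645)))) (BT.node (nat_lit 9982213) (BT.node (nat_lit 9982212) (BT.leaf (nat_lit 36560649)) (BT.leaf (nat_lit 644168))) (BT.node (nat_lit 9982215) (BT.leaf (nat_lit 644168)) (BT.leaf (nat_lit 644168)))))) (BT.node (nat_lit 9982912) (BT.node (nat_lit 9982592) (BT.node (nat_lit 9982464) (BT.node (nat_lit 9982336) (BT.leaf (nat_lit 39925273)) (BT.leaf (nat_lit 35088669))) (BT.node (nat_lit 9982528) (BT.leaf (nat_lit 38204449)) (BT.leaf (nat_lit 37754397)))) (BT.node (nat_lit 9982720) (BT.node (nat_lit 9982656) (BT.leaf (nat_lit 37978649)) (BT.leaf (nat_lit 34653461))) (BT.node (nat_lit 9982848) (BT.leaf (nat_lit 34651921)) (BT.leaf (nat_lit 34654741))))) (BT.node (nat_lit 9983168) (BT.node (nat_lit 9983040) (BT.node (nat_lit 9982976) (BT.leaf (nat_lit 35467809)) (BT.leaf (nat_lit 38631941))) (BT.node (nat_lit 9983104) (BT.leaf (nat_lit 38631945)) (BT.leaf (nat_lit 38631957)))) (BT.node (nat_lit 9983296) (BT.node (nat_lit 9983232) (BT.leaf (nat_lit 38631965)) (BT.leaf (nat_lit 38670361))) (BT.node (nat_lit 9983360) (BT.leaf (nat_lit 38703641)) (BT.leaf (nat_lit 35843601))))))) (BT.node (nat_lit 9984768) (BT.node (nat_lit 9984256) (BT.node (nat_lit 9984000) (BT.node (nat_lit 9983744) (BT.node (nat_lit 9983616) (BT.leaf (nat_lit 35843345)) (BT.leaf (nat_lit 35843357))) (BT.node (nat_lit 9983808) (BT.leaf (nat_lit 41476897)) (BT.leaf (nat_lit 34652949)))) (BT.node (nat_lit 9984128) (BT.node (nat_lit 9984064) (BT.leaf (nat_lit 34652189)) (BT.leaf (nat_lit 34652445))) (BT.node (nat_lit 9984192) (BT.leaf (nat_lit 41533205)) (BT.leaf (nat_lit 41478669))))) (BT.node (nat_lit 9984512) (BT.node (nat_lit 9984384) (BT.node (nat_lit 9984320) (BT.leaf (nat_lit 40919065)) (BT.leaf (nat_lit 41478689))) (BT.node (nat_lit 9984448) (BT.leaf (nat_lit 35173893)) (BT.leaf (nat_lit 35173897)))) (BT.node (nat_lit 9984640) (BT.node (nat_lit 9984576) (BT.leaf (nat_lit 34652953)) (BT.leaf (nat_lit 35173909))) (BT.node (nat_lit 9984704) (BT.leaf (nat_lit 34652185)) (BT.leaf (nat_lit 34696457)))))) (BT.node (nat_lit 9985280) (BT.node (nat_lit 9985024) (BT.node (nat_lit 9984896) (BT.node (nat_lit 9984832) (BT.leaf (nat_lit 34696453)) (BT.leaf (nat_lit 34652957))) (BT.node (nat_lit 9984960) (BT.leaf (nat_lit 34695969)) (BT.leaf (nat_lit 34660377)))) (BT.node (nat_lit 9985152) (BT.node (nat_lit 9985088) (BT.leaf (nat_lit 41558021)) (BT.leaf (nat_lit 36600085))) (BT.node (nat_lit 9985216) (BT.leaf (nat_lit 36600093)) (BT.leaf (nat_lit 34661145))))) (BT.node (nat_lit 9985600) (BT.node (nat_lit 9985408) (BT.node (nat_lit 9985344) (BT.leaf (nat_lit 36601109)) (BT.leaf (nat_lit 34653473))) (BT.node (nat_lit 9985536) (BT.leaf (nat_lit 35631137)) (BT.leaf (nat_lit 35631117)))) (BT.node (nat_lit 9985728) (BT.node (nat_lit 9985664) (BT.leaf (nat_lit 36936477)) (BT.leaf (nat_lit 38858505))) (BT.node (nat_lit 9985792) (BT.leaf (nat_lit 38858509)) (BT.leaf (nat_lit 38858521))))))))) (BT.node (nat_lit 9990080) (BT.node (nat_lit 9987712) (BT.node (nat_lit 9986690) (BT.node (nat_lit 9986304) (BT.node (nat_lit 9986048) (BT.node (nat_lit 9985926) (BT.node (nat_lit 9985924) (BT.leaf (nat_lit 37782557)) (BT.leaf (nat_lit 639664))) (BT.node (nat_lit 9985984) (BT.leaf (nat_lit 639664)) (BT.leaf (nat_lit 38515485)))) (BT.node (nat_lit 9986176) (BT.node (nat_lit 9986112) (BT.leaf (nat_lit 38729753)) (BT.leaf (nat_lit 34103057))) (BT.node (nat_lit 9986240) (BT.leaf (nat_lit 38679325)) (BT.leaf (nat_lit 40207381))))) (BT.node (nat_lit 9986560) (BT.node (nat_lit 9986432) (BT.node (nat_lit 9986368) (BT.leaf (nat_lit 34656529)) (BT.leaf (nat_lit 41463329))) (BT.node (nat_lit 9986502) (BT.leaf (nat_lit 35848461)) (BT.leaf (nat_lit 644228)))) (BT.node (nat_lit 9986688) (BT.node (nat_lit 9986624) (BT.leaf (nat_lit 35848481)) (BT.leaf (nat_lit 34663961))) (BT.node (nat_lit 9986689) (BT.leaf (nat_lit 34657297)) (BT.leaf (nat_lit 627060)))))) (BT.node (nat_lit 9987200) (BT.node (nat_lit 9986752) (BT.node (nat_lit 9986693) (BT.node (nat_lit 9986691) (BT.leaf (nat_lit 627060)) (BT.leaf (nat_lit 627060))) (BT.node (nat_lit 9986696) (BT.leaf (nat_lit 627060)) (BT.leaf (nat_lit 627060)))) (BT.node (nat_lit 9986944) (BT.node (nat_lit 9986816) (BT.leaf (nat_lit 40999433)) (BT.leaf (nat_lit 40999197))) (BT.node (nat_lit 9987136) (BT.leaf (nat_lit 34657305)) (BT.leaf (nat_lit 41444885))))) (BT.node (nat_lit 9987456) (BT.node (nat_lit 9987328) (BT.node (nat_lit 9987264) (BT.leaf (nat_lit 41459461)) (BT.leaf (nat_lit 39086353))) (BT.node (nat_lit 9987392) (BT.leaf (nat_lit 34657809)) (BT.leaf (nat_lit 39933461)))) (BT.node (nat_lit 9987584) (BT.node (nat_lit 9987520) (BT.leaf (nat_lit 41467661)) (BT.leaf (nat_lit 34657813))) (BT.node (nat_lit 9987648) (BT.leaf (nat_lit 39086357)) (BT.leaf (nat_lit 38856453))))))) (BT.node (nat_lit 9988736) (BT.node (nat_lit 9988224) (BT.node (nat_lit 9987968) (BT.node (nat_lit 9987840) (BT.node (nat_lit 9987776) (BT.leaf (nat_lit 39341593)) (BT.leaf (nat_lit 38856461))) (BT.node (nat_lit 9987904) (BT.leaf (nat_lit 38855957)) (BT.leaf (nat_lit 39969805)))) (BT.node (nat_lit 9988096) (BT.node (nat_lit 9988032) (BT.leaf (nat_lit 40232197)) (BT.leaf (nat_lit 40232201))) (BT.node (nat_lit 9988160) (BT.leaf (nat_lit 40232217)) (BT.leaf (nat_lit 40232225))))) (BT.node (nat_lit 9988480) (BT.node (nat_lit 9988352) (BT.node (nat_lit 9988288) (BT.leaf (nat_lit 34658317)) (BT.leaf (nat_lit 34658573))) (BT.node (nat_lit 9988416) (BT.leaf (nat_lit 34659081)) (BT.leaf (nat_lit 34659077)))) (BT.node (nat_lit 9988608) (BT.node (nat_lit 9988544) (BT.leaf (nat_lit 34658829)) (BT.leaf (nat_lit 40998685))) (BT.node (nat_lit 9988672) (BT.leaf (nat_lit 35440917)) (BT.leaf (nat_lit 35440661)))))) (BT.node (nat_lit 9989248) (BT.node (nat_lit 9988992) (BT.node (nat_lit 9988864) (BT.node (nat_lit 9988800) (BT.leaf (nat_lit 35440669)) (BT.leaf (nat_lit 35579149))) (BT.node (nat_lit 9988928) (BT.leaf (nat_lit 35579161)) (BT.leaf (nat_lit 35579169)))) (BT.node (nat_lit 9989120) (BT.node (nat_lit 9989056) (BT.leaf (nat_lit 34919953)) (BT.leaf (nat_lit 34919961))) (BT.node (nat_lit 9989184) (BT.leaf (nat_lit 34919965)) (BT.leaf (nat_lit 34714653))))) (BT.node (nat_lit 9989696) (BT.node (nat_lit 9989504) (BT.node (nat_lit 9989440) (BT.leaf (nat_lit 38833693)) (BT.leaf (nat_lit 36599325))) (BT.node (nat_lit 9989568) (BT.leaf (nat_lit 35870497)) (BT.leaf (nat_lit 34659609)))) (BT.node (nat_lit 9989760) (BT.node (nat_lit 9989700) (BT.leaf (nat_lit 37743381)) (BT.leaf (nat_lit 640620))) (BT.node (nat_lit 9989888) (BT.leaf (nat_lit 41492509)) (BT.leaf (nat_lit 34632981)))))))) (BT.node (nat_lit 9992448) (BT.node (nat_lit 9991424) (BT.node (nat_lit 9990784) (BT.node (nat_lit 9990336) (BT.node (nat_lit 9990208) (BT.node (nat_lit 9990144) (BT.leaf (nat_lit 34716677)) (BT.leaf (nat_lit 34716681))) (BT.node (nat_lit 9990272) (BT.leaf (nat_lit 34660381)) (BT.leaf (nat_lit 34660637)))) (BT.node (nat_lit 9990656) (BT.node (nat_lit 9990592) (BT.leaf (nat_lit 41495813)) (BT.leaf (nat_lit 34716957))) (BT.node (nat_lit 9990720) (BT.leaf (nat_lit 34660369)) (BT.leaf (nat_lit 41484301))))) (BT.node (nat_lit 9991040) (BT.node (nat_lit 9990912) (BT.node (nat_lit 9990848) (BT.leaf (nat_lit 34725917)) (BT.leaf (nat_lit 41484321))) (BT.node (nat_lit 9990976) (BT.leaf (nat_lit 35160601)) (BT.leaf (nat_lit 34666517)))) (BT.node (nat_lit 9991296) (BT.node (nat_lit 9991104) (BT.leaf (nat_lit 38672925)) (BT.leaf (nat_lit 38673157))) (BT.node (nat_lit 9991360) (BT.leaf (nat_lit 35845381)) (BT.leaf (nat_lit 34728221)))))) (BT.node (nat_lit 9991936) (BT.node (nat_lit 9991744) (BT.node (nat_lit 9991624) (BT.node (nat_lit 9991488) (BT.leaf (nat_lit 39996949)) (BT.leaf (nat_lit 34728477))) (BT.node (nat_lit 9991680) (BT.leaf (nat_lit 628404)) (BT.leaf (nat_lit 34728965)))) (BT.node (nat_lit 9991872) (BT.node (nat_lit 9991808) (BT.leaf (nat_lit 34728969)) (BT.leaf (nat_lit 34665501))) (BT.node (nat_lit 9991880) (BT.leaf (nat_lit 35814425)) (BT.leaf (nat_lit 628440))))) (BT.node (nat_lit 9992192) (BT.node (nat_lit 9992064) (BT.node (nat_lit 9992000) (BT.leaf (nat_lit 41488389)) (BT.leaf (nat_lit 34665997))) (BT.node (nat_lit 9992128) (BT.leaf (nat_lit 34666253)) (BT.leaf (nat_lit 34666505)))) (BT.node (nat_lit 9992320) (BT.node (nat_lit 9992256) (BT.leaf (nat_lit 34666501)) (BT.leaf (nat_lit 34666509))) (BT.node (nat_lit 9992384) (BT.leaf (nat_lit 35728145)) (BT.leaf (nat_lit 35728149))))))) (BT.node (nat_lit 9993792) (BT.node (nat_lit 9993344) (BT.node (nat_lit 9993088) (BT.node (nat_lit 9992960) (BT.node (nat_lit 9992896) (BT.leaf (nat_lit 35728157)) (BT.leaf (nat_lit 40642053))) (BT.node (nat_lit 9993024) (BT.leaf (nat_lit 34666265)) (BT.leaf (nat_lit 34667793)))) (BT.node (nat_lit 9993216) (BT.node (nat_lit 9993152) (BT.leaf (nat_lit 34666777)) (BT.leaf (nat_lit 35473441))) (BT.node (nat_lit 9993280) (BT.leaf (nat_lit 35899933)) (BT.leaf (nat_lit 34666781))))) (BT.node (nat_lit 9993600) (BT.node (nat_lit 9993472) (BT.node (nat_lit 9993408) (BT.leaf (nat_lit 36996613)) (BT.leaf (nat_lit 36996617))) (BT.node (nat_lit 9993536) (BT.leaf (nat_lit 36996621)) (BT.leaf (nat_lit 36996633)))) (BT.node (nat_lit 9993664) (BT.node (nat_lit 9993607) (BT.leaf (nat_lit 34026777)) (BT.leaf (nat_lit 632540))) (BT.node (nat_lit 9993728) (BT.leaf (nat_lit 35739153)) (BT.leaf (nat_lit 34027285)))))) (BT.node (nat_lit 9994496) (BT.node (nat_lit 9994112) (BT.node (nat_lit 9993920) (BT.node (nat_lit 9993856) (BT.leaf (nat_lit 34667541)) (BT.leaf (nat_lit 34667797))) (BT.node (nat_lit 9993984) (BT.leaf (nat_lit 34678533)) (BT.leaf (nat_lit 34678537)))) (BT.node (nat_lit 9994368) (BT.node (nat_lit 9994176) (BT.leaf (nat_lit 40426761)) (BT.leaf (nat_lit 38553629))) (BT.node (nat_lit 9994432) (BT.leaf (nat_lit 38334981)) (BT.leaf (nat_lit 38334985))))) (BT.node (nat_lit 9994752) (BT.node (nat_lit 9994624) (BT.node (nat_lit 9994560) (BT.leaf (nat_lit 38334989)) (BT.leaf (nat_lit 38335001))) (BT.node (nat_lit 9994688) (BT.leaf (nat_lit 34678277)) (BT.leaf (nat_lit 35008781)))) (BT.node (nat_lit 9994880) (BT.node (nat_lit 9994816) (BT.leaf (nat_lit 35008773)) (BT.leaf (nat_lit 41509921))) (BT.node (nat_lit 9994944) (BT.leaf (nat_lit 34740485)) (BT.leaf (nat_lit 34740489)))))))))) (BT.node (nat_lit 10004672) (BT.node (nat_lit 9999424) (BT.node (nat_lit 9997184) (BT.node (nat_lit 9996160) (BT.node (nat_lit 9995584) (BT.node (nat_lit 9995328) (BT.node (nat_lit 9995136) (BT.node (nat_lit 9995072) (BT.leaf (nat_lit 35809049)) (BT.leaf (nat_lit 34740513))) (BT.node (nat_lit 9995264) (BT.leaf (nat_lit 34741533)) (BT.leaf (nat_lit 41016605)))) (BT.node (nat_lit 9995392) (BT.node (nat_lit 9995336) (BT.leaf (nat_lit 39089173)) (BT.leaf (nat_lit 629084))) (BT.node (nat_lit 9995520) (BT.leaf (nat_lit 34742813)) (BT.leaf (nat_lit 35009033))))) (BT.node (nat_lit 9995904) (BT.node (nat_lit 9995712) (BT.node (nat_lit 9995648) (BT.leaf (nat_lit 38844933)) (BT.leaf (nat_lit 34670869))) (BT.node (nat_lit 9995776) (BT.leaf (nat_lit 38844961)) (BT.leaf (nat_lit 34681093)))) (BT.node (nat_lit 9996032) (BT.node (nat_lit 9995968) (BT.leaf (nat_lit 41508365)) (BT.leaf (nat_lit 34671129))) (BT.node (nat_lit 9996096) (BT.leaf (nat_lit 35298589)) (BT.leaf (nat_lit 41508385)))))) (BT.node (nat_lit 9996672) (BT.node (nat_lit 9996416) (BT.node (nat_lit 9996288) (BT.node (nat_lit 9996224) (BT.leaf (nat_lit 34747909)) (BT.leaf (nat_lit 34747913))) (BT.node (nat_lit 9996352) (BT.leaf (nat_lit 34670877)) (BT.leaf (nat_lit 34671133)))) (BT.node (nat_lit 9996544) (BT.node (nat_lit 9996480) (BT.leaf (nat_lit 41340449)) (BT.leaf (nat_lit 34747937))) (BT.node (nat_lit 9996608) (BT.leaf (nat_lit 38425861)) (BT.leaf (nat_lit 38425865))))) (BT.node (nat_lit 9996928) (BT.node (nat_lit 9996800) (BT.node (nat_lit 9996736) (BT.leaf (nat_lit 38425881)) (BT.leaf (nat_lit 38425889))) (BT.node (nat_lit 9996864) (BT.leaf (nat_lit 39962133)) (BT.leaf (nat_lit 34748445)))) (BT.node (nat_lit 9997056) (BT.node (nat_lit 9996992) (BT.leaf (nat_lit 39962645)) (BT.leaf (nat_lit 39793681))) (BT.node (nat_lit 9997120) (BT.leaf (nat_lit 41013793)) (BT.leaf (nat_lit 38354701))))))) (BT.node (nat_lit 9998272) (BT.node (nat_lit 9997760) (BT.node (nat_lit 9997504) (BT.node (nat_lit 9997376) (BT.node (nat_lit 9997312) (BT.leaf (nat_lit 38354705)) (BT.leaf (nat_lit 38354721))) (BT.node (nat_lit 9997440) (BT.leaf (nat_lit 38425625)) (BT.leaf (nat_lit 38425629)))) (BT.node (nat_lit 9997632) (BT.node (nat_lit 9997568) (BT.leaf (nat_lit 38304261)) (BT.leaf (nat_lit 38304265))) (BT.node (nat_lit 9997696) (BT.leaf (nat_lit 34672665)) (BT.leaf (nat_lit 38304289))))) (BT.node (nat_lit 9998016) (BT.node (nat_lit 9997888) (BT.node (nat_lit 9997824) (BT.leaf (nat_lit 41566233)) (BT.leaf (nat_lit 35271433))) (BT.node (nat_lit 9997952) (BT.leaf (nat_lit 39136269)) (BT.leaf (nat_lit 34672921)))) (BT.node (nat_lit 9998144) (BT.node (nat_lit 9998080) (BT.leaf (nat_lit 38296861)) (BT.leaf (nat_lit 34674193))) (BT.node (nat_lit 9998208) (BT.leaf (nat_lit 35008797)) (BT.leaf (nat_lit 35172373)))))) (BT.node (nat_lit 9998848) (BT.node (nat_lit 9998528) (BT.node (nat_lit 9998400) (BT.node (nat_lit 9998336) (BT.leaf (nat_lit 38392349)) (BT.leaf (nat_lit 38379293))) (BT.node (nat_lit 9998464) (BT.leaf (nat_lit 38379297)) (BT.leaf (nat_lit 36852997)))) (BT.node (nat_lit 9998720) (BT.node (nat_lit 9998656) (BT.leaf (nat_lit 34756381)) (BT.leaf (nat_lit 38391329))) (BT.node (nat_lit 9998784) (BT.leaf (nat_lit 37722629)) (BT.leaf (nat_lit 40920337))))) (BT.node (nat_lit 9999168) (BT.node (nat_lit 9999040) (BT.node (nat_lit 9998976) (BT.leaf (nat_lit 34676757)) (BT.leaf (nat_lit 38392073))) (BT.node (nat_lit 9999104) (BT.leaf (nat_lit 34675997)) (BT.leaf (nat_lit 38392097)))) (BT.node (nat_lit 9999296) (BT.node (nat_lit 9999232) (BT.leaf (nat_lit 34760221)) (BT.leaf (nat_lit 34671109))) (BT.node (nat_lit 9999360) (BT.leaf (nat_lit 35009037)) (BT.leaf (nat_lit 35009029)))))))) (BT.node (nat_lit 10001792) (BT.node (nat_lit 10000768) (BT.node (nat_lit 10000000) (BT.node (nat_lit 9999744) (BT.node (nat_lit 9999552) (BT.node (nat_lit 9999488) (BT.leaf (nat_lit 39311121)) (BT.leaf (nat_lit 35009053))) (BT.node (nat_lit 9999680) (BT.leaf (nat_lit 38382609)) (BT.leaf (nat_lit 38427909)))) (BT.node (nat_lit 9999872) (BT.node (nat_lit 9999808) (BT.leaf (nat_lit 38427913)) (BT.leaf (nat_lit 34677021))) (BT.node (nat_lit 9999936) (BT.leaf (nat_lit 38427937)) (BT.leaf (nat_lit 34757149))))) (BT.node (nat_lit 10000320) (BT.node (nat_lit 10000192) (BT.node (nat_lit 10000064) (BT.leaf (nat_lit 34757405)) (BT.leaf (nat_lit 34757661))) (BT.node (nat_lit 10000256) (BT.leaf (nat_lit 34678541)) (BT.leaf (nat_lit 40665633)))) (BT.node (nat_lit 10000576) (BT.node (nat_lit 10000448) (BT.leaf (nat_lit 34674465)) (BT.leaf (nat_lit 34887441))) (BT.node (nat_lit 10000640) (BT.leaf (nat_lit 34680337)) (BT.leaf (nat_lit 36350741)))))) (BT.node (nat_lit 10001152) (BT.node (nat_lit 10000903) (BT.node (nat_lit 10000901) (BT.node (nat_lit 10000900) (BT.leaf (nat_lit 38515473)) (BT.leaf (nat_lit 625744))) (BT.node (nat_lit 10000902) (BT.leaf (nat_lit 625744)) (BT.leaf (nat_lit 625744)))) (BT.node (nat_lit 10001024) (BT.node (nat_lit 10000960) (BT.leaf (nat_lit 625744)) (BT.leaf (nat_lit 41173009))) (BT.node (nat_lit 10001088) (BT.leaf (nat_lit 41173017)) (BT.leaf (nat_lit 41173021))))) (BT.node (nat_lit 10001408) (BT.node (nat_lit 10001280) (BT.node (nat_lit 10001216) (BT.leaf (nat_lit 34766881)) (BT.leaf (nat_lit 34767121))) (BT.node (nat_lit 10001344) (BT.leaf (nat_lit 34767129)) (BT.leaf (nat_lit 34766861)))) (BT.node (nat_lit 10001600) (BT.node (nat_lit 10001536) (BT.leaf (nat_lit 34766873)) (BT.leaf (nat_lit 41571357))) (BT.node (nat_lit 10001728) (BT.leaf (nat_lit 39466257)) (BT.leaf (nat_lit 34681365))))))) (BT.node (nat_lit 10002944) (BT.node (nat_lit 10002304) (BT.node (nat_lit 10002048) (BT.node (nat_lit 10001920) (BT.node (nat_lit 10001856) (BT.leaf (nat_lit 41530629)) (BT.leaf (nat_lit 34682129))) (BT.node (nat_lit 10001984) (BT.leaf (nat_lit 36942877)) (BT.leaf (nat_lit 39335709)))) (BT.node (nat_lit 10002176) (BT.node (nat_lit 10002112) (BT.leaf (nat_lit 41529613)) (BT.leaf (nat_lit 40063773))) (BT.node (nat_lit 10002240) (BT.leaf (nat_lit 38963981)) (BT.leaf (nat_lit 36609041))))) (BT.node (nat_lit 10002688) (BT.node (nat_lit 10002432) (BT.node (nat_lit 10002368) (BT.leaf (nat_lit 37754913)) (BT.leaf (nat_lit 37754657))) (BT.node (nat_lit 10002496) (BT.leaf (nat_lit 37825029)) (BT.leaf (nat_lit 38706449)))) (BT.node (nat_lit 10002816) (BT.node (nat_lit 10002752) (BT.leaf (nat_lit 34683409)) (BT.leaf (nat_lit 34683665))) (BT.node (nat_lit 10002880) (BT.leaf (nat_lit 41494533)) (BT.leaf (nat_lit 34683681)))))) (BT.node (nat_lit 10003904) (BT.node (nat_lit 10003712) (BT.node (nat_lit 10003072) (BT.node (nat_lit 10003008) (BT.leaf (nat_lit 41493513)) (BT.leaf (nat_lit 34683921))) (BT.node (nat_lit 10003200) (BT.leaf (nat_lit 34684177)) (BT.leaf (nat_lit 39589901)))) (BT.node (nat_lit 10003781) (BT.node (nat_lit 10003776) (BT.leaf (nat_lit 40652569)) (BT.leaf (nat_lit 34684433))) (BT.node (nat_lit 10003840) (BT.leaf (nat_lit 640776)) (BT.leaf (nat_lit 34684689))))) (BT.node (nat_lit 10004416) (BT.node (nat_lit 10004288) (BT.node (nat_lit 10004096) (BT.leaf (nat_lit 34684705)) (BT.leaf (nat_lit 35230993))) (BT.node (nat_lit 10004352) (BT.leaf (nat_lit 35467793)) (BT.leaf (nat_lit 35230981)))) (BT.node (nat_lit 10004544) (BT.node (nat_lit 10004480) (BT.leaf (nat_lit 35230985)) (BT.leaf (nat_lit 35231001))) (BT.node (nat_lit 10004608) (BT.leaf (nat_lit 35231009)) (BT.leaf (nat_lit 35467781))))))))) (BT.node (nat_lit 10010368) (BT.node (nat_lit 10008192) (BT.node (nat_lit 10006528) (BT.node (nat_lit 10005696) (BT.node (nat_lit 10005312) (BT.node (nat_lit 10004800) (BT.node (nat_lit 10004736) (BT.leaf (nat_lit 35467785)) (BT.leaf (nat_lit 35467797))) (BT.node (nat_lit 10004864) (BT.leaf (nat_lit 40150029)) (BT.leaf (nat_lit 34693397)))) (BT.node (nat_lit 10005440) (BT.node (nat_lit 10005376) (BT.leaf (nat_lit 37010449)) (BT.leaf (nat_lit 41472541))) (BT.node (nat_lit 10005632) (BT.leaf (nat_lit 34791701)) (BT.leaf (nat_lit 38114565))))) (BT.node (nat_lit 10006272) (BT.node (nat_lit 10006016) (BT.node (nat_lit 10005760) (BT.leaf (nat_lit 38114569)) (BT.leaf (nat_lit 38114581))) (BT.node (nat_lit 10006208) (BT.leaf (nat_lit 39618837)) (BT.leaf (nat_lit 41596189)))) (BT.node (nat_lit 10006400) (BT.node (nat_lit 10006336) (BT.leaf (nat_lit 41596193)) (BT.leaf (nat_lit 37752581))) (BT.node (nat_lit 10006464) (BT.leaf (nat_lit 37754885)) (BT.leaf (nat_lit 37754889)))))) (BT.node (nat_lit 10007680) (BT.node (nat_lit 10006912) (BT.node (nat_lit 10006656) (BT.node (nat_lit 10006592) (BT.leaf (nat_lit 37754893)) (BT.leaf (nat_lit 37754641))) (BT.node (nat_lit 10006848) (BT.leaf (nat_lit 37754653)) (BT.leaf (nat_lit 37754129)))) (BT.node (nat_lit 10007488) (BT.node (nat_lit 10006976) (BT.leaf (nat_lit 37754141)) (BT.leaf (nat_lit 38204429))) (BT.node (nat_lit 10007616) (BT.leaf (nat_lit 34705173)) (BT.leaf (nat_lit 35587869))))) (BT.node (nat_lit 10008000) (BT.node (nat_lit 10007808) (BT.node (nat_lit 10007744) (BT.leaf (nat_lit 37961481)) (BT.leaf (nat_lit 40248073))) (BT.node (nat_lit 10007872) (BT.leaf (nat_lit 35038493)) (BT.leaf (nat_lit 38175761)))) (BT.node (nat_lit 10008128) (BT.node (nat_lit 10008064) (BT.leaf (nat_lit 34685713)) (BT.leaf (nat_lit 34685717))) (BT.node (nat_lit 10008136) (BT.leaf (nat_lit 34686485)) (BT.leaf (nat_lit 642076))))))) (BT.node (nat_lit 10009472) (BT.node (nat_lit 10008960) (BT.node (nat_lit 10008576) (BT.node (nat_lit 10008448) (BT.node (nat_lit 10008256) (BT.leaf (nat_lit 40295693)) (BT.leaf (nat_lit 35185161))) (BT.node (nat_lit 10008512) (BT.leaf (nat_lit 40294405)) (BT.leaf (nat_lit 41365777)))) (BT.node (nat_lit 10008832) (BT.node (nat_lit 10008640) (BT.leaf (nat_lit 40294933)) (BT.leaf (nat_lit 41344545))) (BT.node (nat_lit 10008896) (BT.leaf (nat_lit 41344529)) (BT.leaf (nat_lit 41344537))))) (BT.node (nat_lit 10009216) (BT.node (nat_lit 10009088) (BT.node (nat_lit 10009024) (BT.leaf (nat_lit 41344541)) (BT.leaf (nat_lit 34845969))) (BT.node (nat_lit 10009152) (BT.leaf (nat_lit 40620305)) (BT.leaf (nat_lit 40620313)))) (BT.node (nat_lit 10009344) (BT.node (nat_lit 10009280) (BT.leaf (nat_lit 34801685)) (BT.leaf (nat_lit 38602521))) (BT.node (nat_lit 10009408) (BT.leaf (nat_lit 41366561)) (BT.leaf (nat_lit 34687517)))))) (BT.node (nat_lit 10009920) (BT.node (nat_lit 10009664) (BT.node (nat_lit 10009604) (BT.node (nat_lit 10009536) (BT.leaf (nat_lit 34813701)) (BT.leaf (nat_lit 34813705))) (BT.node (nat_lit 10009608) (BT.leaf (nat_lit 631828)) (BT.leaf (nat_lit 633344)))) (BT.node (nat_lit 10009792) (BT.node (nat_lit 10009728) (BT.leaf (nat_lit 34551313)) (BT.leaf (nat_lit 39972613))) (BT.node (nat_lit 10009856) (BT.leaf (nat_lit 38309917)) (BT.leaf (nat_lit 34789125))))) (BT.node (nat_lit 10010112) (BT.node (nat_lit 10009991) (BT.node (nat_lit 10009988) (BT.leaf (nat_lit 34789129)) (BT.leaf (nat_lit 633328))) (BT.node (nat_lit 10009992) (BT.leaf (nat_lit 643812)) (BT.leaf (nat_lit 643812)))) (BT.node (nat_lit 10010240) (BT.node (nat_lit 10010176) (BT.leaf (nat_lit 34686993)) (BT.leaf (nat_lit 39972617))) (BT.node (nat_lit 10010304) (BT.leaf (nat_lit 34778905)) (BT.leaf (nat_lit 36859161)))))))) (BT.node (nat_lit 10012480) (BT.node (nat_lit 10011776) (BT.node (nat_lit 10010880) (BT.node (nat_lit 10010624) (BT.node (nat_lit 10010496) (BT.node (nat_lit 10010432) (BT.leaf (nat_lit 34845981)) (BT.leaf (nat_lit 40427785))) (BT.node (nat_lit 10010560) (BT.leaf (nat_lit 40427781)) (BT.leaf (nat_lit 40427269)))) (BT.node (nat_lit 10010752) (BT.node (nat_lit 10010688) (BT.leaf (nat_lit 34490129)) (BT.leaf (nat_lit 34844693))) (BT.node (nat_lit 10010816) (BT.leaf (nat_lit 34844701)) (BT.leaf (nat_lit 40426249))))) (BT.node (nat_lit 10011200) (BT.node (nat_lit 10011072) (BT.node (nat_lit 10011008) (BT.leaf (nat_lit 40426245)) (BT.leaf (nat_lit 35468565))) (BT.node (nat_lit 10011136) (BT.leaf (nat_lit 35468573)) (BT.leaf (nat_lit 34647317)))) (BT.node (nat_lit 10011328) (BT.node (nat_lit 10011264) (BT.leaf (nat_lit 36956189)) (BT.leaf (nat_lit 35068701))) (BT.node (nat_lit 10011584) (BT.leaf (nat_lit 34688277)) (BT.leaf (nat_lit 34689041)))))) (BT.node (nat_lit 10012096) (BT.node (nat_lit 10011910) (BT.node (nat_lit 10011907) (BT.node (nat_lit 10011840) (BT.leaf (nat_lit 39284769)) (BT.leaf (nat_lit 35974169))) (BT.node (nat_lit 10011908) (BT.leaf (nat_lit 630012)) (BT.leaf (nat_lit 630012)))) (BT.node (nat_lit 10011968) (BT.node (nat_lit 10011911) (BT.leaf (nat_lit 630012)) (BT.leaf (nat_lit 630012))) (BT.node (nat_lit 10012032) (BT.leaf (nat_lit 34984737)) (BT.leaf (nat_lit 34974485))))) (BT.node (nat_lit 10012294) (BT.node (nat_lit 10012224) (BT.node (nat_lit 10012160) (BT.leaf (nat_lit 37771781)) (BT.leaf (nat_lit 37786633))) (BT.node (nat_lit 10012288) (BT.leaf (nat_lit 37786629)) (BT.leaf (nat_lit 37787145)))) (BT.node (nat_lit 10012352) (BT.node (nat_lit 10012295) (BT.leaf (nat_lit 642188)) (BT.leaf (nat_lit 642188))) (BT.node (nat_lit 10012416) (BT.leaf (nat_lit 37787425)) (BT.leaf (nat_lit 41555737))))))) (BT.node (nat_lit 10013632) (BT.node (nat_lit 10012992) (BT.node (nat_lit 10012736) (BT.node (nat_lit 10012608) (BT.node (nat_lit 10012544) (BT.leaf (nat_lit 38415877)) (BT.leaf (nat_lit 40889373))) (BT.node (nat_lit 10012672) (BT.leaf (nat_lit 38415881)) (BT.leaf (nat_lit 37771037)))) (BT.node (nat_lit 10012864) (BT.node (nat_lit 10012800) (BT.leaf (nat_lit 34974981)) (BT.leaf (nat_lit 34974985))) (BT.node (nat_lit 10012928) (BT.leaf (nat_lit 34974993)) (BT.leaf (nat_lit 34689553))))) (BT.node (nat_lit 10013248) (BT.node (nat_lit 10013120) (BT.node (nat_lit 10013056) (BT.leaf (nat_lit 34689557)) (BT.leaf (nat_lit 38373145))) (BT.node (nat_lit 10013184) (BT.leaf (nat_lit 40429321)) (BT.leaf (nat_lit 38212125)))) (BT.node (nat_lit 10013377) (BT.node (nat_lit 10013312) (BT.leaf (nat_lit 39028493)) (BT.leaf (nat_lit 38373405))) (BT.node (nat_lit 10013442) (BT.leaf (nat_lit 634020)) (BT.leaf (nat_lit 634016)))))) (BT.node (nat_lit 10014144) (BT.node (nat_lit 10013888) (BT.node (nat_lit 10013760) (BT.node (nat_lit 10013696) (BT.leaf (nat_lit 41437197)) (BT.leaf (nat_lit 41437209))) (BT.node (nat_lit 10013824) (BT.leaf (nat_lit 41437213)) (BT.leaf (nat_lit 38276877)))) (BT.node (nat_lit 10014016) (BT.node (nat_lit 10013952) (BT.leaf (nat_lit 38276105)) (BT.leaf (nat_lit 38279441))) (BT.node (nat_lit 10014080) (BT.leaf (nat_lit 40836105)) (BT.leaf (nat_lit 34909209))))) (BT.node (nat_lit 10014400) (BT.node (nat_lit 10014272) (BT.node (nat_lit 10014208) (BT.leaf (nat_lit 34690333)) (BT.leaf (nat_lit 36861465))) (BT.node (nat_lit 10014336) (BT.leaf (nat_lit 38279453)) (BT.leaf (nat_lit 34695453)))) (BT.node (nat_lit 10014528) (BT.node (nat_lit 10014464) (BT.leaf (nat_lit 38215429)) (BT.leaf (nat_lit 38214169))) (BT.node (nat_lit 10014592) (BT.leaf (nat_lit 34701341)) (BT.leaf (nat_lit 34961949)))))))))))) (BT.node (nat_lit 10056448) (BT.node (nat_lit 10033536) (BT.node (nat_lit 10022912) (BT.node (nat_lit 10018756) (BT.node (nat_lit 10016512) (BT.node (nat_lit 10015552) (BT.node (nat_lit 10015232) (BT.node (nat_lit 10014912) (BT.node (nat_lit 10014784) (BT.node (nat_lit 10014720) (BT.leaf (nat_lit 38215449)) (BT.leaf (nat_lit 34962461))) (BT.node (nat_lit 10014848) (BT.leaf (nat_lit 34691613)) (BT.leaf (nat_lit 39339533)))) (BT.node (nat_lit 10015040) (BT.node (nat_lit 10014976) (BT.leaf (nat_lit 38254877)) (BT.leaf (nat_lit 34972445))) (BT.node (nat_lit 10015168) (BT.leaf (nat_lit 39177221)) (BT.leaf (nat_lit 39177241))))) (BT.node (nat_lit 10015304) (BT.node (nat_lit 10015299) (BT.node (nat_lit 10015296) (BT.leaf (nat_lit 34692641)) (BT.leaf (nat_lit 41420313))) (BT.node (nat_lit 10015303) (BT.leaf (nat_lit 646892)) (BT.leaf (nat_lit 646892)))) (BT.node (nat_lit 10015424) (BT.node (nat_lit 10015360) (BT.leaf (nat_lit 646892)) (BT.leaf (nat_lit 38507545))) (BT.node (nat_lit 10015488) (BT.leaf (nat_lit 38507549)) (BT.leaf (nat_lit 34692621)))))) (BT.node (nat_lit 10016064) (BT.node (nat_lit 10015808) (BT.node (nat_lit 10015680) (BT.node (nat_lit 10015616) (BT.leaf (nat_lit 39339525)) (BT.leaf (nat_lit 39339529))) (BT.node (nat_lit 10015744) (BT.leaf (nat_lit 39339541)) (BT.leaf (nat_lit 34973457)))) (BT.node (nat_lit 10015936) (BT.node (nat_lit 10015872) (BT.leaf (nat_lit 34973445)) (BT.leaf (nat_lit 34973449))) (BT.node (nat_lit 10016000) (BT.leaf (nat_lit 40394505)) (BT.leaf (nat_lit 34973473))))) (BT.node (nat_lit 10016320) (BT.node (nat_lit 10016192) (BT.node (nat_lit 10016128) (BT.leaf (nat_lit 38266649)) (BT.leaf (nat_lit 35276573))) (BT.node (nat_lit 10016256) (BT.leaf (nat_lit 35195165)) (BT.leaf (nat_lit 40905733)))) (BT.node (nat_lit 10016448) (BT.node (nat_lit 10016384) (BT.leaf (nat_lit 40905737)) (BT.leaf (nat_lit 40905745))) (BT.node (nat_lit 10016449) (BT.leaf (nat_lit 40423181)) (BT.leaf (nat_lit 626284))))))) (BT.node (nat_lit 10017920) (BT.node (nat_lit 10017280) (BT.node (nat_lit 10016896) (BT.node (nat_lit 10016704) (BT.node (nat_lit 10016640) (BT.leaf (nat_lit 40226585)) (BT.leaf (nat_lit 40032021))) (BT.node (nat_lit 10016768) (BT.leaf (nat_lit 40382493)) (BT.leaf (nat_lit 38203397)))) (BT.node (nat_lit 10017152) (BT.node (nat_lit 10017024) (BT.leaf (nat_lit 40168973)) (BT.leaf (nat_lit 40426257))) (BT.node (nat_lit 10017216) (BT.leaf (nat_lit 40426269)) (BT.leaf (nat_lit 40426273))))) (BT.node (nat_lit 10017664) (BT.node (nat_lit 10017472) (BT.node (nat_lit 10017408) (BT.leaf (nat_lit 40481289)) (BT.leaf (nat_lit 34694161))) (BT.node (nat_lit 10017600) (BT.leaf (nat_lit 38203401)) (BT.leaf (nat_lit 34694165)))) (BT.node (nat_lit 10017792) (BT.node (nat_lit 10017728) (BT.leaf (nat_lit 34965765)) (BT.leaf (nat_lit 34965769))) (BT.node (nat_lit 10017856) (BT.leaf (nat_lit 35276829)) (BT.leaf (nat_lit 34965793)))))) (BT.node (nat_lit 10018432) (BT.node (nat_lit 10018176) (BT.node (nat_lit 10018048) (BT.node (nat_lit 10017984) (BT.leaf (nat_lit 35276805)) (BT.leaf (nat_lit 35276809))) (BT.node (nat_lit 10018112) (BT.leaf (nat_lit 35276821)) (BT.leaf (nat_lit 34694169)))) (BT.node (nat_lit 10018304) (BT.node (nat_lit 10018240) (BT.leaf (nat_lit 34695689)) (BT.leaf (nat_lit 34695685))) (BT.node (nat_lit 10018368) (BT.leaf (nat_lit 34695437)) (BT.leaf (nat_lit 34695693))))) (BT.node (nat_lit 10018691) (BT.node (nat_lit 10018560) (BT.node (nat_lit 10018496) (BT.leaf (nat_lit 34696461)) (BT.leaf (nat_lit 34696465))) (BT.node (nat_lit 10018624) (BT.leaf (nat_lit 38209817)) (BT.leaf (nat_lit 34696481)))) (BT.node (nat_lit 10018693) (BT.node (nat_lit 10018692) (BT.leaf (nat_lit 626388)) (BT.leaf (nat_lit 626388))) (BT.node (nat_lit 10018696) (BT.leaf (nat_lit 626388)) (BT.leaf (nat_lit 626388)))))))) (BT.node (nat_lit 10020608) (BT.node (nat_lit 10019648) (BT.node (nat_lit 10019267) (BT.node (nat_lit 10018880) (BT.node (nat_lit 10018760) (BT.node (nat_lit 10018759) (BT.leaf (nat_lit 631804)) (BT.leaf (nat_lit 631804))) (BT.node (nat_lit 10018816) (BT.leaf (nat_lit 643760)) (BT.leaf (nat_lit 38376477)))) (BT.node (nat_lit 10019136) (BT.node (nat_lit 10019072) (BT.leaf (nat_lit 40803873)) (BT.leaf (nat_lit 34907909))) (BT.node (nat_lit 10019200) (BT.leaf (nat_lit 34907913)) (BT.leaf (nat_lit 34907929))))) (BT.node (nat_lit 10019392) (BT.node (nat_lit 10019270) (BT.node (nat_lit 10019268) (BT.leaf (nat_lit 638024)) (BT.leaf (nat_lit 638024))) (BT.node (nat_lit 10019328) (BT.leaf (nat_lit 638024)) (BT.leaf (nat_lit 38111505)))) (BT.node (nat_lit 10019520) (BT.node (nat_lit 10019456) (BT.leaf (nat_lit 38992645)) (BT.leaf (nat_lit 38992649))) (BT.node (nat_lit 10019584) (BT.leaf (nat_lit 36947741)) (BT.leaf (nat_lit 37933329)))))) (BT.node (nat_lit 10020032) (BT.node (nat_lit 10019780) (BT.node (nat_lit 10019776) (BT.node (nat_lit 10019712) (BT.leaf (nat_lit 40169505)) (BT.leaf (nat_lit 37934341))) (BT.node (nat_lit 10019778) (BT.leaf (nat_lit 37696013)) (BT.leaf (nat_lit 652376)))) (BT.node (nat_lit 10019904) (BT.node (nat_lit 10019840) (BT.leaf (nat_lit 652376)) (BT.leaf (nat_lit 35286289))) (BT.node (nat_lit 10019968) (BT.leaf (nat_lit 40422665)) (BT.leaf (nat_lit 34712337))))) (BT.node (nat_lit 10020224) (BT.node (nat_lit 10020160) (BT.node (nat_lit 10020096) (BT.leaf (nat_lit 34712341)) (BT.leaf (nat_lit 34712345))) (BT.node (nat_lit 10020165) (BT.leaf (nat_lit 35632145)) (BT.leaf (nat_lit 627208)))) (BT.node (nat_lit 10020352) (BT.node (nat_lit 10020288) (BT.leaf (nat_lit 34712353)) (BT.leaf (nat_lit 38979093))) (BT.node (nat_lit 10020480) (BT.leaf (nat_lit 38979097)) (BT.leaf (nat_lit 40423201))))))) (BT.node (nat_lit 10021696) (BT.node (nat_lit 10021063) (BT.node (nat_lit 10020992) (BT.node (nat_lit 10020864) (BT.node (nat_lit 10020736) (BT.leaf (nat_lit 40985613)) (BT.leaf (nat_lit 40985629))) (BT.node (nat_lit 10020928) (BT.leaf (nat_lit 40453381)) (BT.leaf (nat_lit 34695957)))) (BT.node (nat_lit 10021060) (BT.node (nat_lit 10021056) (BT.leaf (nat_lit 41477405)) (BT.leaf (nat_lit 34696469))) (BT.node (nat_lit 10021062) (BT.leaf (nat_lit 631456)) (BT.leaf (nat_lit 631456))))) (BT.node (nat_lit 10021376) (BT.node (nat_lit 10021248) (BT.node (nat_lit 10021120) (BT.leaf (nat_lit 631456)) (BT.leaf (nat_lit 34695961))) (BT.node (nat_lit 10021312) (BT.leaf (nat_lit 34696473)) (BT.leaf (nat_lit 34695953)))) (BT.node (nat_lit 10021504) (BT.node (nat_lit 10021440) (BT.leaf (nat_lit 34782993)) (BT.leaf (nat_lit 34783001))) (BT.node (nat_lit 10021632) (BT.leaf (nat_lit 34783005)) (BT.leaf (nat_lit 41479941)))))) (BT.node (nat_lit 10022528) (BT.node (nat_lit 10022144) (BT.node (nat_lit 10022016) (BT.node (nat_lit 10021888) (BT.leaf (nat_lit 41479945)) (BT.leaf (nat_lit 41479969))) (BT.node (nat_lit 10022080) (BT.leaf (nat_lit 39087121)) (BT.leaf (nat_lit 39087125)))) (BT.node (nat_lit 10022467) (BT.node (nat_lit 10022400) (BT.leaf (nat_lit 39087133)) (BT.leaf (nat_lit 34695445))) (BT.node (nat_lit 10022471) (BT.leaf (nat_lit 643296)) (BT.leaf (nat_lit 643296))))) (BT.node (nat_lit 10022786) (BT.node (nat_lit 10022656) (BT.node (nat_lit 10022592) (BT.leaf (nat_lit 38506013)) (BT.leaf (nat_lit 34983185))) (BT.node (nat_lit 10022720) (BT.leaf (nat_lit 34983193)) (BT.leaf (nat_lit 36979485)))) (BT.node (nat_lit 10022791) (BT.node (nat_lit 10022790) (BT.leaf (nat_lit 633692)) (BT.leaf (nat_lit 633692))) (BT.node (nat_lit 10022848) (BT.leaf (nat_lit 633692)) (BT.leaf (nat_lit 34821145))))))))) (BT.node (nat_lit 10027712) (BT.node (nat_lit 10025344) (BT.node (nat_lit 10024000) (BT.node (nat_lit 10023488) (BT.node (nat_lit 10023168) (BT.node (nat_lit 10023040) (BT.node (nat_lit 10022976) (BT.leaf (nat_lit 34821149)) (BT.leaf (nat_lit 41466909))) (BT.node (nat_lit 10023104) (BT.leaf (nat_lit 40459553)) (BT.leaf (nat_lit 34698521)))) (BT.node (nat_lit 10023296) (BT.node (nat_lit 10023232) (BT.leaf (nat_lit 34986001)) (BT.leaf (nat_lit 35553033))) (BT.node (nat_lit 10023424) (BT.leaf (nat_lit 41441309)) (BT.leaf (nat_lit 35553029))))) (BT.node (nat_lit 10023744) (BT.node (nat_lit 10023616) (BT.node (nat_lit 10023552) (BT.leaf (nat_lit 40433945)) (BT.leaf (nat_lit 34985989))) (BT.node (nat_lit 10023680) (BT.leaf (nat_lit 34985993)) (BT.leaf (nat_lit 34698781)))) (BT.node (nat_lit 10023872) (BT.node (nat_lit 10023808) (BT.leaf (nat_lit 39331097)) (BT.leaf (nat_lit 38859525))) (BT.node (nat_lit 10023936) (BT.leaf (nat_lit 38859529)) (BT.leaf (nat_lit 34699541)))))) (BT.node (nat_lit 10024640) (BT.node (nat_lit 10024256) (BT.node (nat_lit 10024128) (BT.node (nat_lit 10024064) (BT.leaf (nat_lit 35457049)) (BT.leaf (nat_lit 39388961))) (BT.node (nat_lit 10024192) (BT.leaf (nat_lit 34105877)) (BT.leaf (nat_lit 35456281)))) (BT.node (nat_lit 10024512) (BT.node (nat_lit 10024320) (BT.leaf (nat_lit 34791957)) (BT.leaf (nat_lit 34125845))) (BT.node (nat_lit 10024576) (BT.leaf (nat_lit 34701073)) (BT.leaf (nat_lit 34701329))))) (BT.node (nat_lit 10024832) (BT.node (nat_lit 10024704) (BT.node (nat_lit 10024647) (BT.leaf (nat_lit 34701585)) (BT.leaf (nat_lit 646860))) (BT.node (nat_lit 10024768) (BT.leaf (nat_lit 38176289)) (BT.leaf (nat_lit 38163985)))) (BT.node (nat_lit 10025024) (BT.node (nat_lit 10024960) (BT.leaf (nat_lit 41093641)) (BT.leaf (nat_lit 35030033))) (BT.node (nat_lit 10025088) (BT.leaf (nat_lit 35030041)) (BT.leaf (nat_lit 35030045))))))) (BT.node (nat_lit 10026368) (BT.node (nat_lit 10025792) (BT.node (nat_lit 10025600) (BT.node (nat_lit 10025472) (BT.node (nat_lit 10025408) (BT.leaf (nat_lit 35839505)) (BT.leaf (nat_lit 35460617))) (BT.node (nat_lit 10025536) (BT.leaf (nat_lit 38502173)) (BT.leaf (nat_lit 35460613)))) (BT.node (nat_lit 10025728) (BT.node (nat_lit 10025664) (BT.leaf (nat_lit 38848029)) (BT.leaf (nat_lit 36945417))) (BT.node (nat_lit 10025736) (BT.leaf (nat_lit 34988809)) (BT.leaf (nat_lit 640276))))) (BT.node (nat_lit 10026048) (BT.node (nat_lit 10025920) (BT.node (nat_lit 10025856) (BT.leaf (nat_lit 34683161)) (BT.leaf (nat_lit 35839497))) (BT.node (nat_lit 10025984) (BT.leaf (nat_lit 39293465)) (BT.leaf (nat_lit 40845853)))) (BT.node (nat_lit 10026176) (BT.node (nat_lit 10026112) (BT.leaf (nat_lit 39284233)) (BT.leaf (nat_lit 39284229))) (BT.node (nat_lit 10026240) (BT.leaf (nat_lit 40846621)) (BT.leaf (nat_lit 35235349)))))) (BT.node (nat_lit 10026880) (BT.node (nat_lit 10026624) (BT.node (nat_lit 10026496) (BT.node (nat_lit 10026432) (BT.leaf (nat_lit 35235333)) (BT.leaf (nat_lit 35235337))) (BT.node (nat_lit 10026560) (BT.leaf (nat_lit 35235341)) (BT.leaf (nat_lit 34703121)))) (BT.node (nat_lit 10026752) (BT.node (nat_lit 10026688) (BT.leaf (nat_lit 36076577)) (BT.leaf (nat_lit 35330317))) (BT.node (nat_lit 10026816) (BT.leaf (nat_lit 35330321)) (BT.leaf (nat_lit 35330329))))) (BT.node (nat_lit 10027136) (BT.node (nat_lit 10027008) (BT.node (nat_lit 10026944) (BT.leaf (nat_lit 35330333)) (BT.leaf (nat_lit 35330337))) (BT.node (nat_lit 10027072) (BT.leaf (nat_lit 38615057)) (BT.leaf (nat_lit 38615065)))) (BT.node (nat_lit 10027264) (BT.node (nat_lit 10027200) (BT.leaf (nat_lit 36076549)) (BT.leaf (nat_lit 36076553))) (BT.node (nat_lit 10027648) (BT.leaf (nat_lit 34704909)) (BT.leaf (nat_lit 36174617)))))))) (BT.node (nat_lit 10030784) (BT.node (nat_lit 10029504) (BT.node (nat_lit 10028357) (BT.node (nat_lit 10027968) (BT.node (nat_lit 10027840) (BT.node (nat_lit 10027776) (BT.leaf (nat_lit 34705421)) (BT.leaf (nat_lit 36246033))) (BT.node (nat_lit 10027904) (BT.leaf (nat_lit 36246025)) (BT.leaf (nat_lit 34705693)))) (BT.node (nat_lit 10028096) (BT.node (nat_lit 10028032) (BT.leaf (nat_lit 36246049)) (BT.leaf (nat_lit 37344537))) (BT.node (nat_lit 10028288) (BT.leaf (nat_lit 34708493)) (BT.leaf (nat_lit 41487877))))) (BT.node (nat_lit 10029120) (BT.node (nat_lit 10028480) (BT.node (nat_lit 10028359) (BT.leaf (nat_lit 633592)) (BT.leaf (nat_lit 633592))) (BT.node (nat_lit 10028544) (BT.leaf (nat_lit 36634897)) (BT.leaf (nat_lit 36634645)))) (BT.node (nat_lit 10029376) (BT.node (nat_lit 10029312) (BT.leaf (nat_lit 41465097)) (BT.leaf (nat_lit 34710805))) (BT.node (nat_lit 10029440) (BT.leaf (nat_lit 36572685)) (BT.leaf (nat_lit 34706953)))))) (BT.node (nat_lit 10030144) (BT.node (nat_lit 10029888) (BT.node (nat_lit 10029632) (BT.node (nat_lit 10029568) (BT.leaf (nat_lit 34706949)) (BT.leaf (nat_lit 41115141))) (BT.node (nat_lit 10029824) (BT.leaf (nat_lit 34712085)) (BT.leaf (nat_lit 36572677)))) (BT.node (nat_lit 10030016) (BT.node (nat_lit 10029952) (BT.leaf (nat_lit 36572681)) (BT.leaf (nat_lit 36172573))) (BT.node (nat_lit 10030080) (BT.leaf (nat_lit 36572705)) (BT.leaf (nat_lit 35045901))))) (BT.node (nat_lit 10030400) (BT.node (nat_lit 10030272) (BT.node (nat_lit 10030208) (BT.leaf (nat_lit 36960785)) (BT.leaf (nat_lit 41005089))) (BT.node (nat_lit 10030336) (BT.leaf (nat_lit 35045921)) (BT.leaf (nat_lit 36172549)))) (BT.node (nat_lit 10030528) (BT.node (nat_lit 10030464) (BT.leaf (nat_lit 36172553)) (BT.leaf (nat_lit 36172565))) (BT.node (nat_lit 10030656) (BT.leaf (nat_lit 34706969)) (BT.leaf (nat_lit 36534801))))))) (BT.node (nat_lit 10032128) (BT.node (nat_lit 10031424) (BT.node (nat_lit 10031168) (BT.node (nat_lit 10030976) (BT.node (nat_lit 10030848) (BT.leaf (nat_lit 36534809)) (BT.leaf (nat_lit 36534541))) (BT.node (nat_lit 10031104) (BT.leaf (nat_lit 36534553)) (BT.leaf (nat_lit 35788293)))) (BT.node (nat_lit 10031296) (BT.node (nat_lit 10031232) (BT.leaf (nat_lit 35788297)) (BT.leaf (nat_lit 35592733))) (BT.node (nat_lit 10031360) (BT.leaf (nat_lit 35788321)) (BT.leaf (nat_lit 36617733))))) (BT.node (nat_lit 10031872) (BT.node (nat_lit 10031744) (BT.node (nat_lit 10031552) (BT.leaf (nat_lit 36617737)) (BT.leaf (nat_lit 36179997))) (BT.node (nat_lit 10031808) (BT.leaf (nat_lit 36179733)) (BT.leaf (nat_lit 36179741)))) (BT.node (nat_lit 10032000) (BT.node (nat_lit 10031936) (BT.leaf (nat_lit 35592709)) (BT.leaf (nat_lit 35592713))) (BT.node (nat_lit 10032064) (BT.leaf (nat_lit 34705685)) (BT.leaf (nat_lit 35592721)))))) (BT.node (nat_lit 10032768) (BT.node (nat_lit 10032448) (BT.node (nat_lit 10032320) (BT.node (nat_lit 10032192) (BT.leaf (nat_lit 37743373)) (BT.leaf (nat_lit 34708245))) (BT.node (nat_lit 10032384) (BT.leaf (nat_lit 37955333)) (BT.leaf (nat_lit 34809357)))) (BT.node (nat_lit 10032576) (BT.node (nat_lit 10032512) (BT.leaf (nat_lit 36627973)) (BT.leaf (nat_lit 36627977))) (BT.node (nat_lit 10032640) (BT.leaf (nat_lit 36632589)) (BT.leaf (nat_lit 36201757))))) (BT.node (nat_lit 10033280) (BT.node (nat_lit 10033024) (BT.node (nat_lit 10032896) (BT.leaf (nat_lit 37955337)) (BT.leaf (nat_lit 41403933))) (BT.node (nat_lit 10033216) (BT.leaf (nat_lit 41385989)) (BT.leaf (nat_lit 40224005)))) (BT.node (nat_lit 10033408) (BT.node (nat_lit 10033344) (BT.leaf (nat_lit 40432909)) (BT.leaf (nat_lit 40432913))) (BT.node (nat_lit 10033472) (BT.leaf (nat_lit 41465093)) (BT.leaf (nat_lit 40432921)))))))))) (BT.node (nat_lit 10044288) (BT.node (nat_lit 10038208) (BT.node (nat_lit 10035776) (BT.node (nat_lit 10035008) (BT.node (nat_lit 10034176) (BT.node (nat_lit 10033856) (BT.node (nat_lit 10033728) (BT.node (nat_lit 10033600) (BT.leaf (nat_lit 40432925)) (BT.leaf (nat_lit 40432929))) (BT.node (nat_lit 10033792) (BT.leaf (nat_lit 34712325)) (BT.leaf (nat_lit 39041565)))) (BT.node (nat_lit 10034048) (BT.node (nat_lit 10033984) (BT.leaf (nat_lit 35813645)) (BT.leaf (nat_lit 35813637))) (BT.node (nat_lit 10034112) (BT.leaf (nat_lit 35813641)) (BT.leaf (nat_lit 39019537))))) (BT.node (nat_lit 10034688) (BT.node (nat_lit 10034496) (BT.node (nat_lit 10034432) (BT.leaf (nat_lit 35813665)) (BT.leaf (nat_lit 40427789))) (BT.node (nat_lit 10034624) (BT.leaf (nat_lit 40427793)) (BT.leaf (nat_lit 40427809)))) (BT.node (nat_lit 10034816) (BT.node (nat_lit 10034752) (BT.leaf (nat_lit 39971589)) (BT.leaf (nat_lit 34711061))) (BT.node (nat_lit 10034880) (BT.leaf (nat_lit 38979089)) (BT.leaf (nat_lit 40280597)))))) (BT.node (nat_lit 10035584) (BT.node (nat_lit 10035264) (BT.node (nat_lit 10035136) (BT.node (nat_lit 10035072) (BT.leaf (nat_lit 38993413)) (BT.leaf (nat_lit 38993417))) (BT.node (nat_lit 10035200) (BT.leaf (nat_lit 36950557)) (BT.leaf (nat_lit 34903557)))) (BT.node (nat_lit 10035392) (BT.node (nat_lit 10035328) (BT.leaf (nat_lit 34903561)) (BT.leaf (nat_lit 34712349))) (BT.node (nat_lit 10035456) (BT.leaf (nat_lit 35807773)) (BT.leaf (nat_lit 35632161))))) (BT.node (nat_lit 10035716) (BT.node (nat_lit 10035712) (BT.node (nat_lit 10035648) (BT.leaf (nat_lit 36977425)) (BT.leaf (nat_lit 37716229))) (BT.node (nat_lit 10035714) (BT.leaf (nat_lit 40429837)) (BT.leaf (nat_lit 633700)))) (BT.node (nat_lit 10035718) (BT.node (nat_lit 10035717) (BT.leaf (nat_lit 633700)) (BT.leaf (nat_lit 633700))) (BT.node (nat_lit 10035720) (BT.leaf (nat_lit 633700)) (BT.leaf (nat_lit 633700))))))) (BT.node (nat_lit 10036672) (BT.node (nat_lit 10036288) (BT.node (nat_lit 10036032) (BT.node (nat_lit 10035904) (BT.node (nat_lit 10035840) (BT.leaf (nat_lit 37716237)) (BT.leaf (nat_lit 37716245))) (BT.node (nat_lit 10035968) (BT.leaf (nat_lit 37716249)) (BT.leaf (nat_lit 37716257)))) (BT.node (nat_lit 10036160) (BT.node (nat_lit 10036096) (BT.leaf (nat_lit 37718533)) (BT.leaf (nat_lit 37718537))) (BT.node (nat_lit 10036224) (BT.leaf (nat_lit 34712853)) (BT.leaf (nat_lit 37718561))))) (BT.node (nat_lit 10036480) (BT.node (nat_lit 10036352) (BT.node (nat_lit 10036289) (BT.leaf (nat_lit 40427805)) (BT.leaf (nat_lit 638780))) (BT.node (nat_lit 10036416) (BT.leaf (nat_lit 40411145)) (BT.leaf (nat_lit 34712861)))) (BT.node (nat_lit 10036550) (BT.node (nat_lit 10036547) (BT.leaf (nat_lit 39527705)) (BT.leaf (nat_lit 638696))) (BT.node (nat_lit 10036608) (BT.leaf (nat_lit 638696)) (BT.leaf (nat_lit 34714133)))))) (BT.node (nat_lit 10037825) (BT.node (nat_lit 10037440) (BT.node (nat_lit 10037120) (BT.node (nat_lit 10036736) (BT.leaf (nat_lit 34714393)) (BT.leaf (nat_lit 39882257))) (BT.node (nat_lit 10037376) (BT.leaf (nat_lit 39842581)) (BT.leaf (nat_lit 34714641)))) (BT.node (nat_lit 10037632) (BT.node (nat_lit 10037568) (BT.leaf (nat_lit 34717717)) (BT.leaf (nat_lit 36269593))) (BT.node (nat_lit 10037824) (BT.leaf (nat_lit 36269597)) (BT.leaf (nat_lit 35069701))))) (BT.node (nat_lit 10037832) (BT.node (nat_lit 10037830) (BT.node (nat_lit 10037827) (BT.leaf (nat_lit 643400)) (BT.leaf (nat_lit 643400))) (BT.node (nat_lit 10037831) (BT.leaf (nat_lit 643400)) (BT.leaf (nat_lit 643400)))) (BT.node (nat_lit 10038080) (BT.node (nat_lit 10038016) (BT.leaf (nat_lit 643400)) (BT.leaf (nat_lit 40014881))) (BT.node (nat_lit 10038144) (BT.leaf (nat_lit 35912453)) (BT.leaf (nat_lit 35912457)))))))) (BT.node (nat_lit 10041728) (BT.node (nat_lit 10040512) (BT.node (nat_lit 10039488) (BT.node (nat_lit 10039104) (BT.node (nat_lit 10038720) (BT.node (nat_lit 10038272) (BT.leaf (nat_lit 35912473)) (BT.leaf (nat_lit 35912481))) (BT.node (nat_lit 10038784) (BT.leaf (nat_lit 38707225)) (BT.leaf (nat_lit 41493517)))) (BT.node (nat_lit 10039360) (BT.node (nat_lit 10039296) (BT.leaf (nat_lit 41494561)) (BT.leaf (nat_lit 34735621))) (BT.node (nat_lit 10039424) (BT.leaf (nat_lit 34735625)) (BT.leaf (nat_lit 34735649))))) (BT.node (nat_lit 10040064) (BT.node (nat_lit 10039616) (BT.node (nat_lit 10039552) (BT.leaf (nat_lit 34715669)) (BT.leaf (nat_lit 40917021))) (BT.node (nat_lit 10040003) (BT.leaf (nat_lit 38978065)) (BT.leaf (nat_lit 645832)))) (BT.node (nat_lit 10040192) (BT.node (nat_lit 10040128) (BT.leaf (nat_lit 38995233)) (BT.leaf (nat_lit 39287069))) (BT.node (nat_lit 10040448) (BT.leaf (nat_lit 39648541)) (BT.leaf (nat_lit 34716689)))))) (BT.node (nat_lit 10041152) (BT.node (nat_lit 10040832) (BT.node (nat_lit 10040640) (BT.node (nat_lit 10040576) (BT.leaf (nat_lit 34716693)) (BT.leaf (nat_lit 34780941))) (BT.node (nat_lit 10040768) (BT.leaf (nat_lit 34780945)) (BT.leaf (nat_lit 34780953)))) (BT.node (nat_lit 10041024) (BT.node (nat_lit 10040960) (BT.leaf (nat_lit 34780961)) (BT.leaf (nat_lit 39534613))) (BT.node (nat_lit 10041088) (BT.leaf (nat_lit 34716697)) (BT.leaf (nat_lit 38986769))))) (BT.node (nat_lit 10041472) (BT.node (nat_lit 10041280) (BT.node (nat_lit 10041216) (BT.leaf (nat_lit 39034137)) (BT.leaf (nat_lit 34717201))) (BT.node (nat_lit 10041408) (BT.leaf (nat_lit 39033885)) (BT.leaf (nat_lit 39059733)))) (BT.node (nat_lit 10041600) (BT.node (nat_lit 10041536) (BT.leaf (nat_lit 34718729)) (BT.leaf (nat_lit 34718725))) (BT.node (nat_lit 10041664) (BT.leaf (nat_lit 39059737)) (BT.leaf (nat_lit 34718733))))))) (BT.node (nat_lit 10042944) (BT.node (nat_lit 10042240) (BT.node (nat_lit 10041992) (BT.node (nat_lit 10041856) (BT.node (nat_lit 10041792) (BT.leaf (nat_lit 36993057)) (BT.leaf (nat_lit 36993305))) (BT.node (nat_lit 10041920) (BT.leaf (nat_lit 36993309)) (BT.leaf (nat_lit 36993037)))) (BT.node (nat_lit 10042112) (BT.node (nat_lit 10042048) (BT.leaf (nat_lit 627712)) (BT.leaf (nat_lit 36993049))) (BT.node (nat_lit 10042176) (BT.leaf (nat_lit 34717969)) (BT.leaf (nat_lit 34717973))))) (BT.node (nat_lit 10042496) (BT.node (nat_lit 10042368) (BT.node (nat_lit 10042304) (BT.leaf (nat_lit 40071453)) (BT.leaf (nat_lit 35294993))) (BT.node (nat_lit 10042432) (BT.leaf (nat_lit 35295001)) (BT.leaf (nat_lit 40439061)))) (BT.node (nat_lit 10042752) (BT.node (nat_lit 10042688) (BT.leaf (nat_lit 34695193)) (BT.leaf (nat_lit 40946181))) (BT.node (nat_lit 10042880) (BT.leaf (nat_lit 40946185)) (BT.leaf (nat_lit 34718741)))))) (BT.node (nat_lit 10043712) (BT.node (nat_lit 10043328) (BT.node (nat_lit 10043072) (BT.node (nat_lit 10043008) (BT.leaf (nat_lit 35392269)) (BT.leaf (nat_lit 35392281))) (BT.node (nat_lit 10043264) (BT.leaf (nat_lit 35392289)) (BT.leaf (nat_lit 40329237)))) (BT.node (nat_lit 10043520) (BT.node (nat_lit 10043392) (BT.leaf (nat_lit 40316425)) (BT.leaf (nat_lit 34719249))) (BT.node (nat_lit 10043648) (BT.leaf (nat_lit 34718997)) (BT.leaf (nat_lit 34719253))))) (BT.node (nat_lit 10044032) (BT.node (nat_lit 10043840) (BT.node (nat_lit 10043776) (BT.leaf (nat_lit 35505925)) (BT.leaf (nat_lit 35505929))) (BT.node (nat_lit 10043968) (BT.leaf (nat_lit 34719001)) (BT.leaf (nat_lit 35505949)))) (BT.node (nat_lit 10044160) (BT.node (nat_lit 10044096) (BT.leaf (nat_lit 35505953)) (BT.leaf (nat_lit 35000069))) (BT.node (nat_lit 10044224) (BT.leaf (nat_lit 35000073)) (BT.leaf (nat_lit 34719005))))))))) (BT.node (nat_lit 10050624) (BT.node (nat_lit 10046976) (BT.node (nat_lit 10045760) (BT.node (nat_lit 10045184) (BT.node (nat_lit 10044864) (BT.node (nat_lit 10044544) (BT.node (nat_lit 10044480) (BT.leaf (nat_lit 35000097)) (BT.leaf (nat_lit 35506193))) (BT.node (nat_lit 10044672) (BT.leaf (nat_lit 34718993)) (BT.leaf (nat_lit 35506205)))) (BT.node (nat_lit 10045056) (BT.node (nat_lit 10044992) (BT.leaf (nat_lit 34719261)) (BT.leaf (nat_lit 39544589))) (BT.node (nat_lit 10045120) (BT.leaf (nat_lit 34800145)) (BT.leaf (nat_lit 39544581))))) (BT.node (nat_lit 10045504) (BT.node (nat_lit 10045312) (BT.node (nat_lit 10045248) (BT.leaf (nat_lit 39544585)) (BT.leaf (nat_lit 34720017))) (BT.node (nat_lit 10045440) (BT.leaf (nat_lit 34720273)) (BT.leaf (nat_lit 40056097)))) (BT.node (nat_lit 10045632) (BT.node (nat_lit 10045568) (BT.leaf (nat_lit 34849813)) (BT.leaf (nat_lit 40056077))) (BT.node (nat_lit 10045696) (BT.leaf (nat_lit 38351897)) (BT.leaf (nat_lit 40942609)))))) (BT.node (nat_lit 10046336) (BT.node (nat_lit 10046016) (BT.node (nat_lit 10045888) (BT.node (nat_lit 10045824) (BT.leaf (nat_lit 34787101)) (BT.leaf (nat_lit 38367249))) (BT.node (nat_lit 10045952) (BT.leaf (nat_lit 34722057)) (BT.leaf (nat_lit 34722053)))) (BT.node (nat_lit 10046208) (BT.node (nat_lit 10046080) (BT.leaf (nat_lit 34721805)) (BT.leaf (nat_lit 34722061))) (BT.node (nat_lit 10046272) (BT.leaf (nat_lit 34722069)) (BT.leaf (nat_lit 34975521))))) (BT.node (nat_lit 10046464) (BT.node (nat_lit 10046402) (BT.node (nat_lit 10046400) (BT.leaf (nat_lit 34974737)) (BT.leaf (nat_lit 34988833))) (BT.node (nat_lit 10046407) (BT.leaf (nat_lit 640284)) (BT.leaf (nat_lit 640284)))) (BT.node (nat_lit 10046592) (BT.node (nat_lit 10046528) (BT.leaf (nat_lit 34974745)) (BT.leaf (nat_lit 34974749))) (BT.node (nat_lit 10046784) (BT.leaf (nat_lit 34975501)) (BT.leaf (nat_lit 34724373))))))) (BT.node (nat_lit 10048384) (BT.node (nat_lit 10047296) (BT.node (nat_lit 10047111) (BT.node (nat_lit 10047105) (BT.node (nat_lit 10047040) (BT.leaf (nat_lit 34724897)) (BT.leaf (nat_lit 37194769))) (BT.node (nat_lit 10047107) (BT.leaf (nat_lit 629944)) (BT.leaf (nat_lit 629944)))) (BT.node (nat_lit 10047168) (BT.node (nat_lit 10047112) (BT.leaf (nat_lit 629944)) (BT.leaf (nat_lit 629944))) (BT.node (nat_lit 10047232) (BT.leaf (nat_lit 37194777)) (BT.leaf (nat_lit 37194781))))) (BT.node (nat_lit 10048128) (BT.node (nat_lit 10047488) (BT.node (nat_lit 10047360) (BT.leaf (nat_lit 34724877)) (BT.leaf (nat_lit 34725133))) (BT.node (nat_lit 10048000) (BT.leaf (nat_lit 35853337)) (BT.leaf (nat_lit 34727709)))) (BT.node (nat_lit 10048256) (BT.node (nat_lit 10048192) (BT.leaf (nat_lit 34639637)) (BT.leaf (nat_lit 36520973))) (BT.node (nat_lit 10048320) (BT.leaf (nat_lit 34727945)) (BT.leaf (nat_lit 34727941)))))) (BT.node (nat_lit 10049544) (BT.node (nat_lit 10048768) (BT.node (nat_lit 10048512) (BT.node (nat_lit 10048448) (BT.leaf (nat_lit 34727701)) (BT.leaf (nat_lit 34727949))) (BT.node (nat_lit 10048704) (BT.leaf (nat_lit 39593497)) (BT.leaf (nat_lit 39758093)))) (BT.node (nat_lit 10048896) (BT.node (nat_lit 10048832) (BT.leaf (nat_lit 36726557)) (BT.leaf (nat_lit 34725905))) (BT.node (nat_lit 10048960) (BT.leaf (nat_lit 34116357)) (BT.leaf (nat_lit 38852381))))) (BT.node (nat_lit 10050240) (BT.node (nat_lit 10049792) (BT.node (nat_lit 10049728) (BT.leaf (nat_lit 629736)) (BT.leaf (nat_lit 38495773))) (BT.node (nat_lit 10049920) (BT.leaf (nat_lit 38496277)) (BT.leaf (nat_lit 38496285)))) (BT.node (nat_lit 10050432) (BT.node (nat_lit 10050368) (BT.leaf (nat_lit 39665681)) (BT.leaf (nat_lit 39665689))) (BT.node (nat_lit 10050496) (BT.leaf (nat_lit 39665693)) (BT.leaf (nat_lit 39665165)))))))) (BT.node (nat_lit 10053440) (BT.node (nat_lit 10051840) (BT.node (nat_lit 10051200) (BT.node (nat_lit 10050880) (BT.node (nat_lit 10050752) (BT.node (nat_lit 10050688) (BT.leaf (nat_lit 39665177)) (BT.leaf (nat_lit 39665181))) (BT.node (nat_lit 10050816) (BT.leaf (nat_lit 39517445)) (BT.leaf (nat_lit 39517449)))) (BT.node (nat_lit 10051072) (BT.node (nat_lit 10050944) (BT.leaf (nat_lit 37949213)) (BT.leaf (nat_lit 39517473))) (BT.node (nat_lit 10051136) (BT.leaf (nat_lit 38969109)) (BT.leaf (nat_lit 40213273))))) (BT.node (nat_lit 10051520) (BT.node (nat_lit 10051392) (BT.node (nat_lit 10051264) (BT.leaf (nat_lit 39668501)) (BT.leaf (nat_lit 39668509))) (BT.node (nat_lit 10051456) (BT.leaf (nat_lit 38329613)) (BT.leaf (nat_lit 34626321)))) (BT.node (nat_lit 10051648) (BT.node (nat_lit 10051584) (BT.leaf (nat_lit 38329625)) (BT.leaf (nat_lit 36520981))) (BT.node (nat_lit 10051776) (BT.leaf (nat_lit 36520989)) (BT.leaf (nat_lit 37949189)))))) (BT.node (nat_lit 10052928) (BT.node (nat_lit 10052160) (BT.node (nat_lit 10051968) (BT.node (nat_lit 10051904) (BT.leaf (nat_lit 37949193)) (BT.leaf (nat_lit 37949201))) (BT.node (nat_lit 10052032) (BT.leaf (nat_lit 37949209)) (BT.leaf (nat_lit 34727957)))) (BT.node (nat_lit 10052672) (BT.node (nat_lit 10052608) (BT.leaf (nat_lit 39944969)) (BT.leaf (nat_lit 37818141))) (BT.node (nat_lit 10052736) (BT.leaf (nat_lit 39593241)) (BT.leaf (nat_lit 39655173))))) (BT.node (nat_lit 10053253) (BT.node (nat_lit 10053056) (BT.node (nat_lit 10052992) (BT.leaf (nat_lit 41487649)) (BT.leaf (nat_lit 39600669))) (BT.node (nat_lit 10053184) (BT.leaf (nat_lit 41487905)) (BT.leaf (nat_lit 39655177)))) (BT.node (nat_lit 10053312) (BT.node (nat_lit 10053255) (BT.leaf (nat_lit 647860)) (BT.leaf (nat_lit 647860))) (BT.node (nat_lit 10053376) (BT.leaf (nat_lit 35160069)) (BT.leaf (nat_lit 35160073))))))) (BT.node (nat_lit 10055040) (BT.node (nat_lit 10054080) (BT.node (nat_lit 10053696) (BT.node (nat_lit 10053568) (BT.node (nat_lit 10053504) (BT.leaf (nat_lit 35160085)) (BT.leaf (nat_lit 35160093))) (BT.node (nat_lit 10053632) (BT.leaf (nat_lit 38235925)) (BT.leaf (nat_lit 35846685)))) (BT.node (nat_lit 10053824) (BT.node (nat_lit 10053760) (BT.leaf (nat_lit 34728465)) (BT.leaf (nat_lit 34712333))) (BT.node (nat_lit 10054016) (BT.leaf (nat_lit 35808013)) (BT.leaf (nat_lit 35808025))))) (BT.node (nat_lit 10054659) (BT.node (nat_lit 10054528) (BT.node (nat_lit 10054464) (BT.leaf (nat_lit 34728977)) (BT.leaf (nat_lit 34728981))) (BT.node (nat_lit 10054592) (BT.leaf (nat_lit 34782477)) (BT.leaf (nat_lit 34782481)))) (BT.node (nat_lit 10054784) (BT.node (nat_lit 10054720) (BT.leaf (nat_lit 631392)) (BT.leaf (nat_lit 40145925))) (BT.node (nat_lit 10054976) (BT.leaf (nat_lit 34782497)) (BT.leaf (nat_lit 35807765)))))) (BT.node (nat_lit 10055616) (BT.node (nat_lit 10055360) (BT.node (nat_lit 10055168) (BT.node (nat_lit 10055104) (BT.leaf (nat_lit 34728985)) (BT.leaf (nat_lit 34729229))) (BT.node (nat_lit 10055296) (BT.leaf (nat_lit 35000865)) (BT.leaf (nat_lit 40862745)))) (BT.node (nat_lit 10055488) (BT.node (nat_lit 10055424) (BT.leaf (nat_lit 35000845)) (BT.leaf (nat_lit 35000857))) (BT.node (nat_lit 10055552) (BT.leaf (nat_lit 36946201)) (BT.leaf (nat_lit 34731529))))) (BT.node (nat_lit 10056000) (BT.node (nat_lit 10055744) (BT.node (nat_lit 10055680) (BT.leaf (nat_lit 34731525)) (BT.leaf (nat_lit 34801173))) (BT.node (nat_lit 10055936) (BT.leaf (nat_lit 34731533)) (BT.leaf (nat_lit 40266261)))) (BT.node (nat_lit 10056320) (BT.node (nat_lit 10056064) (BT.leaf (nat_lit 38366213)) (BT.leaf (nat_lit 38366233))) (BT.node (nat_lit 10056384) (BT.leaf (nat_lit 40066081)) (BT.leaf (nat_lit 40953365))))))))))) (BT.node (nat_lit 10077760) (BT.node (nat_lit 10067072) (BT.node (nat_lit 10061632) (BT.node (nat_lit 10059008) (BT.node (nat_lit 10058051) (BT.node (nat_lit 10057216) (BT.node (nat_lit 10056768) (BT.node (nat_lit 10056576) (BT.node (nat_lit 10056512) (BT.leaf (nat_lit 40953373)) (BT.leaf (nat_lit 40066061))) (BT.node (nat_lit 10056704) (BT.leaf (nat_lit 40066065)) (BT.leaf (nat_lit 40066077)))) (BT.node (nat_lit 10057024) (BT.node (nat_lit 10056832) (BT.leaf (nat_lit 34729249)) (BT.leaf (nat_lit 34136849))) (BT.node (nat_lit 10057088) (BT.leaf (nat_lit 34729745)) (BT.leaf (nat_lit 34730001))))) (BT.node (nat_lit 10057920) (BT.node (nat_lit 10057536) (BT.node (nat_lit 10057344) (BT.leaf (nat_lit 34729493)) (BT.leaf (nat_lit 34730005))) (BT.node (nat_lit 10057856) (BT.leaf (nat_lit 34729501)) (BT.leaf (nat_lit 34730773)))) (BT.node (nat_lit 10058049) (BT.node (nat_lit 10057984) (BT.leaf (nat_lit 34731041)) (BT.leaf (nat_lit 34858517))) (BT.node (nat_lit 10058050) (BT.leaf (nat_lit 635412)) (BT.leaf (nat_lit 635412)))))) (BT.node (nat_lit 10058496) (BT.node (nat_lit 10058240) (BT.node (nat_lit 10058112) (BT.node (nat_lit 10058056) (BT.leaf (nat_lit 635412)) (BT.leaf (nat_lit 635412))) (BT.node (nat_lit 10058176) (BT.leaf (nat_lit 34731021)) (BT.leaf (nat_lit 34453529)))) (BT.node (nat_lit 10058368) (BT.node (nat_lit 10058304) (BT.leaf (nat_lit 40577825)) (BT.leaf (nat_lit 34732057))) (BT.node (nat_lit 10058432) (BT.leaf (nat_lit 34805781)) (BT.leaf (nat_lit 34805789))))) (BT.node (nat_lit 10058752) (BT.node (nat_lit 10058624) (BT.node (nat_lit 10058560) (BT.leaf (nat_lit 38287885)) (BT.leaf (nat_lit 40932105))) (BT.node (nat_lit 10058688) (BT.leaf (nat_lit 40577569)) (BT.leaf (nat_lit 34733329)))) (BT.node (nat_lit 10058880) (BT.node (nat_lit 10058816) (BT.leaf (nat_lit 34733585)) (BT.leaf (nat_lit 35154181))) (BT.node (nat_lit 10058944) (BT.leaf (nat_lit 35154185)) (BT.leaf (nat_lit 35154189))))))) (BT.node (nat_lit 10060224) (BT.node (nat_lit 10059648) (BT.node (nat_lit 10059328) (BT.node (nat_lit 10059136) (BT.node (nat_lit 10059072) (BT.leaf (nat_lit 38008857)) (BT.leaf (nat_lit 34735125))) (BT.node (nat_lit 10059264) (BT.leaf (nat_lit 36962317)) (BT.leaf (nat_lit 36962333)))) (BT.node (nat_lit 10059456) (BT.node (nat_lit 10059392) (BT.leaf (nat_lit 36962337)) (BT.leaf (nat_lit 40342277))) (BT.node (nat_lit 10059584) (BT.leaf (nat_lit 34735893)) (BT.leaf (nat_lit 34736405))))) (BT.node (nat_lit 10059968) (BT.node (nat_lit 10059776) (BT.node (nat_lit 10059712) (BT.leaf (nat_lit 35897861)) (BT.leaf (nat_lit 35897865))) (BT.node (nat_lit 10059904) (BT.leaf (nat_lit 35897869)) (BT.leaf (nat_lit 35897885)))) (BT.node (nat_lit 10060096) (BT.node (nat_lit 10060032) (BT.leaf (nat_lit 35867409)) (BT.leaf (nat_lit 38294293))) (BT.node (nat_lit 10060160) (BT.leaf (nat_lit 38294277)) (BT.leaf (nat_lit 38294281)))))) (BT.node (nat_lit 10060864) (BT.node (nat_lit 10060608) (BT.node (nat_lit 10060480) (BT.node (nat_lit 10060416) (BT.leaf (nat_lit 38294305)) (BT.leaf (nat_lit 39152921))) (BT.node (nat_lit 10060544) (BT.leaf (nat_lit 34736657)) (BT.leaf (nat_lit 35867929)))) (BT.node (nat_lit 10060736) (BT.node (nat_lit 10060672) (BT.leaf (nat_lit 34736661)) (BT.leaf (nat_lit 40790049))) (BT.node (nat_lit 10060800) (BT.leaf (nat_lit 34759437)) (BT.leaf (nat_lit 34759449))))) (BT.node (nat_lit 10061120) (BT.node (nat_lit 10060992) (BT.node (nat_lit 10060928) (BT.leaf (nat_lit 34759453)) (BT.leaf (nat_lit 34759457))) (BT.node (nat_lit 10061056) (BT.leaf (nat_lit 40790021)) (BT.leaf (nat_lit 40790025)))) (BT.node (nat_lit 10061312) (BT.node (nat_lit 10061248) (BT.leaf (nat_lit 34737677)) (BT.leaf (nat_lit 34738193))) (BT.node (nat_lit 10061568) (BT.leaf (nat_lit 34663697)) (BT.leaf (nat_lit 34641169)))))))) (BT.node (nat_lit 10064256) (BT.node (nat_lit 10063040) (BT.node (nat_lit 10062336) (BT.node (nat_lit 10062016) (BT.node (nat_lit 10061760) (BT.node (nat_lit 10061696) (BT.leaf (nat_lit 34785809)) (BT.leaf (nat_lit 36952857))) (BT.node (nat_lit 10061952) (BT.leaf (nat_lit 35488029)) (BT.leaf (nat_lit 34738965)))) (BT.node (nat_lit 10062277) (BT.node (nat_lit 10062272) (BT.leaf (nat_lit 39712025)) (BT.leaf (nat_lit 34785297))) (BT.node (nat_lit 10062279) (BT.leaf (nat_lit 640396)) (BT.leaf (nat_lit 640396))))) (BT.node (nat_lit 10062784) (BT.node (nat_lit 10062656) (BT.node (nat_lit 10062400) (BT.leaf (nat_lit 36952601)) (BT.leaf (nat_lit 34991133))) (BT.node (nat_lit 10062720) (BT.leaf (nat_lit 39819021)) (BT.leaf (nat_lit 39819013)))) (BT.node (nat_lit 10062912) (BT.node (nat_lit 10062848) (BT.leaf (nat_lit 39819017)) (BT.leaf (nat_lit 38231817))) (BT.node (nat_lit 10062976) (BT.leaf (nat_lit 34770717)) (BT.leaf (nat_lit 36951577)))))) (BT.node (nat_lit 10063744) (BT.node (nat_lit 10063360) (BT.node (nat_lit 10063168) (BT.node (nat_lit 10063104) (BT.leaf (nat_lit 34991389)) (BT.leaf (nat_lit 41427225))) (BT.node (nat_lit 10063232) (BT.leaf (nat_lit 34739741)) (BT.leaf (nat_lit 38388493)))) (BT.node (nat_lit 10063552) (BT.node (nat_lit 10063424) (BT.leaf (nat_lit 35821593)) (BT.leaf (nat_lit 34740497))) (BT.node (nat_lit 10063616) (BT.leaf (nat_lit 34740501)) (BT.leaf (nat_lit 40422677))))) (BT.node (nat_lit 10064000) (BT.node (nat_lit 10063872) (BT.node (nat_lit 10063808) (BT.leaf (nat_lit 39817989)) (BT.leaf (nat_lit 37934109))) (BT.node (nat_lit 10063936) (BT.leaf (nat_lit 34901253)) (BT.leaf (nat_lit 34901257)))) (BT.node (nat_lit 10064128) (BT.node (nat_lit 10064064) (BT.leaf (nat_lit 34740253)) (BT.leaf (nat_lit 34901281))) (BT.node (nat_lit 10064192) (BT.leaf (nat_lit 34740001)) (BT.leaf (nat_lit 34776337))))))) (BT.node (nat_lit 10065344) (BT.node (nat_lit 10064771) (BT.node (nat_lit 10064512) (BT.node (nat_lit 10064384) (BT.node (nat_lit 10064320) (BT.leaf (nat_lit 34776345)) (BT.leaf (nat_lit 34739981))) (BT.node (nat_lit 10064448) (BT.leaf (nat_lit 34767645)) (BT.leaf (nat_lit 34741521)))) (BT.node (nat_lit 10064640) (BT.node (nat_lit 10064576) (BT.leaf (nat_lit 37696017)) (BT.leaf (nat_lit 34771717))) (BT.node (nat_lit 10064704) (BT.leaf (nat_lit 34771721)) (BT.leaf (nat_lit 34771737))))) (BT.node (nat_lit 10064960) (BT.node (nat_lit 10064832) (BT.node (nat_lit 10064775) (BT.leaf (nat_lit 631016)) (BT.leaf (nat_lit 637804))) (BT.node (nat_lit 10064896) (BT.leaf (nat_lit 34742549)) (BT.leaf (nat_lit 34741781)))) (BT.node (nat_lit 10065088) (BT.node (nat_lit 10065024) (BT.leaf (nat_lit 41196301)) (BT.leaf (nat_lit 41196313))) (BT.node (nat_lit 10065152) (BT.leaf (nat_lit 41196317)) (BT.leaf (nat_lit 41196321)))))) (BT.node (nat_lit 10066240) (BT.node (nat_lit 10065984) (BT.node (nat_lit 10065856) (BT.node (nat_lit 10065408) (BT.leaf (nat_lit 40216341)) (BT.leaf (nat_lit 34742801))) (BT.node (nat_lit 10065920) (BT.leaf (nat_lit 41573653)) (BT.leaf (nat_lit 41573637)))) (BT.node (nat_lit 10066112) (BT.node (nat_lit 10066048) (BT.leaf (nat_lit 41573641)) (BT.leaf (nat_lit 39574045))) (BT.node (nat_lit 10066176) (BT.leaf (nat_lit 41573665)) (BT.leaf (nat_lit 36386577))))) (BT.node (nat_lit 10066752) (BT.node (nat_lit 10066368) (BT.node (nat_lit 10066304) (BT.leaf (nat_lit 40440097)) (BT.leaf (nat_lit 40440353))) (BT.node (nat_lit 10066688) (BT.leaf (nat_lit 38278173)) (BT.leaf (nat_lit 40497697)))) (BT.node (nat_lit 10066880) (BT.node (nat_lit 10066816) (BT.leaf (nat_lit 34744341)) (BT.leaf (nat_lit 41171973))) (BT.node (nat_lit 10066944) (BT.leaf (nat_lit 41171977)) (BT.leaf (nat_lit 41171993))))))))) (BT.node (nat_lit 10072704) (BT.node (nat_lit 10069760) (BT.node (nat_lit 10067912) (BT.node (nat_lit 10067777) (BT.node (nat_lit 10067520) (BT.node (nat_lit 10067392) (BT.node (nat_lit 10067200) (BT.leaf (nat_lit 41172001)) (BT.leaf (nat_lit 34744597))) (BT.node (nat_lit 10067456) (BT.leaf (nat_lit 34745109)) (BT.leaf (nat_lit 38377221)))) (BT.node (nat_lit 10067712) (BT.node (nat_lit 10067584) (BT.leaf (nat_lit 38377225)) (BT.leaf (nat_lit 38377229))) (BT.node (nat_lit 10067776) (BT.leaf (nat_lit 38377249)) (BT.leaf (nat_lit 38851869))))) (BT.node (nat_lit 10067840) (BT.node (nat_lit 10067782) (BT.node (nat_lit 10067780) (BT.leaf (nat_lit 643260)) (BT.leaf (nat_lit 643260))) (BT.node (nat_lit 10067784) (BT.leaf (nat_lit 643260)) (BT.leaf (nat_lit 643260)))) (BT.node (nat_lit 10067906) (BT.node (nat_lit 10067904) (BT.leaf (nat_lit 41084425)) (BT.leaf (nat_lit 35069705))) (BT.node (nat_lit 10067908) (BT.leaf (nat_lit 643396)) (BT.leaf (nat_lit 643396)))))) (BT.node (nat_lit 10068992) (BT.node (nat_lit 10068416) (BT.node (nat_lit 10068032) (BT.node (nat_lit 10067968) (BT.leaf (nat_lit 643396)) (BT.leaf (nat_lit 41084441))) (BT.node (nat_lit 10068352) (BT.leaf (nat_lit 41084449)) (BT.leaf (nat_lit 34745117)))) (BT.node (nat_lit 10068672) (BT.node (nat_lit 10068608) (BT.leaf (nat_lit 35107081)) (BT.leaf (nat_lit 34746641))) (BT.node (nat_lit 10068736) (BT.leaf (nat_lit 34746897)) (BT.leaf (nat_lit 34849041))))) (BT.node (nat_lit 10069248) (BT.node (nat_lit 10069120) (BT.node (nat_lit 10069056) (BT.leaf (nat_lit 40037153)) (BT.leaf (nat_lit 37101573))) (BT.node (nat_lit 10069184) (BT.leaf (nat_lit 35449617)) (BT.leaf (nat_lit 35449625)))) (BT.node (nat_lit 10069504) (BT.node (nat_lit 10069440) (BT.leaf (nat_lit 35278617)) (BT.leaf (nat_lit 36954641))) (BT.node (nat_lit 10069632) (BT.leaf (nat_lit 34747153)) (BT.leaf (nat_lit 40864289))))))) (BT.node (nat_lit 10071040) (BT.node (nat_lit 10070400) (BT.node (nat_lit 10070016) (BT.node (nat_lit 10069888) (BT.node (nat_lit 10069824) (BT.leaf (nat_lit 34774533)) (BT.leaf (nat_lit 34774537))) (BT.node (nat_lit 10069952) (BT.leaf (nat_lit 34747421)) (BT.leaf (nat_lit 34774553)))) (BT.node (nat_lit 10070144) (BT.node (nat_lit 10070080) (BT.leaf (nat_lit 34774561)) (BT.leaf (nat_lit 35441933))) (BT.node (nat_lit 10070336) (BT.leaf (nat_lit 34769417)) (BT.leaf (nat_lit 34747921))))) (BT.node (nat_lit 10070784) (BT.node (nat_lit 10070592) (BT.node (nat_lit 10070528) (BT.leaf (nat_lit 34747925)) (BT.leaf (nat_lit 34900229))) (BT.node (nat_lit 10070720) (BT.leaf (nat_lit 34900233)) (BT.leaf (nat_lit 34900257)))) (BT.node (nat_lit 10070912) (BT.node (nat_lit 10070848) (BT.leaf (nat_lit 34777869)) (BT.leaf (nat_lit 34777873))) (BT.node (nat_lit 10070976) (BT.leaf (nat_lit 38845465)) (BT.leaf (nat_lit 34777889)))))) (BT.node (nat_lit 10071552) (BT.node (nat_lit 10071296) (BT.node (nat_lit 10071168) (BT.node (nat_lit 10071104) (BT.leaf (nat_lit 41340421)) (BT.leaf (nat_lit 41340425))) (BT.node (nat_lit 10071232) (BT.leaf (nat_lit 34747929)) (BT.leaf (nat_lit 40033545)))) (BT.node (nat_lit 10071424) (BT.node (nat_lit 10071360) (BT.leaf (nat_lit 34749453)) (BT.leaf (nat_lit 34850573))) (BT.node (nat_lit 10071488) (BT.leaf (nat_lit 34748193)) (BT.leaf (nat_lit 38324249))))) (BT.node (nat_lit 10072320) (BT.node (nat_lit 10071680) (BT.node (nat_lit 10071616) (BT.leaf (nat_lit 34748173)) (BT.leaf (nat_lit 35132677))) (BT.node (nat_lit 10071808) (BT.leaf (nat_lit 38424089)) (BT.leaf (nat_lit 34748433)))) (BT.node (nat_lit 10072576) (BT.node (nat_lit 10072512) (BT.leaf (nat_lit 41011229)) (BT.leaf (nat_lit 40479761))) (BT.node (nat_lit 10072640) (BT.leaf (nat_lit 34752005)) (BT.leaf (nat_lit 34752009)))))))) (BT.node (nat_lit 10075776) (BT.node (nat_lit 10074432) (BT.node (nat_lit 10073600) (BT.node (nat_lit 10073088) (BT.node (nat_lit 10072832) (BT.node (nat_lit 10072768) (BT.leaf (nat_lit 34748957)) (BT.leaf (nat_lit 34752025))) (BT.node (nat_lit 10073024) (BT.leaf (nat_lit 34752033)) (BT.leaf (nat_lit 35445765)))) (BT.node (nat_lit 10073344) (BT.node (nat_lit 10073152) (BT.leaf (nat_lit 35445769)) (BT.leaf (nat_lit 40528389))) (BT.node (nat_lit 10073408) (BT.leaf (nat_lit 34126097)) (BT.leaf (nat_lit 41064209))))) (BT.node (nat_lit 10073984) (BT.node (nat_lit 10073856) (BT.node (nat_lit 10073664) (BT.leaf (nat_lit 40033541)) (BT.leaf (nat_lit 40034321))) (BT.node (nat_lit 10073920) (BT.leaf (nat_lit 40034333)) (BT.leaf (nat_lit 40034337)))) (BT.node (nat_lit 10074176) (BT.node (nat_lit 10074048) (BT.leaf (nat_lit 40032785)) (BT.leaf (nat_lit 40032789))) (BT.node (nat_lit 10074240) (BT.leaf (nat_lit 40032797)) (BT.leaf (nat_lit 34850585)))))) (BT.node (nat_lit 10075008) (BT.node (nat_lit 10074688) (BT.node (nat_lit 10074560) (BT.node (nat_lit 10074496) (BT.leaf (nat_lit 34749717)) (BT.leaf (nat_lit 41412385))) (BT.node (nat_lit 10074624) (BT.leaf (nat_lit 34750229)) (BT.leaf (nat_lit 34750473)))) (BT.node (nat_lit 10074816) (BT.node (nat_lit 10074752) (BT.leaf (nat_lit 34750469)) (BT.leaf (nat_lit 34749721))) (BT.node (nat_lit 10074944) (BT.leaf (nat_lit 34749977)) (BT.leaf (nat_lit 38319133))))) (BT.node (nat_lit 10075392) (BT.node (nat_lit 10075264) (BT.node (nat_lit 10075200) (BT.leaf (nat_lit 34750233)) (BT.leaf (nat_lit 34749725))) (BT.node (nat_lit 10075328) (BT.leaf (nat_lit 34749981)) (BT.leaf (nat_lit 38499609)))) (BT.node (nat_lit 10075648) (BT.node (nat_lit 10075584) (BT.leaf (nat_lit 38499617)) (BT.leaf (nat_lit 38322957))) (BT.node (nat_lit 10075712) (BT.leaf (nat_lit 38322969)) (BT.leaf (nat_lit 38322973))))))) (BT.node (nat_lit 10076800) (BT.node (nat_lit 10076360) (BT.node (nat_lit 10076288) (BT.node (nat_lit 10076160) (BT.node (nat_lit 10075904) (BT.leaf (nat_lit 34749713)) (BT.leaf (nat_lit 41010205))) (BT.node (nat_lit 10076224) (BT.leaf (nat_lit 38273309)) (BT.leaf (nat_lit 37705485)))) (BT.node (nat_lit 10076356) (BT.node (nat_lit 10076355) (BT.leaf (nat_lit 37705489)) (BT.leaf (nat_lit 638476))) (BT.node (nat_lit 10076359) (BT.leaf (nat_lit 638476)) (BT.leaf (nat_lit 638476))))) (BT.node (nat_lit 10076608) (BT.node (nat_lit 10076480) (BT.node (nat_lit 10076416) (BT.leaf (nat_lit 638476)) (BT.leaf (nat_lit 37705497))) (BT.node (nat_lit 10076544) (BT.leaf (nat_lit 37705501)) (BT.leaf (nat_lit 34756117)))) (BT.node (nat_lit 10076679) (BT.node (nat_lit 10076675) (BT.leaf (nat_lit 34749461)) (BT.leaf (nat_lit 646544))) (BT.node (nat_lit 10076736) (BT.leaf (nat_lit 646544)) (BT.leaf (nat_lit 35132701)))))) (BT.node (nat_lit 10077312) (BT.node (nat_lit 10077056) (BT.node (nat_lit 10076928) (BT.node (nat_lit 10076864) (BT.leaf (nat_lit 34760453)) (BT.leaf (nat_lit 34760457))) (BT.node (nat_lit 10076992) (BT.leaf (nat_lit 38258201)) (BT.leaf (nat_lit 34837269)))) (BT.node (nat_lit 10077184) (BT.node (nat_lit 10077120) (BT.leaf (nat_lit 34837277)) (BT.leaf (nat_lit 35138829))) (BT.node (nat_lit 10077248) (BT.leaf (nat_lit 34860049)) (BT.leaf (nat_lit 34860037))))) (BT.node (nat_lit 10077568) (BT.node (nat_lit 10077440) (BT.node (nat_lit 10077376) (BT.leaf (nat_lit 34860041)) (BT.leaf (nat_lit 34860053))) (BT.node (nat_lit 10077504) (BT.leaf (nat_lit 34860065)) (BT.leaf (nat_lit 35270665)))) (BT.node (nat_lit 10077639) (BT.node (nat_lit 10077632) (BT.leaf (nat_lit 39314969)) (BT.leaf (nat_lit 38851865))) (BT.node (nat_lit 10077696) (BT.leaf (nat_lit 644492)) (BT.leaf (nat_lit 35448861)))))))))) (BT.node (nat_lit 10087808) (BT.node (nat_lit 10082880) (BT.node (nat_lit 10080000) (BT.node (nat_lit 10078912) (BT.node (nat_lit 10078208) (BT.node (nat_lit 10078016) (BT.node (nat_lit 10077888) (BT.node (nat_lit 10077824) (BT.leaf (nat_lit 34756101)) (BT.leaf (nat_lit 34756105))) (BT.node (nat_lit 10077952) (BT.leaf (nat_lit 34756109)) (BT.leaf (nat_lit 38269713)))) (BT.node (nat_lit 10078087) (BT.node (nat_lit 10078080) (BT.leaf (nat_lit 34754321)) (BT.leaf (nat_lit 40525329))) (BT.node (nat_lit 10078144) (BT.leaf (nat_lit 646564)) (BT.leaf (nat_lit 34972165))))) (BT.node (nat_lit 10078592) (BT.node (nat_lit 10078336) (BT.node (nat_lit 10078272) (BT.leaf (nat_lit 34972169)) (BT.leaf (nat_lit 39402261))) (BT.node (nat_lit 10078464) (BT.leaf (nat_lit 35133213)) (BT.leaf (nat_lit 35116049)))) (BT.node (nat_lit 10078720) (BT.node (nat_lit 10078656) (BT.leaf (nat_lit 38388489)) (BT.leaf (nat_lit 34755345))) (BT.node (nat_lit 10078784) (BT.leaf (nat_lit 34755601)) (BT.leaf (nat_lit 38205717)))))) (BT.node (nat_lit 10079424) (BT.node (nat_lit 10079168) (BT.node (nat_lit 10079040) (BT.node (nat_lit 10078976) (BT.leaf (nat_lit 36553997)) (BT.leaf (nat_lit 36549897))) (BT.node (nat_lit 10079104) (BT.leaf (nat_lit 36549401)) (BT.leaf (nat_lit 34755605)))) (BT.node (nat_lit 10079296) (BT.node (nat_lit 10079232) (BT.leaf (nat_lit 36730641)) (BT.leaf (nat_lit 36730649))) (BT.node (nat_lit 10079360) (BT.leaf (nat_lit 35116053)) (BT.leaf (nat_lit 35116297))))) (BT.node (nat_lit 10079680) (BT.node (nat_lit 10079552) (BT.node (nat_lit 10079488) (BT.leaf (nat_lit 35116293)) (BT.leaf (nat_lit 35116057))) (BT.node (nat_lit 10079616) (BT.leaf (nat_lit 35116549)) (BT.leaf (nat_lit 34747405)))) (BT.node (nat_lit 10079872) (BT.node (nat_lit 10079744) (BT.leaf (nat_lit 34769437)) (BT.leaf (nat_lit 35444493))) (BT.node (nat_lit 10079936) (BT.leaf (nat_lit 38387981)) (BT.leaf (nat_lit 41466141))))))) (BT.node (nat_lit 10081408) (BT.node (nat_lit 10080576) (BT.node (nat_lit 10080064) (BT.node (nat_lit 10080002) (BT.node (nat_lit 10080001) (BT.leaf (nat_lit 41466129)) (BT.leaf (nat_lit 643540))) (BT.node (nat_lit 10080003) (BT.leaf (nat_lit 643540)) (BT.leaf (nat_lit 643540)))) (BT.node (nat_lit 10080256) (BT.node (nat_lit 10080128) (BT.leaf (nat_lit 35444485)) (BT.leaf (nat_lit 35444489))) (BT.node (nat_lit 10080448) (BT.leaf (nat_lit 35116305)) (BT.leaf (nat_lit 39326481))))) (BT.node (nat_lit 10081152) (BT.node (nat_lit 10081024) (BT.node (nat_lit 10080640) (BT.leaf (nat_lit 39326489)) (BT.leaf (nat_lit 39326493))) (BT.node (nat_lit 10081088) (BT.leaf (nat_lit 38387973)) (BT.leaf (nat_lit 38387989)))) (BT.node (nat_lit 10081280) (BT.node (nat_lit 10081216) (BT.leaf (nat_lit 38388001)) (BT.leaf (nat_lit 34759441))) (BT.node (nat_lit 10081344) (BT.leaf (nat_lit 35441925)) (BT.leaf (nat_lit 35441929)))))) (BT.node (nat_lit 10082240) (BT.node (nat_lit 10081920) (BT.node (nat_lit 10081664) (BT.node (nat_lit 10081472) (BT.leaf (nat_lit 35441681)) (BT.leaf (nat_lit 41579037))) (BT.node (nat_lit 10081728) (BT.leaf (nat_lit 41578009)) (BT.leaf (nat_lit 40161813)))) (BT.node (nat_lit 10082112) (BT.node (nat_lit 10082048) (BT.leaf (nat_lit 36553497)) (BT.leaf (nat_lit 36553989))) (BT.node (nat_lit 10082176) (BT.leaf (nat_lit 36553993)) (BT.leaf (nat_lit 34756637))))) (BT.node (nat_lit 10082496) (BT.node (nat_lit 10082368) (BT.node (nat_lit 10082304) (BT.leaf (nat_lit 36554017)) (BT.leaf (nat_lit 36554785))) (BT.node (nat_lit 10082432) (BT.leaf (nat_lit 36555025)) (BT.leaf (nat_lit 40173333)))) (BT.node (nat_lit 10082752) (BT.node (nat_lit 10082688) (BT.leaf (nat_lit 36555033)) (BT.leaf (nat_lit 36554769))) (BT.node (nat_lit 10082816) (BT.leaf (nat_lit 36554777)) (BT.leaf (nat_lit 36549913)))))))) (BT.node (nat_lit 10085824) (BT.node (nat_lit 10084355) (BT.node (nat_lit 10083968) (BT.node (nat_lit 10083648) (BT.node (nat_lit 10083008) (BT.node (nat_lit 10082944) (BT.leaf (nat_lit 34759445)) (BT.leaf (nat_lit 40046345))) (BT.node (nat_lit 10083328) (BT.leaf (nat_lit 40879629)) (BT.leaf (nat_lit 36481553)))) (BT.node (nat_lit 10083779) (BT.node (nat_lit 10083712) (BT.leaf (nat_lit 36481545)) (BT.leaf (nat_lit 36481561))) (BT.node (nat_lit 10083904) (BT.leaf (nat_lit 646260)) (BT.leaf (nat_lit 35116557))))) (BT.node (nat_lit 10084224) (BT.node (nat_lit 10084096) (BT.node (nat_lit 10084032) (BT.leaf (nat_lit 35116561)) (BT.leaf (nat_lit 35116569))) (BT.node (nat_lit 10084160) (BT.leaf (nat_lit 40365593)) (BT.leaf (nat_lit 35116577)))) (BT.node (nat_lit 10084353) (BT.node (nat_lit 10084288) (BT.leaf (nat_lit 37026825)) (BT.leaf (nat_lit 34758941))) (BT.node (nat_lit 10084354) (BT.leaf (nat_lit 646284)) (BT.leaf (nat_lit 646284)))))) (BT.node (nat_lit 10084928) (BT.node (nat_lit 10084672) (BT.node (nat_lit 10084416) (BT.node (nat_lit 10084359) (BT.leaf (nat_lit 646284)) (BT.leaf (nat_lit 646284))) (BT.node (nat_lit 10084608) (BT.leaf (nat_lit 35116317)) (BT.leaf (nat_lit 34760717)))) (BT.node (nat_lit 10084800) (BT.node (nat_lit 10084736) (BT.leaf (nat_lit 35848197)) (BT.leaf (nat_lit 41568285))) (BT.node (nat_lit 10084864) (BT.leaf (nat_lit 35848205)) (BT.leaf (nat_lit 35848209))))) (BT.node (nat_lit 10085312) (BT.node (nat_lit 10085056) (BT.node (nat_lit 10084992) (BT.leaf (nat_lit 35848213)) (BT.leaf (nat_lit 35848221))) (BT.node (nat_lit 10085184) (BT.leaf (nat_lit 35848225)) (BT.leaf (nat_lit 34760213)))) (BT.node (nat_lit 10085696) (BT.node (nat_lit 10085383) (BT.leaf (nat_lit 41172485)) (BT.leaf (nat_lit 635688))) (BT.node (nat_lit 10085760) (BT.leaf (nat_lit 34760721)) (BT.leaf (nat_lit 40710433))))))) (BT.node (nat_lit 10086917) (BT.node (nat_lit 10086464) (BT.node (nat_lit 10086080) (BT.node (nat_lit 10085952) (BT.node (nat_lit 10085888) (BT.leaf (nat_lit 38417425)) (BT.leaf (nat_lit 38417433))) (BT.node (nat_lit 10086016) (BT.leaf (nat_lit 38417437)) (BT.leaf (nat_lit 40710413)))) (BT.node (nat_lit 10086208) (BT.node (nat_lit 10086144) (BT.leaf (nat_lit 40710417)) (BT.leaf (nat_lit 40710425))) (BT.node (nat_lit 10086272) (BT.leaf (nat_lit 40710429)) (BT.leaf (nat_lit 39871253))))) (BT.node (nat_lit 10086791) (BT.node (nat_lit 10086787) (BT.node (nat_lit 10086720) (BT.leaf (nat_lit 41694733)) (BT.leaf (nat_lit 36708369))) (BT.node (nat_lit 10086790) (BT.leaf (nat_lit 652236)) (BT.leaf (nat_lit 652236)))) (BT.node (nat_lit 10086848) (BT.node (nat_lit 10086792) (BT.leaf (nat_lit 652236)) (BT.leaf (nat_lit 652236))) (BT.node (nat_lit 10086916) (BT.leaf (nat_lit 36708377)) (BT.leaf (nat_lit 652224)))))) (BT.node (nat_lit 10087040) (BT.node (nat_lit 10086980) (BT.node (nat_lit 10086919) (BT.node (nat_lit 10086918) (BT.leaf (nat_lit 652224)) (BT.leaf (nat_lit 652224))) (BT.node (nat_lit 10086979) (BT.leaf (nat_lit 652224)) (BT.leaf (nat_lit 652188)))) (BT.node (nat_lit 10086983) (BT.node (nat_lit 10086982) (BT.leaf (nat_lit 652188)) (BT.leaf (nat_lit 652188))) (BT.node (nat_lit 10086984) (BT.leaf (nat_lit 652188)) (BT.leaf (nat_lit 652188))))) (BT.node (nat_lit 10087296) (BT.node (nat_lit 10087168) (BT.node (nat_lit 10087104) (BT.leaf (nat_lit 41133849)) (BT.leaf (nat_lit 41133853))) (BT.node (nat_lit 10087232) (BT.leaf (nat_lit 36730889)) (BT.leaf (nat_lit 36730893)))) (BT.node (nat_lit 10087680) (BT.node (nat_lit 10087623) (BT.leaf (nat_lit 36730905)) (BT.leaf (nat_lit 646272))) (BT.node (nat_lit 10087744) (BT.leaf (nat_lit 34760481)) (BT.leaf (nat_lit 40531729))))))))) (BT.node (nat_lit 10093632) (BT.node (nat_lit 10090368) (BT.node (nat_lit 10089216) (BT.node (nat_lit 10088640) (BT.node (nat_lit 10088256) (BT.node (nat_lit 10087936) (BT.node (nat_lit 10087872) (BT.leaf (nat_lit 40531733)) (BT.leaf (nat_lit 40531741))) (BT.node (nat_lit 10088000) (BT.leaf (nat_lit 34760461)) (BT.leaf (nat_lit 35124505)))) (BT.node (nat_lit 10088512) (BT.node (nat_lit 10088384) (BT.leaf (nat_lit 34760725)) (BT.leaf (nat_lit 35138845))) (BT.node (nat_lit 10088576) (BT.leaf (nat_lit 38444573)) (BT.leaf (nat_lit 38445073))))) (BT.node (nat_lit 10088960) (BT.node (nat_lit 10088768) (BT.node (nat_lit 10088704) (BT.leaf (nat_lit 38444301)) (BT.leaf (nat_lit 37717773))) (BT.node (nat_lit 10088832) (BT.leaf (nat_lit 34762773)) (BT.leaf (nat_lit 38652437)))) (BT.node (nat_lit 10089088) (BT.node (nat_lit 10089024) (BT.leaf (nat_lit 34763029)) (BT.leaf (nat_lit 34144021))) (BT.node (nat_lit 10089152) (BT.leaf (nat_lit 40075797)) (BT.leaf (nat_lit 38652425)))))) (BT.node (nat_lit 10089856) (BT.node (nat_lit 10089536) (BT.node (nat_lit 10089344) (BT.node (nat_lit 10089280) (BT.leaf (nat_lit 38652429)) (BT.leaf (nat_lit 38652445))) (BT.node (nat_lit 10089408) (BT.leaf (nat_lit 34955805)) (BT.leaf (nat_lit 37840665)))) (BT.node (nat_lit 10089728) (BT.node (nat_lit 10089664) (BT.leaf (nat_lit 34764817)) (BT.leaf (nat_lit 34765081))) (BT.node (nat_lit 10089792) (BT.leaf (nat_lit 41105685)) (BT.leaf (nat_lit 34960657))))) (BT.node (nat_lit 10090112) (BT.node (nat_lit 10089984) (BT.node (nat_lit 10089920) (BT.leaf (nat_lit 34960925)) (BT.leaf (nat_lit 34960645))) (BT.node (nat_lit 10090048) (BT.leaf (nat_lit 34960649)) (BT.leaf (nat_lit 34960665)))) (BT.node (nat_lit 10090240) (BT.node (nat_lit 10090176) (BT.leaf (nat_lit 34960673)) (BT.leaf (nat_lit 39841041))) (BT.node (nat_lit 10090304) (BT.leaf (nat_lit 39841053)) (BT.leaf (nat_lit 40192529))))))) (BT.node (nat_lit 10091846) (BT.node (nat_lit 10091072) (BT.node (nat_lit 10090816) (BT.node (nat_lit 10090496) (BT.node (nat_lit 10090432) (BT.leaf (nat_lit 34139421)) (BT.leaf (nat_lit 34957837))) (BT.node (nat_lit 10090752) (BT.leaf (nat_lit 34957845)) (BT.leaf (nat_lit 39671057)))) (BT.node (nat_lit 10090944) (BT.node (nat_lit 10090880) (BT.leaf (nat_lit 39670805)) (BT.leaf (nat_lit 41357829))) (BT.node (nat_lit 10091008) (BT.leaf (nat_lit 41357833)) (BT.leaf (nat_lit 34766109))))) (BT.node (nat_lit 10091392) (BT.node (nat_lit 10091264) (BT.node (nat_lit 10091200) (BT.leaf (nat_lit 41357857)) (BT.leaf (nat_lit 38820109))) (BT.node (nat_lit 10091328) (BT.leaf (nat_lit 38444305)) (BT.leaf (nat_lit 38444293)))) (BT.node (nat_lit 10091520) (BT.node (nat_lit 10091456) (BT.leaf (nat_lit 39286293)) (BT.leaf (nat_lit 38444309))) (BT.node (nat_lit 10091648) (BT.leaf (nat_lit 37717277)) (BT.leaf (nat_lit 40332037)))))) (BT.node (nat_lit 10092608) (BT.node (nat_lit 10092352) (BT.node (nat_lit 10092160) (BT.node (nat_lit 10091974) (BT.leaf (nat_lit 638808)) (BT.leaf (nat_lit 638832))) (BT.node (nat_lit 10092288) (BT.leaf (nat_lit 34766869)) (BT.leaf (nat_lit 34767125)))) (BT.node (nat_lit 10092480) (BT.node (nat_lit 10092416) (BT.leaf (nat_lit 38386181)) (BT.leaf (nat_lit 38386185))) (BT.node (nat_lit 10092544) (BT.leaf (nat_lit 41157921)) (BT.leaf (nat_lit 41577749))))) (BT.node (nat_lit 10093184) (BT.node (nat_lit 10092800) (BT.node (nat_lit 10092612) (BT.leaf (nat_lit 41181717)) (BT.leaf (nat_lit 638828))) (BT.node (nat_lit 10093120) (BT.leaf (nat_lit 34766877)) (BT.leaf (nat_lit 34766865)))) (BT.node (nat_lit 10093440) (BT.node (nat_lit 10093376) (BT.leaf (nat_lit 36552481)) (BT.leaf (nat_lit 41014277))) (BT.node (nat_lit 10093504) (BT.leaf (nat_lit 41014281)) (BT.leaf (nat_lit 34767133)))))))) (BT.node (nat_lit 10095936) (BT.node (nat_lit 10094976) (BT.node (nat_lit 10094208) (BT.node (nat_lit 10093952) (BT.node (nat_lit 10093760) (BT.node (nat_lit 10093696) (BT.leaf (nat_lit 36548877)) (BT.leaf (nat_lit 36548881))) (BT.node (nat_lit 10093888) (BT.leaf (nat_lit 36548885)) (BT.leaf (nat_lit 36548893)))) (BT.node (nat_lit 10094080) (BT.node (nat_lit 10094016) (BT.leaf (nat_lit 36551685)) (BT.leaf (nat_lit 36552209))) (BT.node (nat_lit 10094144) (BT.leaf (nat_lit 36552213)) (BT.leaf (nat_lit 36552217))))) (BT.node (nat_lit 10094656) (BT.node (nat_lit 10094528) (BT.node (nat_lit 10094464) (BT.leaf (nat_lit 41285641)) (BT.leaf (nat_lit 34121993))) (BT.node (nat_lit 10094592) (BT.leaf (nat_lit 34121989)) (BT.leaf (nat_lit 40075533)))) (BT.node (nat_lit 10094848) (BT.node (nat_lit 10094784) (BT.leaf (nat_lit 40080661)) (BT.leaf (nat_lit 34122009))) (BT.node (nat_lit 10094912) (BT.leaf (nat_lit 40075525)) (BT.leaf (nat_lit 40075529)))))) (BT.node (nat_lit 10095431) (BT.node (nat_lit 10095232) (BT.node (nat_lit 10095104) (BT.node (nat_lit 10095040) (BT.leaf (nat_lit 34819857)) (BT.leaf (nat_lit 34767885))) (BT.node (nat_lit 10095168) (BT.leaf (nat_lit 38103841)) (BT.leaf (nat_lit 34895889)))) (BT.node (nat_lit 10095360) (BT.node (nat_lit 10095296) (BT.leaf (nat_lit 40962069)) (BT.leaf (nat_lit 34895897))) (BT.node (nat_lit 10095424) (BT.leaf (nat_lit 38103821)) (BT.leaf (nat_lit 35037193))))) (BT.node (nat_lit 10095680) (BT.node (nat_lit 10095552) (BT.node (nat_lit 10095488) (BT.leaf (nat_lit 637020)) (BT.leaf (nat_lit 34789641))) (BT.node (nat_lit 10095616) (BT.leaf (nat_lit 34767385)) (BT.leaf (nat_lit 34789653)))) (BT.node (nat_lit 10095808) (BT.node (nat_lit 10095744) (BT.leaf (nat_lit 34767897)) (BT.leaf (nat_lit 39502097))) (BT.node (nat_lit 10095872) (BT.leaf (nat_lit 39502105)) (BT.leaf (nat_lit 34810897))))))) (BT.node (nat_lit 10097216) (BT.node (nat_lit 10096704) (BT.node (nat_lit 10096256) (BT.node (nat_lit 10096064) (BT.node (nat_lit 10096000) (BT.leaf (nat_lit 38977301)) (BT.leaf (nat_lit 35143453))) (BT.node (nat_lit 10096128) (BT.leaf (nat_lit 34771469)) (BT.leaf (nat_lit 40077333)))) (BT.node (nat_lit 10096512) (BT.node (nat_lit 10096384) (BT.leaf (nat_lit 34771745)) (BT.leaf (nat_lit 41247001))) (BT.node (nat_lit 10096576) (BT.leaf (nat_lit 34771725)) (BT.leaf (nat_lit 34771981))))) (BT.node (nat_lit 10096960) (BT.node (nat_lit 10096832) (BT.node (nat_lit 10096768) (BT.leaf (nat_lit 34865429)) (BT.leaf (nat_lit 34865413))) (BT.node (nat_lit 10096896) (BT.leaf (nat_lit 34774289)) (BT.leaf (nat_lit 38361353)))) (BT.node (nat_lit 10097088) (BT.node (nat_lit 10097024) (BT.leaf (nat_lit 35022365)) (BT.leaf (nat_lit 34909713))) (BT.node (nat_lit 10097152) (BT.leaf (nat_lit 34909721)) (BT.leaf (nat_lit 34853141)))))) (BT.node (nat_lit 10097792) (BT.node (nat_lit 10097472) (BT.node (nat_lit 10097344) (BT.node (nat_lit 10097280) (BT.leaf (nat_lit 34774297)) (BT.leaf (nat_lit 38481441))) (BT.node (nat_lit 10097408) (BT.leaf (nat_lit 38481169)) (BT.leaf (nat_lit 38481177)))) (BT.node (nat_lit 10097600) (BT.node (nat_lit 10097536) (BT.leaf (nat_lit 38481181)) (BT.leaf (nat_lit 34774541))) (BT.node (nat_lit 10097664) (BT.leaf (nat_lit 34774797)) (BT.leaf (nat_lit 34898977))))) (BT.node (nat_lit 10097987) (BT.node (nat_lit 10097920) (BT.node (nat_lit 10097856) (BT.leaf (nat_lit 38480153)) (BT.leaf (nat_lit 34898181))) (BT.node (nat_lit 10097984) (BT.leaf (nat_lit 34898185)) (BT.leaf (nat_lit 34898957)))) (BT.node (nat_lit 10098048) (BT.node (nat_lit 10097991) (BT.leaf (nat_lit 637592)) (BT.leaf (nat_lit 634828))) (BT.node (nat_lit 10098112) (BT.leaf (nat_lit 35022349)) (BT.leaf (nat_lit 37771525)))))))))))))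
noncomputable def e1_e55296 : BT Nat := (BT.node (nat_lit 10181120) (BT.node (nat_lit 10139648) (BT.node (nat_lit 10118144) (BT.node (nat_lit 10108352) (BT.node (nat_lit 10102656) (BT.node (nat_lit 10100672) (BT.node (nat_lit 10099520) (BT.node (nat_lit 10098880) (BT.node (nat_lit 10098432) (BT.node (nat_lit 10098304) (BT.node (nat_lit 10098240) (BT.leaf (nat_lit 37771529)) (BT.leaf (nat_lit 35022357))) (BT.node (nat_lit 10098368) (BT.leaf (nat_lit 37771537)) (BT.leaf (nat_lit 37771545)))) (BT.node (nat_lit 10098624) (BT.node (nat_lit 10098560) (BT.leaf (nat_lit 39321621)) (BT.leaf (nat_lit 38482969))) (BT.node (nat_lit 10098816) (BT.leaf (nat_lit 37771797)) (BT.leaf (nat_lit 34776341))))) (BT.node (nat_lit 10099136) (BT.node (nat_lit 10099008) (BT.node (nat_lit 10098944) (BT.leaf (nat_lit 35540741)) (BT.leaf (nat_lit 35540745))) (BT.node (nat_lit 10099072) (BT.leaf (nat_lit 35540749)) (BT.leaf (nat_lit 35540757)))) (BT.node (nat_lit 10099392) (BT.node (nat_lit 10099328) (BT.leaf (nat_lit 35152401)) (BT.leaf (nat_lit 34776349))) (BT.node (nat_lit 10099456) (BT.leaf (nat_lit 39520285)) (BT.leaf (nat_lit 35152393)))))) (BT.node (nat_lit 10100096) (BT.node (nat_lit 10099776) (BT.node (nat_lit 10099648) (BT.node (nat_lit 10099584) (BT.leaf (nat_lit 35152397)) (BT.leaf (nat_lit 35152405))) (BT.node (nat_lit 10099712) (BT.leaf (nat_lit 35152669)) (BT.leaf (nat_lit 35152417)))) (BT.node (nat_lit 10099968) (BT.node (nat_lit 10099783) (BT.leaf (nat_lit 34700297)) (BT.leaf (nat_lit 647216))) (BT.node (nat_lit 10100032) (BT.leaf (nat_lit 34777877)) (BT.leaf (nat_lit 38438917))))) (BT.node (nat_lit 10100416) (BT.node (nat_lit 10100224) (BT.node (nat_lit 10100160) (BT.leaf (nat_lit 38438921)) (BT.leaf (nat_lit 38438925))) (BT.node (nat_lit 10100352) (BT.leaf (nat_lit 38499333)) (BT.leaf (nat_lit 34777885)))) (BT.node (nat_lit 10100544) (BT.node (nat_lit 10100480) (BT.leaf (nat_lit 39480837)) (BT.leaf (nat_lit 39480841))) (BT.node (nat_lit 10100608) (BT.leaf (nat_lit 40050201)) (BT.leaf (nat_lit 39480853))))))) (BT.node (nat_lit 10101253) (BT.node (nat_lit 10101184) (BT.node (nat_lit 10100928) (BT.node (nat_lit 10100800) (BT.node (nat_lit 10100736) (BT.leaf (nat_lit 40907805)) (BT.leaf (nat_lit 39480865))) (BT.node (nat_lit 10100864) (BT.leaf (nat_lit 41340165)) (BT.leaf (nat_lit 41340169)))) (BT.node (nat_lit 10101056) (BT.node (nat_lit 10100992) (BT.leaf (nat_lit 41340173)) (BT.leaf (nat_lit 41340181))) (BT.node (nat_lit 10101120) (BT.leaf (nat_lit 34779409)) (BT.leaf (nat_lit 34779665))))) (BT.node (nat_lit 10101191) (BT.node (nat_lit 10101188) (BT.node (nat_lit 10101187) (BT.leaf (nat_lit 35266841)) (BT.leaf (nat_lit 644424))) (BT.node (nat_lit 10101189) (BT.leaf (nat_lit 644424)) (BT.leaf (nat_lit 644424)))) (BT.node (nat_lit 10101251) (BT.node (nat_lit 10101192) (BT.leaf (nat_lit 644424)) (BT.leaf (nat_lit 644424))) (BT.node (nat_lit 10101252) (BT.leaf (nat_lit 644432)) (BT.leaf (nat_lit 644432)))))) (BT.node (nat_lit 10101952) (BT.node (nat_lit 10101568) (BT.node (nat_lit 10101256) (BT.node (nat_lit 10101255) (BT.leaf (nat_lit 644432)) (BT.leaf (nat_lit 644432))) (BT.node (nat_lit 10101504) (BT.leaf (nat_lit 644432)) (BT.leaf (nat_lit 41581337)))) (BT.node (nat_lit 10101824) (BT.node (nat_lit 10101760) (BT.leaf (nat_lit 40448289)) (BT.leaf (nat_lit 34780957))) (BT.node (nat_lit 10101888) (BT.leaf (nat_lit 40093729)) (BT.leaf (nat_lit 39101469))))) (BT.node (nat_lit 10102592) (BT.node (nat_lit 10102080) (BT.node (nat_lit 10102016) (BT.leaf (nat_lit 37000197)) (BT.leaf (nat_lit 37000201))) (BT.node (nat_lit 10102272) (BT.leaf (nat_lit 37000205)) (BT.leaf (nat_lit 34782485)))) (BT.node (nat_lit 10102596) (BT.node (nat_lit 10102593) (BT.leaf (nat_lit 34782493)) (BT.leaf (nat_lit 640688))) (BT.node (nat_lit 10102598) (BT.leaf (nat_lit 640688)) (BT.leaf (nat_lit 640688)))))))) (BT.node (nat_lit 10106176) (BT.node (nat_lit 10104768) (BT.node (nat_lit 10103552) (BT.node (nat_lit 10102912) (BT.node (nat_lit 10102784) (BT.node (nat_lit 10102720) (BT.leaf (nat_lit 38181381)) (BT.leaf (nat_lit 40971805))) (BT.node (nat_lit 10102848) (BT.leaf (nat_lit 37001221)) (BT.leaf (nat_lit 40881673)))) (BT.node (nat_lit 10103367) (BT.node (nat_lit 10103296) (BT.leaf (nat_lit 34518801)) (BT.leaf (nat_lit 34782989))) (BT.node (nat_lit 10103488) (BT.leaf (nat_lit 642208)) (BT.leaf (nat_lit 38182673))))) (BT.node (nat_lit 10104448) (BT.node (nat_lit 10103680) (BT.node (nat_lit 10103616) (BT.leaf (nat_lit 41540893)) (BT.leaf (nat_lit 40074773))) (BT.node (nat_lit 10104384) (BT.leaf (nat_lit 40089109)) (BT.leaf (nat_lit 35597593)))) (BT.node (nat_lit 10104640) (BT.node (nat_lit 10104576) (BT.leaf (nat_lit 35160097)) (BT.leaf (nat_lit 35821085))) (BT.node (nat_lit 10104704) (BT.leaf (nat_lit 34796309)) (BT.leaf (nat_lit 36313885)))))) (BT.node (nat_lit 10105664) (BT.node (nat_lit 10105216) (BT.node (nat_lit 10105088) (BT.node (nat_lit 10104960) (BT.leaf (nat_lit 37920521)) (BT.leaf (nat_lit 34786325))) (BT.node (nat_lit 10105152) (BT.leaf (nat_lit 34786837)) (BT.leaf (nat_lit 34784541)))) (BT.node (nat_lit 10105536) (BT.node (nat_lit 10105280) (BT.leaf (nat_lit 39140889)) (BT.leaf (nat_lit 39140897))) (BT.node (nat_lit 10105600) (BT.leaf (nat_lit 40748569)) (BT.leaf (nat_lit 40746265))))) (BT.node (nat_lit 10105920) (BT.node (nat_lit 10105792) (BT.node (nat_lit 10105728) (BT.leaf (nat_lit 36918049)) (BT.leaf (nat_lit 34990877))) (BT.node (nat_lit 10105856) (BT.leaf (nat_lit 38183965)) (BT.leaf (nat_lit 39942941)))) (BT.node (nat_lit 10106048) (BT.node (nat_lit 10105984) (BT.leaf (nat_lit 35897101)) (BT.leaf (nat_lit 35897105))) (BT.node (nat_lit 10106112) (BT.leaf (nat_lit 35897113)) (BT.leaf (nat_lit 35897117))))))) (BT.node (nat_lit 10107264) (BT.node (nat_lit 10106688) (BT.node (nat_lit 10106432) (BT.node (nat_lit 10106304) (BT.node (nat_lit 10106240) (BT.leaf (nat_lit 35897121)) (BT.leaf (nat_lit 35158549))) (BT.node (nat_lit 10106368) (BT.leaf (nat_lit 35158553)) (BT.leaf (nat_lit 35158557)))) (BT.node (nat_lit 10106560) (BT.node (nat_lit 10106496) (BT.leaf (nat_lit 40043785)) (BT.leaf (nat_lit 40043781))) (BT.node (nat_lit 10106624) (BT.leaf (nat_lit 40067853)) (BT.leaf (nat_lit 34518545))))) (BT.node (nat_lit 10107008) (BT.node (nat_lit 10106816) (BT.node (nat_lit 10106752) (BT.leaf (nat_lit 38292245)) (BT.leaf (nat_lit 38292253))) (BT.node (nat_lit 10106880) (BT.leaf (nat_lit 38181637)) (BT.leaf (nat_lit 38181641)))) (BT.node (nat_lit 10107136) (BT.node (nat_lit 10107072) (BT.leaf (nat_lit 38566165)) (BT.leaf (nat_lit 38566173))) (BT.node (nat_lit 10107200) (BT.leaf (nat_lit 39819029)) (BT.leaf (nat_lit 40053261)))))) (BT.node (nat_lit 10107776) (BT.node (nat_lit 10107584) (BT.node (nat_lit 10107456) (BT.node (nat_lit 10107392) (BT.leaf (nat_lit 34793989)) (BT.leaf (nat_lit 35880729))) (BT.node (nat_lit 10107520) (BT.leaf (nat_lit 40557085)) (BT.leaf (nat_lit 40557597)))) (BT.node (nat_lit 10107651) (BT.node (nat_lit 10107648) (BT.leaf (nat_lit 35879969)) (BT.leaf (nat_lit 35160861))) (BT.node (nat_lit 10107656) (BT.leaf (nat_lit 631744)) (BT.leaf (nat_lit 631744))))) (BT.node (nat_lit 10108096) (BT.node (nat_lit 10107968) (BT.node (nat_lit 10107840) (BT.leaf (nat_lit 40564761)) (BT.leaf (nat_lit 40564765))) (BT.node (nat_lit 10108032) (BT.leaf (nat_lit 35879961)) (BT.leaf (nat_lit 37791001)))) (BT.node (nat_lit 10108230) (BT.node (nat_lit 10108224) (BT.leaf (nat_lit 38181893)) (BT.leaf (nat_lit 35163653))) (BT.node (nat_lit 10108288) (BT.leaf (nat_lit 640604)) (BT.leaf (nat_lit 35163937))))))))) (BT.node (nat_lit 10113603) (BT.node (nat_lit 10110976) (BT.node (nat_lit 10109888) (BT.node (nat_lit 10109184) (BT.node (nat_lit 10108608) (BT.node (nat_lit 10108480) (BT.node (nat_lit 10108416) (BT.leaf (nat_lit 37798417)) (BT.leaf (nat_lit 38181385))) (BT.node (nat_lit 10108544) (BT.leaf (nat_lit 37798429)) (BT.leaf (nat_lit 38415889)))) (BT.node (nat_lit 10108800) (BT.node (nat_lit 10108672) (BT.leaf (nat_lit 40063757)) (BT.leaf (nat_lit 40057113))) (BT.node (nat_lit 10109056) (BT.leaf (nat_lit 35073821)) (BT.leaf (nat_lit 40265485))))) (BT.node (nat_lit 10109568) (BT.node (nat_lit 10109440) (BT.node (nat_lit 10109376) (BT.leaf (nat_lit 34789153)) (BT.leaf (nat_lit 40735257))) (BT.node (nat_lit 10109504) (BT.leaf (nat_lit 40735261)) (BT.leaf (nat_lit 40735265)))) (BT.node (nat_lit 10109760) (BT.node (nat_lit 10109696) (BT.leaf (nat_lit 40685321)) (BT.leaf (nat_lit 38241809))) (BT.node (nat_lit 10109824) (BT.leaf (nat_lit 35633937)) (BT.leaf (nat_lit 35635717)))))) (BT.node (nat_lit 10110400) (BT.node (nat_lit 10110144) (BT.node (nat_lit 10110016) (BT.node (nat_lit 10109952) (BT.leaf (nat_lit 35635721)) (BT.leaf (nat_lit 35635737))) (BT.node (nat_lit 10110080) (BT.leaf (nat_lit 38102801)) (BT.leaf (nat_lit 38102809)))) (BT.node (nat_lit 10110272) (BT.node (nat_lit 10110208) (BT.leaf (nat_lit 35633941)) (BT.leaf (nat_lit 35633925))) (BT.node (nat_lit 10110336) (BT.leaf (nat_lit 35633929)) (BT.leaf (nat_lit 35634205))))) (BT.node (nat_lit 10110720) (BT.node (nat_lit 10110592) (BT.node (nat_lit 10110464) (BT.leaf (nat_lit 37786637)) (BT.leaf (nat_lit 37786641))) (BT.node (nat_lit 10110656) (BT.leaf (nat_lit 37786653)) (BT.leaf (nat_lit 37786657)))) (BT.node (nat_lit 10110848) (BT.node (nat_lit 10110784) (BT.leaf (nat_lit 35634181)) (BT.leaf (nat_lit 35634185))) (BT.node (nat_lit 10110912) (BT.leaf (nat_lit 35634197)) (BT.leaf (nat_lit 35634209))))))) (BT.node (nat_lit 10112320) (BT.node (nat_lit 10111488) (BT.node (nat_lit 10111299) (BT.node (nat_lit 10111168) (BT.node (nat_lit 10111048) (BT.leaf (nat_lit 37010445)) (BT.leaf (nat_lit 632000))) (BT.node (nat_lit 10111232) (BT.leaf (nat_lit 37010461)) (BT.leaf (nat_lit 40732701)))) (BT.node (nat_lit 10111360) (BT.node (nat_lit 10111304) (BT.leaf (nat_lit 632012)) (BT.leaf (nat_lit 632012))) (BT.node (nat_lit 10111424) (BT.leaf (nat_lit 35107077)) (BT.leaf (nat_lit 35041561))))) (BT.node (nat_lit 10112000) (BT.node (nat_lit 10111744) (BT.node (nat_lit 10111680) (BT.leaf (nat_lit 35041565)) (BT.leaf (nat_lit 41543181))) (BT.node (nat_lit 10111808) (BT.leaf (nat_lit 41543197)) (BT.leaf (nat_lit 34791185)))) (BT.node (nat_lit 10112128) (BT.node (nat_lit 10112064) (BT.leaf (nat_lit 34790677)) (BT.leaf (nat_lit 37754633))) (BT.node (nat_lit 10112192) (BT.leaf (nat_lit 41543709)) (BT.leaf (nat_lit 34791189)))))) (BT.node (nat_lit 10113024) (BT.node (nat_lit 10112704) (BT.node (nat_lit 10112576) (BT.node (nat_lit 10112512) (BT.leaf (nat_lit 34790681)) (BT.leaf (nat_lit 34791193))) (BT.node (nat_lit 10112640) (BT.leaf (nat_lit 34791685)) (BT.leaf (nat_lit 34791689)))) (BT.node (nat_lit 10112832) (BT.node (nat_lit 10112768) (BT.leaf (nat_lit 34791693)) (BT.leaf (nat_lit 34791705))) (BT.node (nat_lit 10112896) (BT.leaf (nat_lit 40732689)) (BT.leaf (nat_lit 34791713))))) (BT.node (nat_lit 10113280) (BT.node (nat_lit 10113152) (BT.node (nat_lit 10113088) (BT.leaf (nat_lit 40732677)) (BT.leaf (nat_lit 40732681))) (BT.node (nat_lit 10113216) (BT.leaf (nat_lit 40732685)) (BT.leaf (nat_lit 40732705)))) (BT.node (nat_lit 10113536) (BT.node (nat_lit 10113472) (BT.leaf (nat_lit 40083461)) (BT.leaf (nat_lit 35107093))) (BT.node (nat_lit 10113601) (BT.leaf (nat_lit 35107101)) (BT.leaf (nat_lit 646928)))))))) (BT.node (nat_lit 10115840) (BT.node (nat_lit 10114432) (BT.node (nat_lit 10113856) (BT.node (nat_lit 10113730) (BT.node (nat_lit 10113664) (BT.node (nat_lit 10113608) (BT.leaf (nat_lit 646928)) (BT.leaf (nat_lit 646928))) (BT.node (nat_lit 10113729) (BT.leaf (nat_lit 35853577)) (BT.leaf (nat_lit 646924)))) (BT.node (nat_lit 10113796) (BT.node (nat_lit 10113736) (BT.leaf (nat_lit 646924)) (BT.leaf (nat_lit 646924))) (BT.node (nat_lit 10113798) (BT.leaf (nat_lit 644260)) (BT.leaf (nat_lit 644260))))) (BT.node (nat_lit 10114176) (BT.node (nat_lit 10113984) (BT.node (nat_lit 10113920) (BT.leaf (nat_lit 34791953)) (BT.leaf (nat_lit 35478033))) (BT.node (nat_lit 10114048) (BT.leaf (nat_lit 34794773)) (BT.leaf (nat_lit 35883805)))) (BT.node (nat_lit 10114304) (BT.node (nat_lit 10114240) (BT.leaf (nat_lit 34792465)) (BT.leaf (nat_lit 34770705))) (BT.node (nat_lit 10114368) (BT.leaf (nat_lit 34991645)) (BT.leaf (nat_lit 35553801)))))) (BT.node (nat_lit 10115200) (BT.node (nat_lit 10114688) (BT.node (nat_lit 10114560) (BT.node (nat_lit 10114496) (BT.leaf (nat_lit 34792985)) (BT.leaf (nat_lit 35553813))) (BT.node (nat_lit 10114624) (BT.leaf (nat_lit 35553821)) (BT.leaf (nat_lit 40093709)))) (BT.node (nat_lit 10115072) (BT.node (nat_lit 10114816) (BT.leaf (nat_lit 41540637)) (BT.leaf (nat_lit 40091909))) (BT.node (nat_lit 10115136) (BT.leaf (nat_lit 39152929)) (BT.leaf (nat_lit 39152905))))) (BT.node (nat_lit 10115520) (BT.node (nat_lit 10115392) (BT.node (nat_lit 10115328) (BT.leaf (nat_lit 39152901)) (BT.leaf (nat_lit 35287317))) (BT.node (nat_lit 10115456) (BT.leaf (nat_lit 35287301)) (BT.leaf (nat_lit 35287305)))) (BT.node (nat_lit 10115648) (BT.node (nat_lit 10115584) (BT.leaf (nat_lit 40095005)) (BT.leaf (nat_lit 34794517))) (BT.node (nat_lit 10115712) (BT.leaf (nat_lit 35544857)) (BT.leaf (nat_lit 34795029))))))) (BT.node (nat_lit 10116864) (BT.node (nat_lit 10116288) (BT.node (nat_lit 10116096) (BT.node (nat_lit 10115968) (BT.node (nat_lit 10115904) (BT.leaf (nat_lit 34796301)) (BT.leaf (nat_lit 34795553))) (BT.node (nat_lit 10116032) (BT.leaf (nat_lit 35614737)) (BT.leaf (nat_lit 35614745)))) (BT.node (nat_lit 10116224) (BT.node (nat_lit 10116160) (BT.leaf (nat_lit 34795533)) (BT.leaf (nat_lit 39510533))) (BT.node (nat_lit 10116230) (BT.leaf (nat_lit 39510537)) (BT.leaf (nat_lit 634240))))) (BT.node (nat_lit 10116608) (BT.node (nat_lit 10116416) (BT.node (nat_lit 10116352) (BT.leaf (nat_lit 34796829)) (BT.leaf (nat_lit 34797085))) (BT.node (nat_lit 10116480) (BT.leaf (nat_lit 39510561)) (BT.leaf (nat_lit 34797341)))) (BT.node (nat_lit 10116736) (BT.node (nat_lit 10116672) (BT.leaf (nat_lit 39624221)) (BT.leaf (nat_lit 39623197))) (BT.node (nat_lit 10116800) (BT.leaf (nat_lit 38466077)) (BT.leaf (nat_lit 34797597)))))) (BT.node (nat_lit 10117632) (BT.node (nat_lit 10117248) (BT.node (nat_lit 10117056) (BT.node (nat_lit 10116928) (BT.leaf (nat_lit 39153173)) (BT.leaf (nat_lit 39153181))) (BT.node (nat_lit 10117120) (BT.leaf (nat_lit 39314449)) (BT.leaf (nat_lit 38441761)))) (BT.node (nat_lit 10117504) (BT.node (nat_lit 10117312) (BT.leaf (nat_lit 35061533)) (BT.leaf (nat_lit 34966037))) (BT.node (nat_lit 10117568) (BT.leaf (nat_lit 40624925)) (BT.leaf (nat_lit 40870921))))) (BT.node (nat_lit 10117888) (BT.node (nat_lit 10117760) (BT.node (nat_lit 10117696) (BT.leaf (nat_lit 40670217)) (BT.leaf (nat_lit 39322901))) (BT.node (nat_lit 10117824) (BT.leaf (nat_lit 39285521)) (BT.leaf (nat_lit 39285525)))) (BT.node (nat_lit 10118016) (BT.node (nat_lit 10117952) (BT.leaf (nat_lit 36428305)) (BT.leaf (nat_lit 36428317))) (BT.node (nat_lit 10118080) (BT.leaf (nat_lit 39532825)) (BT.leaf (nat_lit 34800389)))))))))) (BT.node (nat_lit 10128064) (BT.node (nat_lit 10123264) (BT.node (nat_lit 10120640) (BT.node (nat_lit 10119488) (BT.node (nat_lit 10118976) (BT.node (nat_lit 10118400) (BT.node (nat_lit 10118272) (BT.node (nat_lit 10118208) (BT.leaf (nat_lit 39001097)) (BT.leaf (nat_lit 35626005))) (BT.node (nat_lit 10118336) (BT.leaf (nat_lit 35022621)) (BT.leaf (nat_lit 40580101)))) (BT.node (nat_lit 10118784) (BT.node (nat_lit 10118592) (BT.leaf (nat_lit 34801181)) (BT.leaf (nat_lit 40573717))) (BT.node (nat_lit 10118912) (BT.leaf (nat_lit 38295045)) (BT.leaf (nat_lit 37706501))))) (BT.node (nat_lit 10119232) (BT.node (nat_lit 10119104) (BT.node (nat_lit 10119040) (BT.leaf (nat_lit 35271953)) (BT.leaf (nat_lit 40631045))) (BT.node (nat_lit 10119168) (BT.leaf (nat_lit 35271965)) (BT.leaf (nat_lit 40579873)))) (BT.node (nat_lit 10119360) (BT.node (nat_lit 10119296) (BT.leaf (nat_lit 40574741)) (BT.leaf (nat_lit 35895301))) (BT.node (nat_lit 10119424) (BT.leaf (nat_lit 40574749)) (BT.leaf (nat_lit 41112081)))))) (BT.node (nat_lit 10120064) (BT.node (nat_lit 10119808) (BT.node (nat_lit 10119680) (BT.node (nat_lit 10119616) (BT.leaf (nat_lit 34801441)) (BT.leaf (nat_lit 38360337))) (BT.node (nat_lit 10119744) (BT.leaf (nat_lit 41287429)) (BT.leaf (nat_lit 41287457)))) (BT.node (nat_lit 10119936) (BT.node (nat_lit 10119872) (BT.leaf (nat_lit 41287197)) (BT.leaf (nat_lit 41287433))) (BT.node (nat_lit 10120000) (BT.leaf (nat_lit 40483353)) (BT.leaf (nat_lit 40567565))))) (BT.node (nat_lit 10120320) (BT.node (nat_lit 10120192) (BT.node (nat_lit 10120128) (BT.leaf (nat_lit 41064217)) (BT.leaf (nat_lit 34802197))) (BT.node (nat_lit 10120256) (BT.leaf (nat_lit 35926817)) (BT.leaf (nat_lit 34832409)))) (BT.node (nat_lit 10120448) (BT.node (nat_lit 10120384) (BT.leaf (nat_lit 35804693)) (BT.leaf (nat_lit 41497605))) (BT.node (nat_lit 10120576) (BT.leaf (nat_lit 41500445)) (BT.leaf (nat_lit 41505029))))))) (BT.node (nat_lit 10122112) (BT.node (nat_lit 10121216) (BT.node (nat_lit 10120896) (BT.node (nat_lit 10120768) (BT.node (nat_lit 10120704) (BT.leaf (nat_lit 41505033)) (BT.leaf (nat_lit 41505049))) (BT.node (nat_lit 10120832) (BT.leaf (nat_lit 34802965)) (BT.leaf (nat_lit 38111237)))) (BT.node (nat_lit 10121024) (BT.node (nat_lit 10120960) (BT.leaf (nat_lit 40790805)) (BT.leaf (nat_lit 40670493))) (BT.node (nat_lit 10121088) (BT.leaf (nat_lit 39135513)) (BT.leaf (nat_lit 34802453))))) (BT.node (nat_lit 10121600) (BT.node (nat_lit 10121472) (BT.node (nat_lit 10121408) (BT.leaf (nat_lit 34846229)) (BT.leaf (nat_lit 34457873))) (BT.node (nat_lit 10121536) (BT.leaf (nat_lit 39271449)) (BT.leaf (nat_lit 39191829)))) (BT.node (nat_lit 10121728) (BT.node (nat_lit 10121664) (BT.leaf (nat_lit 39191561)) (BT.leaf (nat_lit 38432541))) (BT.node (nat_lit 10122050) (BT.leaf (nat_lit 39191585)) (BT.leaf (nat_lit 637856)))))) (BT.node (nat_lit 10122624) (BT.node (nat_lit 10122368) (BT.node (nat_lit 10122240) (BT.node (nat_lit 10122176) (BT.leaf (nat_lit 38432517)) (BT.leaf (nat_lit 38432521))) (BT.node (nat_lit 10122304) (BT.leaf (nat_lit 34771481)) (BT.leaf (nat_lit 38432533)))) (BT.node (nat_lit 10122496) (BT.node (nat_lit 10122432) (BT.leaf (nat_lit 38432545)) (BT.leaf (nat_lit 34771489))) (BT.node (nat_lit 10122560) (BT.leaf (nat_lit 39318553)) (BT.leaf (nat_lit 35926789))))) (BT.node (nat_lit 10122944) (BT.node (nat_lit 10122816) (BT.node (nat_lit 10122688) (BT.leaf (nat_lit 35926801)) (BT.leaf (nat_lit 35926809))) (BT.node (nat_lit 10122880) (BT.leaf (nat_lit 36312585)) (BT.leaf (nat_lit 36312589)))) (BT.node (nat_lit 10123136) (BT.node (nat_lit 10123008) (BT.leaf (nat_lit 36312597)) (BT.leaf (nat_lit 35752209))) (BT.node (nat_lit 10123200) (BT.leaf (nat_lit 35752221)) (BT.leaf (nat_lit 38351621)))))))) (BT.node (nat_lit 10125120) (BT.node (nat_lit 10124032) (BT.node (nat_lit 10123520) (BT.node (nat_lit 10123334) (BT.node (nat_lit 10123331) (BT.node (nat_lit 10123328) (BT.leaf (nat_lit 38351625)) (BT.leaf (nat_lit 40953369))) (BT.node (nat_lit 10123333) (BT.leaf (nat_lit 642816)) (BT.leaf (nat_lit 642816)))) (BT.node (nat_lit 10123336) (BT.node (nat_lit 10123335) (BT.leaf (nat_lit 642816)) (BT.leaf (nat_lit 642816))) (BT.node (nat_lit 10123456) (BT.leaf (nat_lit 642816)) (BT.leaf (nat_lit 34804765))))) (BT.node (nat_lit 10123776) (BT.node (nat_lit 10123648) (BT.node (nat_lit 10123584) (BT.leaf (nat_lit 34805021)) (BT.leaf (nat_lit 38351389))) (BT.node (nat_lit 10123712) (BT.leaf (nat_lit 39330849)) (BT.leaf (nat_lit 35159557)))) (BT.node (nat_lit 10123904) (BT.node (nat_lit 10123840) (BT.leaf (nat_lit 34807073)) (BT.leaf (nat_lit 35899401))) (BT.node (nat_lit 10123968) (BT.leaf (nat_lit 38045965)) (BT.leaf (nat_lit 34807565)))))) (BT.node (nat_lit 10124608) (BT.node (nat_lit 10124288) (BT.node (nat_lit 10124160) (BT.node (nat_lit 10124096) (BT.leaf (nat_lit 38043405)) (BT.leaf (nat_lit 38043153))) (BT.node (nat_lit 10124224) (BT.leaf (nat_lit 39770389)) (BT.leaf (nat_lit 38043157)))) (BT.node (nat_lit 10124480) (BT.node (nat_lit 10124416) (BT.leaf (nat_lit 34807833)) (BT.leaf (nat_lit 36444441))) (BT.node (nat_lit 10124544) (BT.leaf (nat_lit 34808849)) (BT.leaf (nat_lit 36307229))))) (BT.node (nat_lit 10124864) (BT.node (nat_lit 10124736) (BT.node (nat_lit 10124672) (BT.leaf (nat_lit 36270109)) (BT.leaf (nat_lit 36306465))) (BT.node (nat_lit 10124800) (BT.leaf (nat_lit 36765729)) (BT.leaf (nat_lit 34809377)))) (BT.node (nat_lit 10124992) (BT.node (nat_lit 10124928) (BT.leaf (nat_lit 34808089)) (BT.leaf (nat_lit 36270101))) (BT.node (nat_lit 10125056) (BT.leaf (nat_lit 36270113)) (BT.leaf (nat_lit 34808097))))))) (BT.node (nat_lit 10127360) (BT.node (nat_lit 10126784) (BT.node (nat_lit 10125568) (BT.node (nat_lit 10125248) (BT.node (nat_lit 10125184) (BT.leaf (nat_lit 36408609)) (BT.leaf (nat_lit 34810145))) (BT.node (nat_lit 10125312) (BT.leaf (nat_lit 34810125)) (BT.leaf (nat_lit 36711953)))) (BT.node (nat_lit 10126528) (BT.node (nat_lit 10125888) (BT.leaf (nat_lit 40547861)) (BT.leaf (nat_lit 36759065))) (BT.node (nat_lit 10126720) (BT.leaf (nat_lit 41532681)) (BT.leaf (nat_lit 34813717))))) (BT.node (nat_lit 10127040) (BT.node (nat_lit 10126912) (BT.node (nat_lit 10126848) (BT.leaf (nat_lit 36443677)) (BT.leaf (nat_lit 36443421))) (BT.node (nat_lit 10126976) (BT.leaf (nat_lit 36961045)) (BT.leaf (nat_lit 37543181)))) (BT.node (nat_lit 10127168) (BT.node (nat_lit 10127104) (BT.leaf (nat_lit 36774161)) (BT.leaf (nat_lit 37543189))) (BT.node (nat_lit 10127232) (BT.leaf (nat_lit 35026185)) (BT.leaf (nat_lit 37543201)))))) (BT.node (nat_lit 10127811) (BT.node (nat_lit 10127616) (BT.node (nat_lit 10127489) (BT.node (nat_lit 10127424) (BT.leaf (nat_lit 37543445)) (BT.leaf (nat_lit 35026181))) (BT.node (nat_lit 10127493) (BT.leaf (nat_lit 642176)) (BT.leaf (nat_lit 642176)))) (BT.node (nat_lit 10127744) (BT.node (nat_lit 10127680) (BT.leaf (nat_lit 34808857)) (BT.leaf (nat_lit 36443413))) (BT.node (nat_lit 10127810) (BT.leaf (nat_lit 34809113)) (BT.leaf (nat_lit 651448))))) (BT.node (nat_lit 10127816) (BT.node (nat_lit 10127813) (BT.node (nat_lit 10127812) (BT.leaf (nat_lit 651448)) (BT.leaf (nat_lit 651448))) (BT.node (nat_lit 10127815) (BT.leaf (nat_lit 651448)) (BT.leaf (nat_lit 651448)))) (BT.node (nat_lit 10127936) (BT.node (nat_lit 10127872) (BT.leaf (nat_lit 651448)) (BT.leaf (nat_lit 40543769))) (BT.node (nat_lit 10128000) (BT.leaf (nat_lit 38038813)) (BT.leaf (nat_lit 38038561))))))))) (BT.node (nat_lit 10134336) (BT.node (nat_lit 10131456) (BT.node (nat_lit 10130048) (BT.node (nat_lit 10129216) (BT.node (nat_lit 10128896) (BT.node (nat_lit 10128384) (BT.node (nat_lit 10128128) (BT.leaf (nat_lit 40497673)) (BT.leaf (nat_lit 40497669))) (BT.node (nat_lit 10128832) (BT.leaf (nat_lit 40498717)) (BT.leaf (nat_lit 36442649)))) (BT.node (nat_lit 10129024) (BT.node (nat_lit 10128960) (BT.leaf (nat_lit 36306181)) (BT.leaf (nat_lit 36306185))) (BT.node (nat_lit 10129088) (BT.leaf (nat_lit 36307741)) (BT.leaf (nat_lit 36306209))))) (BT.node (nat_lit 10129664) (BT.node (nat_lit 10129408) (BT.node (nat_lit 10129344) (BT.leaf (nat_lit 36175121)) (BT.leaf (nat_lit 34809349))) (BT.node (nat_lit 10129472) (BT.leaf (nat_lit 36175125)) (BT.leaf (nat_lit 36175133)))) (BT.node (nat_lit 10129792) (BT.node (nat_lit 10129728) (BT.leaf (nat_lit 36765701)) (BT.leaf (nat_lit 36765705))) (BT.node (nat_lit 10129856) (BT.leaf (nat_lit 36765709)) (BT.leaf (nat_lit 34809361)))))) (BT.node (nat_lit 10130752) (BT.node (nat_lit 10130368) (BT.node (nat_lit 10130176) (BT.node (nat_lit 10130112) (BT.leaf (nat_lit 36426769)) (BT.leaf (nat_lit 36426773))) (BT.node (nat_lit 10130240) (BT.leaf (nat_lit 36426781)) (BT.leaf (nat_lit 36307721)))) (BT.node (nat_lit 10130624) (BT.node (nat_lit 10130560) (BT.leaf (nat_lit 36307737)) (BT.leaf (nat_lit 34810117))) (BT.node (nat_lit 10130688) (BT.leaf (nat_lit 36176149)) (BT.leaf (nat_lit 36176157))))) (BT.node (nat_lit 10131136) (BT.node (nat_lit 10130944) (BT.node (nat_lit 10130880) (BT.leaf (nat_lit 36408581)) (BT.leaf (nat_lit 36408589))) (BT.node (nat_lit 10131008) (BT.leaf (nat_lit 34810129)) (BT.leaf (nat_lit 34670105)))) (BT.node (nat_lit 10131328) (BT.node (nat_lit 10131264) (BT.leaf (nat_lit 34670113)) (BT.leaf (nat_lit 38234649))) (BT.node (nat_lit 10131392) (BT.leaf (nat_lit 38233605)) (BT.leaf (nat_lit 34448645))))))) (BT.node (nat_lit 10132608) (BT.node (nat_lit 10132096) (BT.node (nat_lit 10131712) (BT.node (nat_lit 10131584) (BT.node (nat_lit 10131520) (BT.leaf (nat_lit 38232349)) (BT.leaf (nat_lit 35855621))) (BT.node (nat_lit 10131648) (BT.leaf (nat_lit 35855625)) (BT.leaf (nat_lit 34810909)))) (BT.node (nat_lit 10131840) (BT.node (nat_lit 10131776) (BT.leaf (nat_lit 34811165)) (BT.leaf (nat_lit 35855641))) (BT.node (nat_lit 10132032) (BT.leaf (nat_lit 35855649)) (BT.leaf (nat_lit 34811153))))) (BT.node (nat_lit 10132352) (BT.node (nat_lit 10132224) (BT.node (nat_lit 10132160) (BT.leaf (nat_lit 38486789)) (BT.leaf (nat_lit 38486793))) (BT.node (nat_lit 10132288) (BT.leaf (nat_lit 38486817)) (BT.leaf (nat_lit 34812705)))) (BT.node (nat_lit 10132480) (BT.node (nat_lit 10132416) (BT.leaf (nat_lit 41536273)) (BT.leaf (nat_lit 41532677))) (BT.node (nat_lit 10132544) (BT.leaf (nat_lit 41536281)) (BT.leaf (nat_lit 41536285)))))) (BT.node (nat_lit 10133632) (BT.node (nat_lit 10133056) (BT.node (nat_lit 10132928) (BT.node (nat_lit 10132864) (BT.leaf (nat_lit 34812685)) (BT.leaf (nat_lit 35144989))) (BT.node (nat_lit 10132992) (BT.leaf (nat_lit 40307205)) (BT.leaf (nat_lit 34846481)))) (BT.node (nat_lit 10133504) (BT.node (nat_lit 10133120) (BT.leaf (nat_lit 38243845)) (BT.leaf (nat_lit 38243849))) (BT.node (nat_lit 10133568) (BT.leaf (nat_lit 34813709)) (BT.leaf (nat_lit 34846469))))) (BT.node (nat_lit 10134016) (BT.node (nat_lit 10133760) (BT.node (nat_lit 10133696) (BT.leaf (nat_lit 34846473)) (BT.leaf (nat_lit 34846497))) (BT.node (nat_lit 10133888) (BT.leaf (nat_lit 34814233)) (BT.leaf (nat_lit 36961301)))) (BT.node (nat_lit 10134144) (BT.node (nat_lit 10134080) (BT.leaf (nat_lit 36961557)) (BT.leaf (nat_lit 39151393))) (BT.node (nat_lit 10134208) (BT.leaf (nat_lit 36961813)) (BT.leaf (nat_lit 34815513)))))))) (BT.node (nat_lit 10136704) (BT.node (nat_lit 10135496) (BT.node (nat_lit 10134912) (BT.node (nat_lit 10134592) (BT.node (nat_lit 10134464) (BT.node (nat_lit 10134400) (BT.leaf (nat_lit 38134289)) (BT.leaf (nat_lit 36147465))) (BT.node (nat_lit 10134528) (BT.leaf (nat_lit 36147469)) (BT.leaf (nat_lit 36147481)))) (BT.node (nat_lit 10134784) (BT.node (nat_lit 10134720) (BT.leaf (nat_lit 36147217)) (BT.leaf (nat_lit 40587277))) (BT.node (nat_lit 10134848) (BT.leaf (nat_lit 40587297)) (BT.leaf (nat_lit 36147225))))) (BT.node (nat_lit 10135232) (BT.node (nat_lit 10135104) (BT.node (nat_lit 10134976) (BT.leaf (nat_lit 40587269)) (BT.leaf (nat_lit 40587809))) (BT.node (nat_lit 10135168) (BT.leaf (nat_lit 34817297)) (BT.leaf (nat_lit 38126109)))) (BT.node (nat_lit 10135360) (BT.node (nat_lit 10135296) (BT.leaf (nat_lit 38417697)) (BT.leaf (nat_lit 40710149))) (BT.node (nat_lit 10135424) (BT.leaf (nat_lit 38862857)) (BT.leaf (nat_lit 38417677)))))) (BT.node (nat_lit 10136128) (BT.node (nat_lit 10135744) (BT.node (nat_lit 10135616) (BT.node (nat_lit 10135552) (BT.leaf (nat_lit 633612)) (BT.leaf (nat_lit 38417685))) (BT.node (nat_lit 10135680) (BT.leaf (nat_lit 38862853)) (BT.leaf (nat_lit 41128469)))) (BT.node (nat_lit 10135872) (BT.node (nat_lit 10135808) (BT.leaf (nat_lit 38316833)) (BT.leaf (nat_lit 38413829))) (BT.node (nat_lit 10135936) (BT.leaf (nat_lit 35290905)) (BT.leaf (nat_lit 37695753))))) (BT.node (nat_lit 10136448) (BT.node (nat_lit 10136256) (BT.node (nat_lit 10136192) (BT.leaf (nat_lit 40055833)) (BT.leaf (nat_lit 34818573))) (BT.node (nat_lit 10136320) (BT.leaf (nat_lit 34818841)) (BT.leaf (nat_lit 34818845)))) (BT.node (nat_lit 10136576) (BT.node (nat_lit 10136512) (BT.leaf (nat_lit 38428933)) (BT.leaf (nat_lit 38428937))) (BT.node (nat_lit 10136640) (BT.leaf (nat_lit 38428941)) (BT.leaf (nat_lit 40795925))))))) (BT.node (nat_lit 10138432) (BT.node (nat_lit 10137536) (BT.node (nat_lit 10137088) (BT.node (nat_lit 10136960) (BT.node (nat_lit 10136896) (BT.leaf (nat_lit 34816785)) (BT.leaf (nat_lit 34817053))) (BT.node (nat_lit 10137024) (BT.leaf (nat_lit 40589345)) (BT.leaf (nat_lit 38122781)))) (BT.node (nat_lit 10137216) (BT.node (nat_lit 10137152) (BT.leaf (nat_lit 38123525)) (BT.leaf (nat_lit 38123529))) (BT.node (nat_lit 10137408) (BT.leaf (nat_lit 38123553)) (BT.leaf (nat_lit 34817305))))) (BT.node (nat_lit 10138048) (BT.node (nat_lit 10137856) (BT.node (nat_lit 10137792) (BT.leaf (nat_lit 34819865)) (BT.leaf (nat_lit 34820369))) (BT.node (nat_lit 10137984) (BT.leaf (nat_lit 40710677)) (BT.leaf (nat_lit 38103329)))) (BT.node (nat_lit 10138176) (BT.node (nat_lit 10138112) (BT.leaf (nat_lit 34820373)) (BT.leaf (nat_lit 38862881))) (BT.node (nat_lit 10138304) (BT.leaf (nat_lit 34820121)) (BT.leaf (nat_lit 34820377)))))) (BT.node (nat_lit 10139136) (BT.node (nat_lit 10138880) (BT.node (nat_lit 10138688) (BT.node (nat_lit 10138496) (BT.leaf (nat_lit 39545369)) (BT.leaf (nat_lit 34820125))) (BT.node (nat_lit 10138752) (BT.leaf (nat_lit 34820113)) (BT.leaf (nat_lit 38103313)))) (BT.node (nat_lit 10139008) (BT.node (nat_lit 10138944) (BT.leaf (nat_lit 40544521)) (BT.leaf (nat_lit 34820381))) (BT.node (nat_lit 10139072) (BT.leaf (nat_lit 34840601)) (BT.leaf (nat_lit 34821137))))) (BT.node (nat_lit 10139392) (BT.node (nat_lit 10139264) (BT.node (nat_lit 10139200) (BT.leaf (nat_lit 34821141)) (BT.leaf (nat_lit 37716233))) (BT.node (nat_lit 10139328) (BT.leaf (nat_lit 34955545)) (BT.leaf (nat_lit 34955801)))) (BT.node (nat_lit 10139520) (BT.node (nat_lit 10139456) (BT.leaf (nat_lit 34821397)) (BT.leaf (nat_lit 39978773))) (BT.node (nat_lit 10139584) (BT.leaf (nat_lit 38976261)) (BT.leaf (nat_lit 38976265))))))))))) (BT.node (nat_lit 10159872) (BT.node (nat_lit 10149824) (BT.node (nat_lit 10144960) (BT.node (nat_lit 10142336) (BT.node (nat_lit 10140928) (BT.node (nat_lit 10140288) (BT.node (nat_lit 10139968) (BT.node (nat_lit 10139776) (BT.node (nat_lit 10139712) (BT.leaf (nat_lit 34827285)) (BT.leaf (nat_lit 34827797))) (BT.node (nat_lit 10139904) (BT.leaf (nat_lit 34828053)) (BT.leaf (nat_lit 34829073)))) (BT.node (nat_lit 10140096) (BT.node (nat_lit 10140032) (BT.leaf (nat_lit 34823705)) (BT.leaf (nat_lit 34823713))) (BT.node (nat_lit 10140224) (BT.leaf (nat_lit 41479173)) (BT.leaf (nat_lit 34824729))))) (BT.node (nat_lit 10140672) (BT.node (nat_lit 10140544) (BT.node (nat_lit 10140480) (BT.leaf (nat_lit 40426525)) (BT.leaf (nat_lit 34824733))) (BT.node (nat_lit 10140608) (BT.leaf (nat_lit 34824989)) (BT.leaf (nat_lit 38114849)))) (BT.node (nat_lit 10140800) (BT.node (nat_lit 10140736) (BT.leaf (nat_lit 38153737)) (BT.leaf (nat_lit 35722769))) (BT.node (nat_lit 10140864) (BT.leaf (nat_lit 34829337)) (BT.leaf (nat_lit 35721989)))))) (BT.node (nat_lit 10141632) (BT.node (nat_lit 10141248) (BT.node (nat_lit 10141056) (BT.node (nat_lit 10140992) (BT.leaf (nat_lit 35721993)) (BT.leaf (nat_lit 34672661))) (BT.node (nat_lit 10141184) (BT.leaf (nat_lit 35721749)) (BT.leaf (nat_lit 40430625)))) (BT.node (nat_lit 10141504) (BT.node (nat_lit 10141376) (BT.leaf (nat_lit 35016221)) (BT.leaf (nat_lit 35500313))) (BT.node (nat_lit 10141568) (BT.leaf (nat_lit 34830605)) (BT.leaf (nat_lit 34830625))))) (BT.node (nat_lit 10142080) (BT.node (nat_lit 10141952) (BT.node (nat_lit 10141888) (BT.leaf (nat_lit 34830881)) (BT.leaf (nat_lit 38460445))) (BT.node (nat_lit 10142016) (BT.leaf (nat_lit 34543897)) (BT.leaf (nat_lit 38023697)))) (BT.node (nat_lit 10142208) (BT.node (nat_lit 10142144) (BT.leaf (nat_lit 39192089)) (BT.leaf (nat_lit 38023445))) (BT.node (nat_lit 10142272) (BT.leaf (nat_lit 39705605)) (BT.leaf (nat_lit 39705609))))))) (BT.node (nat_lit 10143744) (BT.node (nat_lit 10143168) (BT.node (nat_lit 10142848) (BT.node (nat_lit 10142464) (BT.node (nat_lit 10142400) (BT.leaf (nat_lit 39705621)) (BT.leaf (nat_lit 39705633))) (BT.node (nat_lit 10142784) (BT.leaf (nat_lit 34830865)) (BT.leaf (nat_lit 34689809)))) (BT.node (nat_lit 10142976) (BT.node (nat_lit 10142912) (BT.leaf (nat_lit 34832145)) (BT.leaf (nat_lit 37310213))) (BT.node (nat_lit 10143040) (BT.leaf (nat_lit 38550797)) (BT.leaf (nat_lit 38550793))))) (BT.node (nat_lit 10143488) (BT.node (nat_lit 10143296) (BT.node (nat_lit 10143232) (BT.leaf (nat_lit 40941069)) (BT.leaf (nat_lit 35813405))) (BT.node (nat_lit 10143424) (BT.leaf (nat_lit 38862873)) (BT.leaf (nat_lit 34833165)))) (BT.node (nat_lit 10143616) (BT.node (nat_lit 10143552) (BT.leaf (nat_lit 34833421)) (BT.leaf (nat_lit 34833697))) (BT.node (nat_lit 10143680) (BT.leaf (nat_lit 34833673)) (BT.leaf (nat_lit 34835717)))))) (BT.node (nat_lit 10144384) (BT.node (nat_lit 10144064) (BT.node (nat_lit 10143936) (BT.node (nat_lit 10143872) (BT.leaf (nat_lit 38463765)) (BT.leaf (nat_lit 36793629))) (BT.node (nat_lit 10144000) (BT.leaf (nat_lit 34833441)) (BT.leaf (nat_lit 36798997)))) (BT.node (nat_lit 10144256) (BT.node (nat_lit 10144128) (BT.leaf (nat_lit 36374553)) (BT.leaf (nat_lit 39020057))) (BT.node (nat_lit 10144320) (BT.leaf (nat_lit 40234505)) (BT.leaf (nat_lit 40234501))))) (BT.node (nat_lit 10144640) (BT.node (nat_lit 10144512) (BT.node (nat_lit 10144448) (BT.leaf (nat_lit 41381917)) (BT.leaf (nat_lit 34912537))) (BT.node (nat_lit 10144576) (BT.leaf (nat_lit 40232737)) (BT.leaf (nat_lit 34980629)))) (BT.node (nat_lit 10144768) (BT.node (nat_lit 10144704) (BT.leaf (nat_lit 34980637)) (BT.leaf (nat_lit 34835489))) (BT.node (nat_lit 10144896) (BT.leaf (nat_lit 40476689)) (BT.leaf (nat_lit 40476701)))))))) (BT.node (nat_lit 10147072) (BT.node (nat_lit 10146115) (BT.node (nat_lit 10145536) (BT.node (nat_lit 10145216) (BT.node (nat_lit 10145088) (BT.node (nat_lit 10145024) (BT.leaf (nat_lit 41140493)) (BT.leaf (nat_lit 40473621))) (BT.node (nat_lit 10145152) (BT.leaf (nat_lit 40220441)) (BT.leaf (nat_lit 40220445)))) (BT.node (nat_lit 10145344) (BT.node (nat_lit 10145280) (BT.leaf (nat_lit 40182801)) (BT.leaf (nat_lit 34980885))) (BT.node (nat_lit 10145472) (BT.leaf (nat_lit 40182813)) (BT.leaf (nat_lit 40476697))))) (BT.node (nat_lit 10145856) (BT.node (nat_lit 10145728) (BT.node (nat_lit 10145600) (BT.leaf (nat_lit 37412377)) (BT.leaf (nat_lit 39736093))) (BT.node (nat_lit 10145792) (BT.leaf (nat_lit 40665617)) (BT.leaf (nat_lit 40291605)))) (BT.node (nat_lit 10145984) (BT.node (nat_lit 10145920) (BT.leaf (nat_lit 34838545)) (BT.leaf (nat_lit 39510797))) (BT.node (nat_lit 10146048) (BT.leaf (nat_lit 34840609)) (BT.leaf (nat_lit 34840341)))))) (BT.node (nat_lit 10146561) (BT.node (nat_lit 10146368) (BT.node (nat_lit 10146248) (BT.node (nat_lit 10146176) (BT.leaf (nat_lit 634304)) (BT.leaf (nat_lit 34840589))) (BT.node (nat_lit 10146304) (BT.leaf (nat_lit 634272)) (BT.leaf (nat_lit 34840597)))) (BT.node (nat_lit 10146496) (BT.node (nat_lit 10146432) (BT.leaf (nat_lit 37042713)) (BT.leaf (nat_lit 38128149))) (BT.node (nat_lit 10146560) (BT.leaf (nat_lit 40472081)) (BT.leaf (nat_lit 34840837))))) (BT.node (nat_lit 10146816) (BT.node (nat_lit 10146688) (BT.node (nat_lit 10146624) (BT.leaf (nat_lit 634280)) (BT.leaf (nat_lit 36972309))) (BT.node (nat_lit 10146752) (BT.leaf (nat_lit 34871065)) (BT.leaf (nat_lit 40538637)))) (BT.node (nat_lit 10146944) (BT.node (nat_lit 10146880) (BT.leaf (nat_lit 40537365)) (BT.leaf (nat_lit 36221465))) (BT.node (nat_lit 10147008) (BT.leaf (nat_lit 38127125)) (BT.leaf (nat_lit 39532305))))))) (BT.node (nat_lit 10148352) (BT.node (nat_lit 10147584) (BT.node (nat_lit 10147328) (BT.node (nat_lit 10147200) (BT.node (nat_lit 10147136) (BT.leaf (nat_lit 39566617)) (BT.leaf (nat_lit 35292421))) (BT.node (nat_lit 10147264) (BT.leaf (nat_lit 35292425)) (BT.leaf (nat_lit 35292429)))) (BT.node (nat_lit 10147456) (BT.node (nat_lit 10147392) (BT.leaf (nat_lit 35292441)) (BT.leaf (nat_lit 35292177))) (BT.node (nat_lit 10147520) (BT.leaf (nat_lit 35292193)) (BT.leaf (nat_lit 40340493))))) (BT.node (nat_lit 10147904) (BT.node (nat_lit 10147776) (BT.node (nat_lit 10147712) (BT.leaf (nat_lit 38160665)) (BT.leaf (nat_lit 39510789))) (BT.node (nat_lit 10147840) (BT.leaf (nat_lit 39510793)) (BT.leaf (nat_lit 38139165)))) (BT.node (nat_lit 10148032) (BT.node (nat_lit 10147968) (BT.leaf (nat_lit 39510817)) (BT.leaf (nat_lit 34838553))) (BT.node (nat_lit 10148096) (BT.leaf (nat_lit 39511061)) (BT.leaf (nat_lit 34840089)))))) (BT.node (nat_lit 10149184) (BT.node (nat_lit 10148672) (BT.node (nat_lit 10148544) (BT.node (nat_lit 10148416) (BT.leaf (nat_lit 34840593)) (BT.leaf (nat_lit 34840841))) (BT.node (nat_lit 10148608) (BT.leaf (nat_lit 34840865)) (BT.leaf (nat_lit 41017617)))) (BT.node (nat_lit 10148800) (BT.node (nat_lit 10148736) (BT.leaf (nat_lit 39723289)) (BT.leaf (nat_lit 41017629))) (BT.node (nat_lit 10148864) (BT.leaf (nat_lit 38128405)) (BT.leaf (nat_lit 34840349))))) (BT.node (nat_lit 10149568) (BT.node (nat_lit 10149312) (BT.node (nat_lit 10149248) (BT.leaf (nat_lit 34841105)) (BT.leaf (nat_lit 34840337))) (BT.node (nat_lit 10149504) (BT.leaf (nat_lit 40475661)) (BT.leaf (nat_lit 40475677)))) (BT.node (nat_lit 10149696) (BT.node (nat_lit 10149632) (BT.leaf (nat_lit 40475681)) (BT.leaf (nat_lit 40663841))) (BT.node (nat_lit 10149760) (BT.leaf (nat_lit 36794397)) (BT.leaf (nat_lit 40663817))))))))) (BT.node (nat_lit 10155072) (BT.node (nat_lit 10152192) (BT.node (nat_lit 10151168) (BT.node (nat_lit 10150400) (BT.node (nat_lit 10149952) (BT.node (nat_lit 10149895) (BT.node (nat_lit 10149892) (BT.leaf (nat_lit 36967701)) (BT.leaf (nat_lit 634392))) (BT.node (nat_lit 10149896) (BT.leaf (nat_lit 634392)) (BT.leaf (nat_lit 634392)))) (BT.node (nat_lit 10150208) (BT.node (nat_lit 10150080) (BT.leaf (nat_lit 34841621)) (BT.leaf (nat_lit 35126037))) (BT.node (nat_lit 10150272) (BT.leaf (nat_lit 34832929)) (BT.leaf (nat_lit 34841625))))) (BT.node (nat_lit 10150912) (BT.node (nat_lit 10150592) (BT.node (nat_lit 10150528) (BT.leaf (nat_lit 34844689)) (BT.leaf (nat_lit 40673569))) (BT.node (nat_lit 10150848) (BT.leaf (nat_lit 41705249)) (BT.leaf (nat_lit 40704277)))) (BT.node (nat_lit 10151040) (BT.node (nat_lit 10150976) (BT.leaf (nat_lit 40704789)) (BT.leaf (nat_lit 40704021))) (BT.node (nat_lit 10151104) (BT.leaf (nat_lit 35394073)) (BT.leaf (nat_lit 34968085)))))) (BT.node (nat_lit 10151812) (BT.node (nat_lit 10151488) (BT.node (nat_lit 10151360) (BT.node (nat_lit 10151296) (BT.leaf (nat_lit 35403545)) (BT.leaf (nat_lit 35403289))) (BT.node (nat_lit 10151424) (BT.leaf (nat_lit 37938453)) (BT.leaf (nat_lit 35404569)))) (BT.node (nat_lit 10151744) (BT.node (nat_lit 10151680) (BT.leaf (nat_lit 34845457)) (BT.leaf (nat_lit 37763093))) (BT.node (nat_lit 10151811) (BT.leaf (nat_lit 37763101)) (BT.leaf (nat_lit 637052))))) (BT.node (nat_lit 10151875) (BT.node (nat_lit 10151816) (BT.node (nat_lit 10151813) (BT.leaf (nat_lit 635620)) (BT.leaf (nat_lit 635620))) (BT.node (nat_lit 10151872) (BT.leaf (nat_lit 637052)) (BT.leaf (nat_lit 40685345)))) (BT.node (nat_lit 10152000) (BT.node (nat_lit 10151936) (BT.leaf (nat_lit 637040)) (BT.leaf (nat_lit 34458141))) (BT.node (nat_lit 10152128) (BT.leaf (nat_lit 40685317)) (BT.leaf (nat_lit 39720989))))))) (BT.node (nat_lit 10153408) (BT.node (nat_lit 10152768) (BT.node (nat_lit 10152512) (BT.node (nat_lit 10152320) (BT.node (nat_lit 10152256) (BT.leaf (nat_lit 38323473)) (BT.leaf (nat_lit 38323485))) (BT.node (nat_lit 10152384) (BT.leaf (nat_lit 39043093)) (BT.leaf (nat_lit 41232925)))) (BT.node (nat_lit 10152640) (BT.node (nat_lit 10152576) (BT.leaf (nat_lit 36121613)) (BT.leaf (nat_lit 34458129))) (BT.node (nat_lit 10152704) (BT.leaf (nat_lit 36121625)) (BT.leaf (nat_lit 36121361))))) (BT.node (nat_lit 10153152) (BT.node (nat_lit 10152960) (BT.node (nat_lit 10152896) (BT.leaf (nat_lit 36499997)) (BT.leaf (nat_lit 36121377))) (BT.node (nat_lit 10153024) (BT.leaf (nat_lit 34846997)) (BT.leaf (nat_lit 39146773)))) (BT.node (nat_lit 10153280) (BT.node (nat_lit 10153216) (BT.leaf (nat_lit 37805829)) (BT.leaf (nat_lit 39595021))) (BT.node (nat_lit 10153344) (BT.leaf (nat_lit 37805573)) (BT.leaf (nat_lit 34848013)))))) (BT.node (nat_lit 10154368) (BT.node (nat_lit 10153984) (BT.node (nat_lit 10153664) (BT.node (nat_lit 10153472) (BT.leaf (nat_lit 35270661)) (BT.leaf (nat_lit 34853649))) (BT.node (nat_lit 10153856) (BT.leaf (nat_lit 34917397)) (BT.leaf (nat_lit 39485717)))) (BT.node (nat_lit 10154305) (BT.node (nat_lit 10154304) (BT.leaf (nat_lit 34204193)) (BT.leaf (nat_lit 39656721))) (BT.node (nat_lit 10154306) (BT.leaf (nat_lit 646508)) (BT.leaf (nat_lit 646508))))) (BT.node (nat_lit 10154688) (BT.node (nat_lit 10154560) (BT.node (nat_lit 10154496) (BT.leaf (nat_lit 34883609)) (BT.leaf (nat_lit 37805585))) (BT.node (nat_lit 10154624) (BT.leaf (nat_lit 37805593)) (BT.leaf (nat_lit 39595013)))) (BT.node (nat_lit 10154944) (BT.node (nat_lit 10154752) (BT.leaf (nat_lit 39595017)) (BT.leaf (nat_lit 39595041))) (BT.node (nat_lit 10155008) (BT.leaf (nat_lit 34848009)) (BT.leaf (nat_lit 35445533)))))))) (BT.node (nat_lit 10157511) (BT.node (nat_lit 10156416) (BT.node (nat_lit 10155776) (BT.node (nat_lit 10155392) (BT.node (nat_lit 10155264) (BT.node (nat_lit 10155136) (BT.leaf (nat_lit 35446793)) (BT.leaf (nat_lit 34848277))) (BT.node (nat_lit 10155328) (BT.leaf (nat_lit 41363973)) (BT.leaf (nat_lit 41723925)))) (BT.node (nat_lit 10155584) (BT.node (nat_lit 10155456) (BT.leaf (nat_lit 34848533)) (BT.leaf (nat_lit 34955541))) (BT.node (nat_lit 10155712) (BT.leaf (nat_lit 36473113)) (BT.leaf (nat_lit 39528213))))) (BT.node (nat_lit 10156032) (BT.node (nat_lit 10155904) (BT.node (nat_lit 10155840) (BT.leaf (nat_lit 39528221)) (BT.leaf (nat_lit 39315221))) (BT.node (nat_lit 10155968) (BT.leaf (nat_lit 35943457)) (BT.leaf (nat_lit 39461125)))) (BT.node (nat_lit 10156288) (BT.node (nat_lit 10156160) (BT.leaf (nat_lit 40478997)) (BT.leaf (nat_lit 39466009))) (BT.node (nat_lit 10156352) (BT.leaf (nat_lit 38134293)) (BT.leaf (nat_lit 35103265)))))) (BT.node (nat_lit 10157184) (BT.node (nat_lit 10156800) (BT.node (nat_lit 10156544) (BT.node (nat_lit 10156480) (BT.leaf (nat_lit 35078169)) (BT.leaf (nat_lit 40686881))) (BT.node (nat_lit 10156736) (BT.leaf (nat_lit 35087389)) (BT.leaf (nat_lit 34865417)))) (BT.node (nat_lit 10156928) (BT.node (nat_lit 10156864) (BT.leaf (nat_lit 34850829)) (BT.leaf (nat_lit 40712217))) (BT.node (nat_lit 10157056) (BT.leaf (nat_lit 34752021)) (BT.leaf (nat_lit 34851093))))) (BT.node (nat_lit 10157379) (BT.node (nat_lit 10157312) (BT.node (nat_lit 10157248) (BT.leaf (nat_lit 34138141)) (BT.leaf (nat_lit 34852113))) (BT.node (nat_lit 10157376) (BT.leaf (nat_lit 34914585)) (BT.leaf (nat_lit 34914589)))) (BT.node (nat_lit 10157504) (BT.node (nat_lit 10157440) (BT.leaf (nat_lit 640144)) (BT.leaf (nat_lit 36973337))) (BT.node (nat_lit 10157505) (BT.leaf (nat_lit 34865433)) (BT.leaf (nat_lit 636964))))))) (BT.node (nat_lit 10158848) (BT.node (nat_lit 10158208) (BT.node (nat_lit 10157760) (BT.node (nat_lit 10157632) (BT.node (nat_lit 10157568) (BT.leaf (nat_lit 636964)) (BT.leaf (nat_lit 34902037))) (BT.node (nat_lit 10157696) (BT.leaf (nat_lit 37399065)) (BT.leaf (nat_lit 41527317)))) (BT.node (nat_lit 10158080) (BT.node (nat_lit 10157824) (BT.leaf (nat_lit 38322457)) (BT.leaf (nat_lit 39725341))) (BT.node (nat_lit 10158144) (BT.leaf (nat_lit 37698077)) (BT.leaf (nat_lit 38113797))))) (BT.node (nat_lit 10158464) (BT.node (nat_lit 10158336) (BT.node (nat_lit 10158272) (BT.leaf (nat_lit 38113801)) (BT.leaf (nat_lit 38113805))) (BT.node (nat_lit 10158400) (BT.leaf (nat_lit 40992029)) (BT.leaf (nat_lit 36287769)))) (BT.node (nat_lit 10158656) (BT.node (nat_lit 10158592) (BT.leaf (nat_lit 35607313)) (BT.leaf (nat_lit 34854929))) (BT.node (nat_lit 10158784) (BT.leaf (nat_lit 34854933)) (BT.leaf (nat_lit 34854937)))))) (BT.node (nat_lit 10159424) (BT.node (nat_lit 10159104) (BT.node (nat_lit 10158976) (BT.node (nat_lit 10158912) (BT.leaf (nat_lit 34855193)) (BT.leaf (nat_lit 34855197))) (BT.node (nat_lit 10159040) (BT.leaf (nat_lit 38113305)) (BT.leaf (nat_lit 34915341)))) (BT.node (nat_lit 10159296) (BT.node (nat_lit 10159232) (BT.leaf (nat_lit 34915345)) (BT.leaf (nat_lit 34915361))) (BT.node (nat_lit 10159360) (BT.leaf (nat_lit 39490593)) (BT.leaf (nat_lit 39717653))))) (BT.node (nat_lit 10159624) (BT.node (nat_lit 10159552) (BT.node (nat_lit 10159488) (BT.leaf (nat_lit 39717385)) (BT.leaf (nat_lit 39717381))) (BT.node (nat_lit 10159619) (BT.leaf (nat_lit 39490577)) (BT.leaf (nat_lit 642348)))) (BT.node (nat_lit 10159744) (BT.node (nat_lit 10159680) (BT.leaf (nat_lit 642348)) (BT.leaf (nat_lit 35030285))) (BT.node (nat_lit 10159808) (BT.leaf (nat_lit 34857249)) (BT.leaf (nat_lit 38138129)))))))))) (BT.node (nat_lit 10169792) (BT.node (nat_lit 10165056) (BT.node (nat_lit 10162240) (BT.node (nat_lit 10160896) (BT.node (nat_lit 10160256) (BT.node (nat_lit 10160072) (BT.node (nat_lit 10160000) (BT.node (nat_lit 10159936) (BT.leaf (nat_lit 38138133)) (BT.leaf (nat_lit 38138141))) (BT.node (nat_lit 10160067) (BT.leaf (nat_lit 38135053)) (BT.leaf (nat_lit 635356)))) (BT.node (nat_lit 10160195) (BT.node (nat_lit 10160128) (BT.leaf (nat_lit 635288)) (BT.leaf (nat_lit 38135061))) (BT.node (nat_lit 10160200) (BT.leaf (nat_lit 635324)) (BT.leaf (nat_lit 635324))))) (BT.node (nat_lit 10160576) (BT.node (nat_lit 10160384) (BT.node (nat_lit 10160320) (BT.leaf (nat_lit 35136265)) (BT.leaf (nat_lit 38298633))) (BT.node (nat_lit 10160448) (BT.leaf (nat_lit 40643601)) (BT.leaf (nat_lit 40643613)))) (BT.node (nat_lit 10160768) (BT.node (nat_lit 10160704) (BT.leaf (nat_lit 38298641)) (BT.leaf (nat_lit 38298653))) (BT.node (nat_lit 10160832) (BT.leaf (nat_lit 40641313)) (BT.leaf (nat_lit 40641293)))))) (BT.node (nat_lit 10161536) (BT.node (nat_lit 10161280) (BT.node (nat_lit 10161152) (BT.node (nat_lit 10161024) (BT.leaf (nat_lit 38298401)) (BT.leaf (nat_lit 38161689))) (BT.node (nat_lit 10161216) (BT.leaf (nat_lit 40646917)) (BT.leaf (nat_lit 40646921)))) (BT.node (nat_lit 10161408) (BT.node (nat_lit 10161344) (BT.leaf (nat_lit 38300189)) (BT.leaf (nat_lit 38158597))) (BT.node (nat_lit 10161472) (BT.leaf (nat_lit 38158601)) (BT.leaf (nat_lit 38158617))))) (BT.node (nat_lit 10161792) (BT.node (nat_lit 10161664) (BT.node (nat_lit 10161600) (BT.leaf (nat_lit 39717397)) (BT.leaf (nat_lit 34855969))) (BT.node (nat_lit 10161728) (BT.leaf (nat_lit 39716881)) (BT.leaf (nat_lit 40644373)))) (BT.node (nat_lit 10161920) (BT.node (nat_lit 10161856) (BT.leaf (nat_lit 39716889)) (BT.leaf (nat_lit 40644381))) (BT.node (nat_lit 10162176) (BT.leaf (nat_lit 34855949)) (BT.leaf (nat_lit 37709321))))))) (BT.node (nat_lit 10163840) (BT.node (nat_lit 10163008) (BT.node (nat_lit 10162752) (BT.node (nat_lit 10162624) (BT.node (nat_lit 10162560) (BT.leaf (nat_lit 38146061)) (BT.leaf (nat_lit 38145553))) (BT.node (nat_lit 10162688) (BT.leaf (nat_lit 35296537)) (BT.leaf (nat_lit 34855705)))) (BT.node (nat_lit 10162880) (BT.node (nat_lit 10162816) (BT.leaf (nat_lit 38145541)) (BT.leaf (nat_lit 38145545))) (BT.node (nat_lit 10162944) (BT.leaf (nat_lit 38145569)) (BT.leaf (nat_lit 38134805))))) (BT.node (nat_lit 10163264) (BT.node (nat_lit 10163136) (BT.node (nat_lit 10163072) (BT.leaf (nat_lit 41569561)) (BT.leaf (nat_lit 38147333))) (BT.node (nat_lit 10163200) (BT.leaf (nat_lit 38147337)) (BT.leaf (nat_lit 38147341)))) (BT.node (nat_lit 10163712) (BT.node (nat_lit 10163328) (BT.leaf (nat_lit 41590289)) (BT.leaf (nat_lit 38147357))) (BT.node (nat_lit 10163776) (BT.leaf (nat_lit 34856725)) (BT.leaf (nat_lit 40832265)))))) (BT.node (nat_lit 10164544) (BT.node (nat_lit 10164224) (BT.node (nat_lit 10164096) (BT.node (nat_lit 10163968) (BT.leaf (nat_lit 36118809)) (BT.leaf (nat_lit 34889497))) (BT.node (nat_lit 10164160) (BT.leaf (nat_lit 35030289)) (BT.leaf (nat_lit 35030297)))) (BT.node (nat_lit 10164416) (BT.node (nat_lit 10164352) (BT.leaf (nat_lit 35030301)) (BT.leaf (nat_lit 34858245))) (BT.node (nat_lit 10164488) (BT.leaf (nat_lit 34858249)) (BT.leaf (nat_lit 635368))))) (BT.node (nat_lit 10164800) (BT.node (nat_lit 10164672) (BT.node (nat_lit 10164608) (BT.leaf (nat_lit 34858265)) (BT.leaf (nat_lit 34857233))) (BT.node (nat_lit 10164736) (BT.leaf (nat_lit 34857737)) (BT.leaf (nat_lit 34857733)))) (BT.node (nat_lit 10164928) (BT.node (nat_lit 10164864) (BT.leaf (nat_lit 34857761)) (BT.leaf (nat_lit 38145809))) (BT.node (nat_lit 10164992) (BT.leaf (nat_lit 38145821)) (BT.leaf (nat_lit 34857237)))))))) (BT.node (nat_lit 10167424) (BT.node (nat_lit 10166528) (BT.node (nat_lit 10165824) (BT.node (nat_lit 10165504) (BT.node (nat_lit 10165184) (BT.node (nat_lit 10165120) (BT.leaf (nat_lit 34856985)) (BT.leaf (nat_lit 40664853))) (BT.node (nat_lit 10165376) (BT.leaf (nat_lit 34857241)) (BT.leaf (nat_lit 34856989)))) (BT.node (nat_lit 10165761) (BT.node (nat_lit 10165760) (BT.leaf (nat_lit 34857497)) (BT.leaf (nat_lit 38127633))) (BT.node (nat_lit 10165762) (BT.leaf (nat_lit 635704)) (BT.leaf (nat_lit 635704))))) (BT.node (nat_lit 10166144) (BT.node (nat_lit 10165952) (BT.node (nat_lit 10165888) (BT.leaf (nat_lit 41146905)) (BT.leaf (nat_lit 34858253))) (BT.node (nat_lit 10166080) (BT.leaf (nat_lit 37706773)) (BT.leaf (nat_lit 41141025)))) (BT.node (nat_lit 10166400) (BT.node (nat_lit 10166208) (BT.leaf (nat_lit 38322713)) (BT.leaf (nat_lit 38322717))) (BT.node (nat_lit 10166464) (BT.leaf (nat_lit 41697565)) (BT.leaf (nat_lit 34858513)))))) (BT.node (nat_lit 10166919) (BT.node (nat_lit 10166848) (BT.node (nat_lit 10166720) (BT.node (nat_lit 10166592) (BT.leaf (nat_lit 38185245)) (BT.leaf (nat_lit 34858521))) (BT.node (nat_lit 10166784) (BT.leaf (nat_lit 41141001)) (BT.leaf (nat_lit 34858525)))) (BT.node (nat_lit 10166915) (BT.node (nat_lit 10166912) (BT.leaf (nat_lit 34858785)) (BT.leaf (nat_lit 38136849))) (BT.node (nat_lit 10166918) (BT.leaf (nat_lit 635696)) (BT.leaf (nat_lit 635696))))) (BT.node (nat_lit 10167104) (BT.node (nat_lit 10166976) (BT.node (nat_lit 10166920) (BT.leaf (nat_lit 635696)) (BT.leaf (nat_lit 635696))) (BT.node (nat_lit 10167040) (BT.leaf (nat_lit 34865689)) (BT.leaf (nat_lit 34865693)))) (BT.node (nat_lit 10167232) (BT.node (nat_lit 10167170) (BT.leaf (nat_lit 34858765)) (BT.leaf (nat_lit 636020))) (BT.node (nat_lit 10167360) (BT.leaf (nat_lit 36953621)) (BT.leaf (nat_lit 36971781))))))) (BT.node (nat_lit 10168512) (BT.node (nat_lit 10167872) (BT.node (nat_lit 10167496) (BT.node (nat_lit 10167489) (BT.node (nat_lit 10167488) (BT.leaf (nat_lit 36333085)) (BT.leaf (nat_lit 34874885))) (BT.node (nat_lit 10167491) (BT.leaf (nat_lit 636336)) (BT.leaf (nat_lit 636360)))) (BT.node (nat_lit 10167616) (BT.node (nat_lit 10167552) (BT.leaf (nat_lit 636360)) (BT.leaf (nat_lit 35106077))) (BT.node (nat_lit 10167808) (BT.leaf (nat_lit 35392789)) (BT.leaf (nat_lit 35125009))))) (BT.node (nat_lit 10168128) (BT.node (nat_lit 10168000) (BT.node (nat_lit 10167936) (BT.leaf (nat_lit 35125017)) (BT.leaf (nat_lit 34861845))) (BT.node (nat_lit 10168064) (BT.leaf (nat_lit 35301141)) (BT.leaf (nat_lit 34866949)))) (BT.node (nat_lit 10168320) (BT.node (nat_lit 10168256) (BT.leaf (nat_lit 34866953)) (BT.leaf (nat_lit 35399705))) (BT.node (nat_lit 10168384) (BT.leaf (nat_lit 38565641)) (BT.leaf (nat_lit 35399449)))))) (BT.node (nat_lit 10169024) (BT.node (nat_lit 10168768) (BT.node (nat_lit 10168640) (BT.node (nat_lit 10168576) (BT.leaf (nat_lit 35402009)) (BT.leaf (nat_lit 34863889))) (BT.node (nat_lit 10168704) (BT.leaf (nat_lit 39217697)) (BT.leaf (nat_lit 40686861)))) (BT.node (nat_lit 10168896) (BT.node (nat_lit 10168832) (BT.leaf (nat_lit 37043977)) (BT.leaf (nat_lit 41303829))) (BT.node (nat_lit 10168960) (BT.leaf (nat_lit 41303837)) (BT.leaf (nat_lit 38229781))))) (BT.node (nat_lit 10169344) (BT.node (nat_lit 10169152) (BT.node (nat_lit 10169088) (BT.leaf (nat_lit 40627729)) (BT.leaf (nat_lit 40741901))) (BT.node (nat_lit 10169280) (BT.leaf (nat_lit 40714769)) (BT.leaf (nat_lit 38281505)))) (BT.node (nat_lit 10169472) (BT.node (nat_lit 10169408) (BT.leaf (nat_lit 38294045)) (BT.leaf (nat_lit 34863645))) (BT.node (nat_lit 10169664) (BT.leaf (nat_lit 38281481)) (BT.leaf (nat_lit 41586973))))))))) (BT.node (nat_lit 10175616) (BT.node (nat_lit 10172994) (BT.node (nat_lit 10171456) (BT.node (nat_lit 10170304) (BT.node (nat_lit 10169992) (BT.node (nat_lit 10169984) (BT.node (nat_lit 10169856) (BT.leaf (nat_lit 38589197)) (BT.leaf (nat_lit 34883361))) (BT.node (nat_lit 10169987) (BT.leaf (nat_lit 40962845)) (BT.leaf (nat_lit 637012)))) (BT.node (nat_lit 10170112) (BT.node (nat_lit 10170048) (BT.leaf (nat_lit 637012)) (BT.leaf (nat_lit 36973321))) (BT.node (nat_lit 10170184) (BT.leaf (nat_lit 34883341)) (BT.leaf (nat_lit 636988))))) (BT.node (nat_lit 10171008) (BT.node (nat_lit 10170752) (BT.node (nat_lit 10170496) (BT.leaf (nat_lit 34865421)) (BT.leaf (nat_lit 40606225))) (BT.node (nat_lit 10170816) (BT.leaf (nat_lit 35124497)) (BT.leaf (nat_lit 41141265)))) (BT.node (nat_lit 10171328) (BT.node (nat_lit 10171136) (BT.leaf (nat_lit 41314073)) (BT.leaf (nat_lit 34865681))) (BT.node (nat_lit 10171392) (BT.leaf (nat_lit 38278157)) (BT.leaf (nat_lit 34864925)))))) (BT.node (nat_lit 10172032) (BT.node (nat_lit 10171712) (BT.node (nat_lit 10171584) (BT.node (nat_lit 10171520) (BT.leaf (nat_lit 41513501)) (BT.leaf (nat_lit 38999057))) (BT.node (nat_lit 10171648) (BT.leaf (nat_lit 34865181)) (BT.leaf (nat_lit 36347669)))) (BT.node (nat_lit 10171840) (BT.node (nat_lit 10171776) (BT.leaf (nat_lit 40623633)) (BT.leaf (nat_lit 38551557))) (BT.node (nat_lit 10171968) (BT.leaf (nat_lit 40674821)) (BT.leaf (nat_lit 36387105))))) (BT.node (nat_lit 10172544) (BT.node (nat_lit 10172288) (BT.node (nat_lit 10172096) (BT.leaf (nat_lit 41307933)) (BT.leaf (nat_lit 38602513))) (BT.node (nat_lit 10172480) (BT.leaf (nat_lit 34970385)) (BT.leaf (nat_lit 40469773)))) (BT.node (nat_lit 10172672) (BT.node (nat_lit 10172608) (BT.leaf (nat_lit 40470029)) (BT.leaf (nat_lit 34851081))) (BT.node (nat_lit 10172993) (BT.leaf (nat_lit 36972037)) (BT.leaf (nat_lit 645408))))))) (BT.node (nat_lit 10174336) (BT.node (nat_lit 10173568) (BT.node (nat_lit 10173248) (BT.node (nat_lit 10173120) (BT.node (nat_lit 10173056) (BT.leaf (nat_lit 645408)) (BT.leaf (nat_lit 35765025))) (BT.node (nat_lit 10173184) (BT.leaf (nat_lit 35680541)) (BT.leaf (nat_lit 35765013)))) (BT.node (nat_lit 10173376) (BT.node (nat_lit 10173312) (BT.leaf (nat_lit 35765021)) (BT.leaf (nat_lit 34865177))) (BT.node (nat_lit 10173504) (BT.leaf (nat_lit 34864921)) (BT.leaf (nat_lit 37762833))))) (BT.node (nat_lit 10173952) (BT.node (nat_lit 10173696) (BT.node (nat_lit 10173632) (BT.leaf (nat_lit 37762841)) (BT.leaf (nat_lit 37763089))) (BT.node (nat_lit 10173888) (BT.leaf (nat_lit 39253765)) (BT.leaf (nat_lit 34865685)))) (BT.node (nat_lit 10174144) (BT.node (nat_lit 10174080) (BT.leaf (nat_lit 39234573)) (BT.leaf (nat_lit 34850825))) (BT.node (nat_lit 10174208) (BT.leaf (nat_lit 34850821)) (BT.leaf (nat_lit 34869533)))))) (BT.node (nat_lit 10175040) (BT.node (nat_lit 10174720) (BT.node (nat_lit 10174464) (BT.node (nat_lit 10174400) (BT.leaf (nat_lit 35294733)) (BT.leaf (nat_lit 35082009))) (BT.node (nat_lit 10174656) (BT.leaf (nat_lit 34866977)) (BT.leaf (nat_lit 35104777)))) (BT.node (nat_lit 10174912) (BT.node (nat_lit 10174848) (BT.leaf (nat_lit 34866957)) (BT.leaf (nat_lit 34867729))) (BT.node (nat_lit 10174976) (BT.leaf (nat_lit 38310177)) (BT.leaf (nat_lit 38305553))))) (BT.node (nat_lit 10175296) (BT.node (nat_lit 10175168) (BT.node (nat_lit 10175104) (BT.leaf (nat_lit 39005985)) (BT.leaf (nat_lit 38551049))) (BT.node (nat_lit 10175232) (BT.leaf (nat_lit 38310157)) (BT.leaf (nat_lit 38310161)))) (BT.node (nat_lit 10175424) (BT.node (nat_lit 10175360) (BT.leaf (nat_lit 35604501)) (BT.leaf (nat_lit 38310417))) (BT.node (nat_lit 10175488) (BT.leaf (nat_lit 40667661)) (BT.leaf (nat_lit 36969225)))))))) (BT.node (nat_lit 10178432) (BT.node (nat_lit 10177152) (BT.node (nat_lit 10176448) (BT.node (nat_lit 10176192) (BT.node (nat_lit 10176000) (BT.node (nat_lit 10175680) (BT.leaf (nat_lit 41443861)) (BT.leaf (nat_lit 39234329))) (BT.node (nat_lit 10176128) (BT.leaf (nat_lit 35652881)) (BT.leaf (nat_lit 35652889)))) (BT.node (nat_lit 10176320) (BT.node (nat_lit 10176256) (BT.leaf (nat_lit 35654921)) (BT.leaf (nat_lit 39234581))) (BT.node (nat_lit 10176384) (BT.leaf (nat_lit 36971529)) (BT.leaf (nat_lit 36971525))))) (BT.node (nat_lit 10176832) (BT.node (nat_lit 10176704) (BT.node (nat_lit 10176640) (BT.leaf (nat_lit 34867989)) (BT.leaf (nat_lit 34868501))) (BT.node (nat_lit 10176768) (BT.leaf (nat_lit 34868757)) (BT.leaf (nat_lit 36971785)))) (BT.node (nat_lit 10176960) (BT.node (nat_lit 10176896) (BT.leaf (nat_lit 34867993)) (BT.leaf (nat_lit 34868249))) (BT.node (nat_lit 10177024) (BT.leaf (nat_lit 34868761)) (BT.leaf (nat_lit 41064709)))))) (BT.node (nat_lit 10177920) (BT.node (nat_lit 10177536) (BT.node (nat_lit 10177280) (BT.node (nat_lit 10177216) (BT.leaf (nat_lit 35536909)) (BT.leaf (nat_lit 35536929))) (BT.node (nat_lit 10177344) (BT.leaf (nat_lit 36433177)) (BT.leaf (nat_lit 34869781)))) (BT.node (nat_lit 10177728) (BT.node (nat_lit 10177664) (BT.leaf (nat_lit 40551457)) (BT.leaf (nat_lit 34874397))) (BT.node (nat_lit 10177792) (BT.leaf (nat_lit 34871585)) (BT.leaf (nat_lit 36380445))))) (BT.node (nat_lit 10178176) (BT.node (nat_lit 10178048) (BT.node (nat_lit 10177984) (BT.leaf (nat_lit 36975121)) (BT.leaf (nat_lit 36975137))) (BT.node (nat_lit 10178112) (BT.leaf (nat_lit 34876429)) (BT.leaf (nat_lit 36867345)))) (BT.node (nat_lit 10178304) (BT.node (nat_lit 10178240) (BT.leaf (nat_lit 34876421)) (BT.leaf (nat_lit 39043085))) (BT.node (nat_lit 10178368) (BT.leaf (nat_lit 39042833)) (BT.leaf (nat_lit 34869525))))))) (BT.node (nat_lit 10179520) (BT.node (nat_lit 10178816) (BT.node (nat_lit 10178568) (BT.node (nat_lit 10178560) (BT.node (nat_lit 10178496) (BT.leaf (nat_lit 36473101)) (BT.leaf (nat_lit 34877193))) (BT.node (nat_lit 10178563) (BT.leaf (nat_lit 35228421)) (BT.leaf (nat_lit 636508)))) (BT.node (nat_lit 10178688) (BT.node (nat_lit 10178624) (BT.leaf (nat_lit 636508)) (BT.leaf (nat_lit 35228425))) (BT.node (nat_lit 10178752) (BT.leaf (nat_lit 35228429)) (BT.leaf (nat_lit 35228445))))) (BT.node (nat_lit 10179141) (BT.node (nat_lit 10179072) (BT.node (nat_lit 10179008) (BT.leaf (nat_lit 36322845)) (BT.leaf (nat_lit 35228185))) (BT.node (nat_lit 10179140) (BT.leaf (nat_lit 40864261)) (BT.leaf (nat_lit 641396)))) (BT.node (nat_lit 10179328) (BT.node (nat_lit 10179143) (BT.leaf (nat_lit 641396)) (BT.leaf (nat_lit 641396))) (BT.node (nat_lit 10179456) (BT.leaf (nat_lit 37889297)) (BT.leaf (nat_lit 35829253)))))) (BT.node (nat_lit 10180544) (BT.node (nat_lit 10180224) (BT.node (nat_lit 10179712) (BT.node (nat_lit 10179648) (BT.leaf (nat_lit 35410445)) (BT.leaf (nat_lit 34870301))) (BT.node (nat_lit 10179904) (BT.leaf (nat_lit 34223133)) (BT.leaf (nat_lit 36022813)))) (BT.node (nat_lit 10180416) (BT.node (nat_lit 10180288) (BT.leaf (nat_lit 41050885)) (BT.leaf (nat_lit 41064713))) (BT.node (nat_lit 10180480) (BT.leaf (nat_lit 34871565)) (BT.leaf (nat_lit 34871821))))) (BT.node (nat_lit 10180800) (BT.node (nat_lit 10180672) (BT.node (nat_lit 10180608) (BT.leaf (nat_lit 34872093)) (BT.leaf (nat_lit 35536913))) (BT.node (nat_lit 10180736) (BT.leaf (nat_lit 41207045)) (BT.leaf (nat_lit 35288337)))) (BT.node (nat_lit 10180992) (BT.node (nat_lit 10180928) (BT.leaf (nat_lit 35288345)) (BT.leaf (nat_lit 41064977))) (BT.node (nat_lit 10181056) (BT.leaf (nat_lit 41064985)) (BT.leaf (nat_lit 41206549)))))))))))) (BT.node (nat_lit 10224960) (BT.node (nat_lit 10203968) (BT.node (nat_lit 10193600) (BT.node (nat_lit 10187008) (BT.node (nat_lit 10184064) (BT.node (nat_lit 10182976) (BT.node (nat_lit 10182144) (BT.node (nat_lit 10181440) (BT.node (nat_lit 10181248) (BT.node (nat_lit 10181184) (BT.leaf (nat_lit 41296153)) (BT.leaf (nat_lit 41204513))) (BT.node (nat_lit 10181376) (BT.leaf (nat_lit 41204505)) (BT.leaf (nat_lit 36971805)))) (BT.node (nat_lit 10181888) (BT.node (nat_lit 10181632) (BT.leaf (nat_lit 34874893)) (BT.leaf (nat_lit 35606805))) (BT.node (nat_lit 10182016) (BT.leaf (nat_lit 34458377)) (BT.leaf (nat_lit 34874905))))) (BT.node (nat_lit 10182720) (BT.node (nat_lit 10182400) (BT.node (nat_lit 10182208) (BT.leaf (nat_lit 40867337)) (BT.leaf (nat_lit 40867089))) (BT.node (nat_lit 10182592) (BT.leaf (nat_lit 41373217)) (BT.leaf (nat_lit 40694553)))) (BT.node (nat_lit 10182848) (BT.node (nat_lit 10182784) (BT.leaf (nat_lit 34875161)) (BT.leaf (nat_lit 34877957))) (BT.node (nat_lit 10182912) (BT.leaf (nat_lit 34877961)) (BT.leaf (nat_lit 34875413)))))) (BT.node (nat_lit 10183616) (BT.node (nat_lit 10183296) (BT.node (nat_lit 10183104) (BT.node (nat_lit 10183040) (BT.leaf (nat_lit 34768405)) (BT.leaf (nat_lit 34875925))) (BT.node (nat_lit 10183232) (BT.leaf (nat_lit 38831133)) (BT.leaf (nat_lit 34875417)))) (BT.node (nat_lit 10183488) (BT.node (nat_lit 10183360) (BT.leaf (nat_lit 34875673)) (BT.leaf (nat_lit 34875929))) (BT.node (nat_lit 10183552) (BT.leaf (nat_lit 34893069)) (BT.leaf (nat_lit 34893073))))) (BT.node (nat_lit 10183808) (BT.node (nat_lit 10183684) (BT.node (nat_lit 10183620) (BT.leaf (nat_lit 35103241)) (BT.leaf (nat_lit 637532))) (BT.node (nat_lit 10183744) (BT.leaf (nat_lit 637536)) (BT.leaf (nat_lit 34876185)))) (BT.node (nat_lit 10183936) (BT.node (nat_lit 10183872) (BT.leaf (nat_lit 40771081)) (BT.leaf (nat_lit 34904353))) (BT.node (nat_lit 10184000) (BT.leaf (nat_lit 40699929)) (BT.leaf (nat_lit 40700697))))))) (BT.node (nat_lit 10185472) (BT.node (nat_lit 10184640) (BT.node (nat_lit 10184384) (BT.node (nat_lit 10184256) (BT.node (nat_lit 10184192) (BT.leaf (nat_lit 41549081)) (BT.leaf (nat_lit 35806485))) (BT.node (nat_lit 10184320) (BT.leaf (nat_lit 35806489)) (BT.leaf (nat_lit 37891333)))) (BT.node (nat_lit 10184512) (BT.node (nat_lit 10184448) (BT.leaf (nat_lit 35805981)) (BT.leaf (nat_lit 37891361))) (BT.node (nat_lit 10184576) (BT.leaf (nat_lit 37891341)) (BT.leaf (nat_lit 35228697))))) (BT.node (nat_lit 10184896) (BT.node (nat_lit 10184768) (BT.node (nat_lit 10184704) (BT.leaf (nat_lit 35228701)) (BT.leaf (nat_lit 40865285))) (BT.node (nat_lit 10184832) (BT.leaf (nat_lit 40865289)) (BT.leaf (nat_lit 36473105)))) (BT.node (nat_lit 10185216) (BT.node (nat_lit 10185152) (BT.leaf (nat_lit 40865313)) (BT.leaf (nat_lit 37669909))) (BT.node (nat_lit 10185280) (BT.leaf (nat_lit 34473753)) (BT.leaf (nat_lit 36473121)))))) (BT.node (nat_lit 10185986) (BT.node (nat_lit 10185728) (BT.node (nat_lit 10185601) (BT.node (nat_lit 10185536) (BT.leaf (nat_lit 40676637)) (BT.leaf (nat_lit 34877713))) (BT.node (nat_lit 10185666) (BT.leaf (nat_lit 649784)) (BT.leaf (nat_lit 649780)))) (BT.node (nat_lit 10185920) (BT.node (nat_lit 10185792) (BT.leaf (nat_lit 40676377)) (BT.leaf (nat_lit 40864529))) (BT.node (nat_lit 10185984) (BT.leaf (nat_lit 38229785)) (BT.leaf (nat_lit 41303833))))) (BT.node (nat_lit 10186304) (BT.node (nat_lit 10186112) (BT.node (nat_lit 10186048) (BT.leaf (nat_lit 638528)) (BT.leaf (nat_lit 34877721))) (BT.node (nat_lit 10186176) (BT.leaf (nat_lit 34955549)) (BT.leaf (nat_lit 37783065)))) (BT.node (nat_lit 10186752) (BT.node (nat_lit 10186560) (BT.leaf (nat_lit 39022605)) (BT.leaf (nat_lit 38945805))) (BT.node (nat_lit 10186944) (BT.leaf (nat_lit 38945821)) (BT.leaf (nat_lit 38945797)))))))) (BT.node (nat_lit 10190336) (BT.node (nat_lit 10188480) (BT.node (nat_lit 10187648) (BT.node (nat_lit 10187328) (BT.node (nat_lit 10187136) (BT.node (nat_lit 10187072) (BT.leaf (nat_lit 38945801)) (BT.leaf (nat_lit 38945813))) (BT.node (nat_lit 10187200) (BT.leaf (nat_lit 40421905)) (BT.leaf (nat_lit 34878749)))) (BT.node (nat_lit 10187456) (BT.node (nat_lit 10187392) (BT.leaf (nat_lit 37884705)) (BT.leaf (nat_lit 39237401))) (BT.node (nat_lit 10187520) (BT.leaf (nat_lit 39237409)) (BT.leaf (nat_lit 36381957))))) (BT.node (nat_lit 10188032) (BT.node (nat_lit 10187904) (BT.node (nat_lit 10187712) (BT.leaf (nat_lit 34455057)) (BT.leaf (nat_lit 36381981))) (BT.node (nat_lit 10187968) (BT.leaf (nat_lit 35829517)) (BT.leaf (nat_lit 35829521)))) (BT.node (nat_lit 10188224) (BT.node (nat_lit 10188096) (BT.leaf (nat_lit 35829533)) (BT.leaf (nat_lit 35829537))) (BT.node (nat_lit 10188416) (BT.leaf (nat_lit 35410461)) (BT.leaf (nat_lit 40846357)))))) (BT.node (nat_lit 10189440) (BT.node (nat_lit 10189056) (BT.node (nat_lit 10188672) (BT.node (nat_lit 10188608) (BT.leaf (nat_lit 40846361)) (BT.leaf (nat_lit 39018521))) (BT.node (nat_lit 10188992) (BT.leaf (nat_lit 40846109)) (BT.leaf (nat_lit 40689925)))) (BT.node (nat_lit 10189184) (BT.node (nat_lit 10189120) (BT.leaf (nat_lit 38947857)) (BT.leaf (nat_lit 38947861))) (BT.node (nat_lit 10189248) (BT.leaf (nat_lit 38947869)) (BT.leaf (nat_lit 40115217))))) (BT.node (nat_lit 10189888) (BT.node (nat_lit 10189632) (BT.node (nat_lit 10189568) (BT.leaf (nat_lit 35804689)) (BT.leaf (nat_lit 35804697))) (BT.node (nat_lit 10189696) (BT.leaf (nat_lit 35804701)) (BT.leaf (nat_lit 35804705)))) (BT.node (nat_lit 10190016) (BT.node (nat_lit 10189952) (BT.leaf (nat_lit 35800837)) (BT.leaf (nat_lit 35800841))) (BT.node (nat_lit 10190272) (BT.leaf (nat_lit 34879257)) (BT.leaf (nat_lit 38137609))))))) (BT.node (nat_lit 10192064) (BT.node (nat_lit 10191360) (BT.node (nat_lit 10190784) (BT.node (nat_lit 10190656) (BT.node (nat_lit 10190400) (BT.leaf (nat_lit 40799237)) (BT.leaf (nat_lit 35102489))) (BT.node (nat_lit 10190720) (BT.leaf (nat_lit 40704521)) (BT.leaf (nat_lit 36635657)))) (BT.node (nat_lit 10191040) (BT.node (nat_lit 10190976) (BT.leaf (nat_lit 40700953)) (BT.leaf (nat_lit 36420893))) (BT.node (nat_lit 10191296) (BT.leaf (nat_lit 35885081)) (BT.leaf (nat_lit 40690949))))) (BT.node (nat_lit 10191552) (BT.node (nat_lit 10191425) (BT.node (nat_lit 10191424) (BT.leaf (nat_lit 34933765)) (BT.leaf (nat_lit 36973345))) (BT.node (nat_lit 10191488) (BT.leaf (nat_lit 637028)) (BT.leaf (nat_lit 40582661)))) (BT.node (nat_lit 10191808) (BT.node (nat_lit 10191616) (BT.leaf (nat_lit 40582665)) (BT.leaf (nat_lit 40685329))) (BT.node (nat_lit 10192000) (BT.leaf (nat_lit 34883345)) (BT.leaf (nat_lit 34883093)))))) (BT.node (nat_lit 10193024) (BT.node (nat_lit 10192512) (BT.node (nat_lit 10192320) (BT.node (nat_lit 10192192) (BT.leaf (nat_lit 34883349)) (BT.leaf (nat_lit 34883097))) (BT.node (nat_lit 10192384) (BT.leaf (nat_lit 40963333)) (BT.leaf (nat_lit 34883353)))) (BT.node (nat_lit 10192965) (BT.node (nat_lit 10192832) (BT.leaf (nat_lit 34883101)) (BT.leaf (nat_lit 34883089))) (BT.node (nat_lit 10192968) (BT.leaf (nat_lit 651916)) (BT.leaf (nat_lit 651916))))) (BT.node (nat_lit 10193344) (BT.node (nat_lit 10193152) (BT.node (nat_lit 10193088) (BT.leaf (nat_lit 41215769)) (BT.leaf (nat_lit 41216537))) (BT.node (nat_lit 10193216) (BT.leaf (nat_lit 36972041)) (BT.leaf (nat_lit 40451869)))) (BT.node (nat_lit 10193472) (BT.node (nat_lit 10193408) (BT.leaf (nat_lit 38476065)) (BT.leaf (nat_lit 35608069))) (BT.node (nat_lit 10193536) (BT.leaf (nat_lit 35608097)) (BT.leaf (nat_lit 34999573))))))))) (BT.node (nat_lit 10198464) (BT.node (nat_lit 10196165) (BT.node (nat_lit 10195328) (BT.node (nat_lit 10194304) (BT.node (nat_lit 10194048) (BT.node (nat_lit 10193920) (BT.node (nat_lit 10193856) (BT.leaf (nat_lit 34458901)) (BT.leaf (nat_lit 38661137))) (BT.node (nat_lit 10193984) (BT.leaf (nat_lit 34961161)) (BT.leaf (nat_lit 34961157)))) (BT.node (nat_lit 10194176) (BT.node (nat_lit 10194112) (BT.leaf (nat_lit 38661145)) (BT.leaf (nat_lit 37400085))) (BT.node (nat_lit 10194240) (BT.leaf (nat_lit 34884641)) (BT.leaf (nat_lit 34884897))))) (BT.node (nat_lit 10195072) (BT.node (nat_lit 10194688) (BT.node (nat_lit 10194560) (BT.leaf (nat_lit 34886157)) (BT.leaf (nat_lit 34846485))) (BT.node (nat_lit 10194752) (BT.leaf (nat_lit 34883613)) (BT.leaf (nat_lit 38304537)))) (BT.node (nat_lit 10195200) (BT.node (nat_lit 10195136) (BT.leaf (nat_lit 34884125)) (BT.leaf (nat_lit 34883873))) (BT.node (nat_lit 10195264) (BT.leaf (nat_lit 38096145)) (BT.leaf (nat_lit 38096149)))))) (BT.node (nat_lit 10195840) (BT.node (nat_lit 10195584) (BT.node (nat_lit 10195456) (BT.node (nat_lit 10195392) (BT.leaf (nat_lit 38096153)) (BT.leaf (nat_lit 34883853))) (BT.node (nat_lit 10195520) (BT.leaf (nat_lit 34961169)) (BT.leaf (nat_lit 34961177)))) (BT.node (nat_lit 10195712) (BT.node (nat_lit 10195648) (BT.leaf (nat_lit 41228549)) (BT.leaf (nat_lit 41228553))) (BT.node (nat_lit 10195776) (BT.leaf (nat_lit 41228561)) (BT.leaf (nat_lit 41228569))))) (BT.node (nat_lit 10196096) (BT.node (nat_lit 10195968) (BT.node (nat_lit 10195904) (BT.leaf (nat_lit 34853657)) (BT.leaf (nat_lit 41229073))) (BT.node (nat_lit 10196032) (BT.leaf (nat_lit 41229081)) (BT.leaf (nat_lit 34884869)))) (BT.node (nat_lit 10196161) (BT.node (nat_lit 10196160) (BT.leaf (nat_lit 34976021)) (BT.leaf (nat_lit 39520017))) (BT.node (nat_lit 10196163) (BT.leaf (nat_lit 640260)) (BT.leaf (nat_lit 640260))))))) (BT.node (nat_lit 10197256) (BT.node (nat_lit 10196928) (BT.node (nat_lit 10196480) (BT.node (nat_lit 10196288) (BT.node (nat_lit 10196224) (BT.leaf (nat_lit 640260)) (BT.leaf (nat_lit 34914577))) (BT.node (nat_lit 10196352) (BT.leaf (nat_lit 38243865)) (BT.leaf (nat_lit 40963845)))) (BT.node (nat_lit 10196672) (BT.node (nat_lit 10196608) (BT.leaf (nat_lit 40963857)) (BT.leaf (nat_lit 36934413))) (BT.node (nat_lit 10196864) (BT.leaf (nat_lit 36464161)) (BT.leaf (nat_lit 35286285))))) (BT.node (nat_lit 10197123) (BT.node (nat_lit 10197056) (BT.node (nat_lit 10196992) (BT.leaf (nat_lit 34889741)) (BT.leaf (nat_lit 38118673))) (BT.node (nat_lit 10197120) (BT.leaf (nat_lit 38118677)) (BT.leaf (nat_lit 40376605)))) (BT.node (nat_lit 10197184) (BT.node (nat_lit 10197128) (BT.leaf (nat_lit 637444)) (BT.leaf (nat_lit 637444))) (BT.node (nat_lit 10197248) (BT.leaf (nat_lit 34889761)) (BT.leaf (nat_lit 40546577)))))) (BT.node (nat_lit 10197760) (BT.node (nat_lit 10197504) (BT.node (nat_lit 10197379) (BT.node (nat_lit 10197312) (BT.leaf (nat_lit 637416)) (BT.leaf (nat_lit 37698849))) (BT.node (nat_lit 10197384) (BT.leaf (nat_lit 637452)) (BT.leaf (nat_lit 637452)))) (BT.node (nat_lit 10197632) (BT.node (nat_lit 10197568) (BT.leaf (nat_lit 34890765)) (BT.leaf (nat_lit 36118789))) (BT.node (nat_lit 10197696) (BT.leaf (nat_lit 36118797)) (BT.leaf (nat_lit 36118289))))) (BT.node (nat_lit 10198208) (BT.node (nat_lit 10198016) (BT.node (nat_lit 10197952) (BT.leaf (nat_lit 36088325)) (BT.leaf (nat_lit 34889501))) (BT.node (nat_lit 10198144) (BT.leaf (nat_lit 41073689)) (BT.leaf (nat_lit 41135641)))) (BT.node (nat_lit 10198336) (BT.node (nat_lit 10198272) (BT.leaf (nat_lit 35286297)) (BT.leaf (nat_lit 40491785))) (BT.node (nat_lit 10198400) (BT.leaf (nat_lit 37708293)) (BT.leaf (nat_lit 37708297)))))))) (BT.node (nat_lit 10201152) (BT.node (nat_lit 10199808) (BT.node (nat_lit 10199040) (BT.node (nat_lit 10198784) (BT.node (nat_lit 10198656) (BT.node (nat_lit 10198528) (BT.leaf (nat_lit 37708301)) (BT.leaf (nat_lit 37708309))) (BT.node (nat_lit 10198720) (BT.leaf (nat_lit 34890001)) (BT.leaf (nat_lit 37698821)))) (BT.node (nat_lit 10198912) (BT.node (nat_lit 10198848) (BT.leaf (nat_lit 37698825)) (BT.leaf (nat_lit 34889749))) (BT.node (nat_lit 10198976) (BT.leaf (nat_lit 37698833)) (BT.leaf (nat_lit 34890005))))) (BT.node (nat_lit 10199552) (BT.node (nat_lit 10199232) (BT.node (nat_lit 10199104) (BT.leaf (nat_lit 40104453)) (BT.leaf (nat_lit 34889753))) (BT.node (nat_lit 10199424) (BT.leaf (nat_lit 34890009)) (BT.leaf (nat_lit 34889757)))) (BT.node (nat_lit 10199680) (BT.node (nat_lit 10199616) (BT.leaf (nat_lit 41589253)) (BT.leaf (nat_lit 41589257))) (BT.node (nat_lit 10199744) (BT.leaf (nat_lit 41589261)) (BT.leaf (nat_lit 34819845)))))) (BT.node (nat_lit 10200448) (BT.node (nat_lit 10200128) (BT.node (nat_lit 10199936) (BT.node (nat_lit 10199872) (BT.leaf (nat_lit 38137605)) (BT.leaf (nat_lit 41589281))) (BT.node (nat_lit 10200000) (BT.leaf (nat_lit 37696785)) (BT.leaf (nat_lit 34890013)))) (BT.node (nat_lit 10200256) (BT.node (nat_lit 10200192) (BT.leaf (nat_lit 39897609)) (BT.leaf (nat_lit 39897605))) (BT.node (nat_lit 10200320) (BT.leaf (nat_lit 39897349)) (BT.leaf (nat_lit 38214417))))) (BT.node (nat_lit 10200896) (BT.node (nat_lit 10200576) (BT.node (nat_lit 10200512) (BT.leaf (nat_lit 34890773)) (BT.leaf (nat_lit 34893081))) (BT.node (nat_lit 10200768) (BT.leaf (nat_lit 34904349)) (BT.leaf (nat_lit 34769429)))) (BT.node (nat_lit 10201024) (BT.node (nat_lit 10200960) (BT.leaf (nat_lit 40038685)) (BT.leaf (nat_lit 40961029))) (BT.node (nat_lit 10201088) (BT.leaf (nat_lit 40960529)) (BT.leaf (nat_lit 40960541))))))) (BT.node (nat_lit 10202688) (BT.node (nat_lit 10201920) (BT.node (nat_lit 10201472) (BT.node (nat_lit 10201344) (BT.node (nat_lit 10201280) (BT.leaf (nat_lit 41738261)) (BT.leaf (nat_lit 41064717))) (BT.node (nat_lit 10201408) (BT.leaf (nat_lit 41064733)) (BT.leaf (nat_lit 35404829)))) (BT.node (nat_lit 10201792) (BT.node (nat_lit 10201728) (BT.leaf (nat_lit 34898209)) (BT.leaf (nat_lit 34899977))) (BT.node (nat_lit 10201856) (BT.leaf (nat_lit 34899973)) (BT.leaf (nat_lit 41367065))))) (BT.node (nat_lit 10202368) (BT.node (nat_lit 10202048) (BT.node (nat_lit 10201984) (BT.leaf (nat_lit 41247241)) (BT.leaf (nat_lit 41247245))) (BT.node (nat_lit 10202240) (BT.leaf (nat_lit 41247261)) (BT.leaf (nat_lit 34898453)))) (BT.node (nat_lit 10202560) (BT.node (nat_lit 10202432) (BT.leaf (nat_lit 34898709)) (BT.leaf (nat_lit 34898965))) (BT.node (nat_lit 10202624) (BT.leaf (nat_lit 38415393)) (BT.leaf (nat_lit 38406677)))))) (BT.node (nat_lit 10203264) (BT.node (nat_lit 10203008) (BT.node (nat_lit 10202880) (BT.node (nat_lit 10202752) (BT.leaf (nat_lit 38406685)) (BT.leaf (nat_lit 34898969))) (BT.node (nat_lit 10202944) (BT.leaf (nat_lit 34899477)) (BT.leaf (nat_lit 34899225)))) (BT.node (nat_lit 10203136) (BT.node (nat_lit 10203072) (BT.leaf (nat_lit 38415381)) (BT.leaf (nat_lit 38415389))) (BT.node (nat_lit 10203200) (BT.leaf (nat_lit 34899745)) (BT.leaf (nat_lit 39418897))))) (BT.node (nat_lit 10203712) (BT.node (nat_lit 10203392) (BT.node (nat_lit 10203328) (BT.leaf (nat_lit 39418901)) (BT.leaf (nat_lit 39418905))) (BT.node (nat_lit 10203456) (BT.leaf (nat_lit 39418909)) (BT.leaf (nat_lit 34899725)))) (BT.node (nat_lit 10203840) (BT.node (nat_lit 10203776) (BT.leaf (nat_lit 34899989)) (BT.leaf (nat_lit 41363981))) (BT.node (nat_lit 10203904) (BT.leaf (nat_lit 41363985)) (BT.leaf (nat_lit 41363993)))))))))) (BT.node (nat_lit 10214912) (BT.node (nat_lit 10209216) (BT.node (nat_lit 10206912) (BT.node (nat_lit 10205120) (BT.node (nat_lit 10204544) (BT.node (nat_lit 10204224) (BT.node (nat_lit 10204096) (BT.node (nat_lit 10204032) (BT.leaf (nat_lit 41363997)) (BT.leaf (nat_lit 41364001))) (BT.node (nat_lit 10204160) (BT.leaf (nat_lit 34144781)) (BT.leaf (nat_lit 39431961)))) (BT.node (nat_lit 10204416) (BT.node (nat_lit 10204288) (BT.leaf (nat_lit 36501261)) (BT.leaf (nat_lit 34900493))) (BT.node (nat_lit 10204480) (BT.leaf (nat_lit 39432217)) (BT.leaf (nat_lit 41724193))))) (BT.node (nat_lit 10204800) (BT.node (nat_lit 10204672) (BT.node (nat_lit 10204608) (BT.leaf (nat_lit 36501277)) (BT.leaf (nat_lit 38486809))) (BT.node (nat_lit 10204736) (BT.leaf (nat_lit 35822369)) (BT.leaf (nat_lit 41247237)))) (BT.node (nat_lit 10204992) (BT.node (nat_lit 10204928) (BT.leaf (nat_lit 36502297)) (BT.leaf (nat_lit 35822349))) (BT.node (nat_lit 10205056) (BT.leaf (nat_lit 34144777)) (BT.leaf (nat_lit 34144773)))))) (BT.node (nat_lit 10206208) (BT.node (nat_lit 10205632) (BT.node (nat_lit 10205440) (BT.node (nat_lit 10205184) (BT.leaf (nat_lit 34901517)) (BT.leaf (nat_lit 40689165))) (BT.node (nat_lit 10205504) (BT.leaf (nat_lit 40689157)) (BT.leaf (nat_lit 40689161)))) (BT.node (nat_lit 10205760) (BT.node (nat_lit 10205696) (BT.leaf (nat_lit 40689185)) (BT.leaf (nat_lit 41366549))) (BT.node (nat_lit 10205952) (BT.leaf (nat_lit 41366557)) (BT.leaf (nat_lit 35911173))))) (BT.node (nat_lit 10206464) (BT.node (nat_lit 10206336) (BT.node (nat_lit 10206272) (BT.leaf (nat_lit 34904085)) (BT.leaf (nat_lit 38489881))) (BT.node (nat_lit 10206400) (BT.leaf (nat_lit 34957841)) (BT.leaf (nat_lit 38994181)))) (BT.node (nat_lit 10206592) (BT.node (nat_lit 10206528) (BT.leaf (nat_lit 38994185)) (BT.leaf (nat_lit 38994189))) (BT.node (nat_lit 10206656) (BT.leaf (nat_lit 38994197)) (BT.leaf (nat_lit 34903313))))))) (BT.node (nat_lit 10208256) (BT.node (nat_lit 10207424) (BT.node (nat_lit 10207168) (BT.node (nat_lit 10207040) (BT.node (nat_lit 10206976) (BT.leaf (nat_lit 34903565)) (BT.leaf (nat_lit 34903821))) (BT.node (nat_lit 10207104) (BT.leaf (nat_lit 34904077)) (BT.leaf (nat_lit 34843909)))) (BT.node (nat_lit 10207296) (BT.node (nat_lit 10207232) (BT.leaf (nat_lit 36288017)) (BT.leaf (nat_lit 36288025))) (BT.node (nat_lit 10207360) (BT.leaf (nat_lit 41390853)) (BT.leaf (nat_lit 34906645))))) (BT.node (nat_lit 10207872) (BT.node (nat_lit 10207616) (BT.node (nat_lit 10207488) (BT.leaf (nat_lit 34907149)) (BT.leaf (nat_lit 37057029))) (BT.node (nat_lit 10207808) (BT.leaf (nat_lit 36088329)) (BT.leaf (nat_lit 38485273)))) (BT.node (nat_lit 10208128) (BT.node (nat_lit 10208000) (BT.leaf (nat_lit 38485529)) (BT.leaf (nat_lit 41063433))) (BT.node (nat_lit 10208192) (BT.leaf (nat_lit 34906629)) (BT.leaf (nat_lit 41357849)))))) (BT.node (nat_lit 10208774) (BT.node (nat_lit 10208640) (BT.node (nat_lit 10208384) (BT.node (nat_lit 10208320) (BT.leaf (nat_lit 34919185)) (BT.leaf (nat_lit 40992773))) (BT.node (nat_lit 10208512) (BT.leaf (nat_lit 34907937)) (BT.leaf (nat_lit 39535129)))) (BT.node (nat_lit 10208771) (BT.node (nat_lit 10208768) (BT.leaf (nat_lit 34907917)) (BT.leaf (nat_lit 41247257))) (BT.node (nat_lit 10208772) (BT.leaf (nat_lit 643940)) (BT.leaf (nat_lit 643940))))) (BT.node (nat_lit 10208960) (BT.node (nat_lit 10208776) (BT.node (nat_lit 10208775) (BT.leaf (nat_lit 643940)) (BT.leaf (nat_lit 643940))) (BT.node (nat_lit 10208832) (BT.leaf (nat_lit 643940)) (BT.leaf (nat_lit 34908689)))) (BT.node (nat_lit 10209088) (BT.node (nat_lit 10209024) (BT.leaf (nat_lit 34909201)) (BT.leaf (nat_lit 34959129))) (BT.node (nat_lit 10209152) (BT.leaf (nat_lit 34959133)) (BT.leaf (nat_lit 40277253)))))))) (BT.node (nat_lit 10212615) (BT.node (nat_lit 10211456) (BT.node (nat_lit 10210240) (BT.node (nat_lit 10209856) (BT.node (nat_lit 10209472) (BT.node (nat_lit 10209280) (BT.leaf (nat_lit 40481053)) (BT.leaf (nat_lit 37770265))) (BT.node (nat_lit 10209664) (BT.leaf (nat_lit 41114385)) (BT.leaf (nat_lit 40620065)))) (BT.node (nat_lit 10209984) (BT.node (nat_lit 10209920) (BT.leaf (nat_lit 38484493)) (BT.leaf (nat_lit 34912273))) (BT.node (nat_lit 10210112) (BT.leaf (nat_lit 34912529)) (BT.leaf (nat_lit 35861021))))) (BT.node (nat_lit 10210944) (BT.node (nat_lit 10210368) (BT.node (nat_lit 10210304) (BT.leaf (nat_lit 35147549)) (BT.leaf (nat_lit 35146013))) (BT.node (nat_lit 10210880) (BT.leaf (nat_lit 39152669)) (BT.leaf (nat_lit 35633165)))) (BT.node (nat_lit 10211200) (BT.node (nat_lit 10211008) (BT.leaf (nat_lit 34915857)) (BT.leaf (nat_lit 34983953))) (BT.node (nat_lit 10211392) (BT.leaf (nat_lit 40978693)) (BT.leaf (nat_lit 35300625)))))) (BT.node (nat_lit 10212096) (BT.node (nat_lit 10211712) (BT.node (nat_lit 10211584) (BT.node (nat_lit 10211520) (BT.leaf (nat_lit 34917137)) (BT.leaf (nat_lit 40753937))) (BT.node (nat_lit 10211648) (BT.leaf (nat_lit 40754205)) (BT.leaf (nat_lit 34917141)))) (BT.node (nat_lit 10211904) (BT.node (nat_lit 10211840) (BT.leaf (nat_lit 41504273)) (BT.leaf (nat_lit 41504285))) (BT.node (nat_lit 10212032) (BT.leaf (nat_lit 41436173)) (BT.leaf (nat_lit 35154977))))) (BT.node (nat_lit 10212352) (BT.node (nat_lit 10212224) (BT.node (nat_lit 10212160) (BT.leaf (nat_lit 35155473)) (BT.leaf (nat_lit 35155477))) (BT.node (nat_lit 10212288) (BT.leaf (nat_lit 35155481)) (BT.leaf (nat_lit 35155485)))) (BT.node (nat_lit 10212612) (BT.node (nat_lit 10212608) (BT.leaf (nat_lit 35154957)) (BT.leaf (nat_lit 38161669))) (BT.node (nat_lit 10212613) (BT.leaf (nat_lit 640992)) (BT.leaf (nat_lit 640992))))))) (BT.node (nat_lit 10213632) (BT.node (nat_lit 10213120) (BT.node (nat_lit 10212864) (BT.node (nat_lit 10212736) (BT.node (nat_lit 10212672) (BT.leaf (nat_lit 640992)) (BT.leaf (nat_lit 37763857))) (BT.node (nat_lit 10212800) (BT.leaf (nat_lit 35274261)) (BT.leaf (nat_lit 37763865)))) (BT.node (nat_lit 10212992) (BT.node (nat_lit 10212928) (BT.leaf (nat_lit 40914701)) (BT.leaf (nat_lit 39720477))) (BT.node (nat_lit 10213056) (BT.leaf (nat_lit 35126289)) (BT.leaf (nat_lit 38161433))))) (BT.node (nat_lit 10213376) (BT.node (nat_lit 10213248) (BT.node (nat_lit 10213184) (BT.leaf (nat_lit 38080793)) (BT.leaf (nat_lit 39504901))) (BT.node (nat_lit 10213312) (BT.leaf (nat_lit 39504905)) (BT.leaf (nat_lit 39504929)))) (BT.node (nat_lit 10213504) (BT.node (nat_lit 10213440) (BT.leaf (nat_lit 35258117)) (BT.leaf (nat_lit 35258121))) (BT.node (nat_lit 10213568) (BT.leaf (nat_lit 35258125)) (BT.leaf (nat_lit 35258133)))))) (BT.node (nat_lit 10214272) (BT.node (nat_lit 10213952) (BT.node (nat_lit 10213760) (BT.node (nat_lit 10213696) (BT.leaf (nat_lit 35257873)) (BT.leaf (nat_lit 38160909))) (BT.node (nat_lit 10213824) (BT.leaf (nat_lit 38160929)) (BT.leaf (nat_lit 35257877)))) (BT.node (nat_lit 10214080) (BT.node (nat_lit 10214016) (BT.leaf (nat_lit 35756313)) (BT.leaf (nat_lit 37695513))) (BT.node (nat_lit 10214144) (BT.leaf (nat_lit 39513617)) (BT.leaf (nat_lit 41749537))))) (BT.node (nat_lit 10214656) (BT.node (nat_lit 10214400) (BT.node (nat_lit 10214336) (BT.leaf (nat_lit 39129861)) (BT.leaf (nat_lit 39129865))) (BT.node (nat_lit 10214592) (BT.leaf (nat_lit 39129881)) (BT.leaf (nat_lit 36060961)))) (BT.node (nat_lit 10214784) (BT.node (nat_lit 10214720) (BT.leaf (nat_lit 39492117)) (BT.leaf (nat_lit 39492373))) (BT.node (nat_lit 10214848) (BT.leaf (nat_lit 39715593)) (BT.leaf (nat_lit 39715589))))))))) (BT.node (nat_lit 10220032) (BT.node (nat_lit 10217280) (BT.node (nat_lit 10216128) (BT.node (nat_lit 10215552) (BT.node (nat_lit 10215232) (BT.node (nat_lit 10215040) (BT.node (nat_lit 10214976) (BT.leaf (nat_lit 36060945)) (BT.leaf (nat_lit 38075917))) (BT.node (nat_lit 10215104) (BT.leaf (nat_lit 38313493)) (BT.leaf (nat_lit 40860185)))) (BT.node (nat_lit 10215360) (BT.node (nat_lit 10215296) (BT.leaf (nat_lit 39623969)) (BT.leaf (nat_lit 40539661))) (BT.node (nat_lit 10215488) (BT.leaf (nat_lit 40539653)) (BT.leaf (nat_lit 41224457))))) (BT.node (nat_lit 10215872) (BT.node (nat_lit 10215680) (BT.node (nat_lit 10215616) (BT.leaf (nat_lit 41224481)) (BT.leaf (nat_lit 37705493))) (BT.node (nat_lit 10215744) (BT.leaf (nat_lit 34833161)) (BT.leaf (nat_lit 36436757)))) (BT.node (nat_lit 10216000) (BT.node (nat_lit 10215936) (BT.leaf (nat_lit 36436745)) (BT.leaf (nat_lit 36436769))) (BT.node (nat_lit 10216064) (BT.leaf (nat_lit 40716293)) (BT.leaf (nat_lit 40731921)))))) (BT.node (nat_lit 10216640) (BT.node (nat_lit 10216384) (BT.node (nat_lit 10216256) (BT.node (nat_lit 10216192) (BT.leaf (nat_lit 40716301)) (BT.leaf (nat_lit 40716317))) (BT.node (nat_lit 10216320) (BT.leaf (nat_lit 41586957)) (BT.leaf (nat_lit 40738581)))) (BT.node (nat_lit 10216512) (BT.node (nat_lit 10216448) (BT.leaf (nat_lit 35885597)) (BT.leaf (nat_lit 38310921))) (BT.node (nat_lit 10216576) (BT.leaf (nat_lit 40864537)) (BT.leaf (nat_lit 40865053))))) (BT.node (nat_lit 10216896) (BT.node (nat_lit 10216768) (BT.node (nat_lit 10216704) (BT.leaf (nat_lit 34830597)) (BT.leaf (nat_lit 38602529))) (BT.node (nat_lit 10216832) (BT.leaf (nat_lit 40730377)) (BT.leaf (nat_lit 40728857)))) (BT.node (nat_lit 10217152) (BT.node (nat_lit 10217088) (BT.leaf (nat_lit 40728861)) (BT.leaf (nat_lit 40485145))) (BT.node (nat_lit 10217216) (BT.leaf (nat_lit 36793365)) (BT.leaf (nat_lit 36974089))))))) (BT.node (nat_lit 10218880) (BT.node (nat_lit 10218176) (BT.node (nat_lit 10217856) (BT.node (nat_lit 10217408) (BT.node (nat_lit 10217344) (BT.leaf (nat_lit 38510621)) (BT.leaf (nat_lit 40470285))) (BT.node (nat_lit 10217792) (BT.leaf (nat_lit 41658385)) (BT.leaf (nat_lit 40470281)))) (BT.node (nat_lit 10217984) (BT.node (nat_lit 10217920) (BT.leaf (nat_lit 40470293)) (BT.leaf (nat_lit 40470305))) (BT.node (nat_lit 10218112) (BT.leaf (nat_lit 41334025)) (BT.leaf (nat_lit 39466505))))) (BT.node (nat_lit 10218624) (BT.node (nat_lit 10218496) (BT.node (nat_lit 10218304) (BT.leaf (nat_lit 41658401)) (BT.leaf (nat_lit 34843657))) (BT.node (nat_lit 10218560) (BT.leaf (nat_lit 38292761)) (BT.leaf (nat_lit 40483361)))) (BT.node (nat_lit 10218752) (BT.node (nat_lit 10218688) (BT.leaf (nat_lit 40483341)) (BT.leaf (nat_lit 40469253))) (BT.node (nat_lit 10218816) (BT.leaf (nat_lit 40469257)) (BT.leaf (nat_lit 40469281)))))) (BT.node (nat_lit 10219520) (BT.node (nat_lit 10219200) (BT.node (nat_lit 10219008) (BT.node (nat_lit 10218944) (BT.leaf (nat_lit 35136033)) (BT.leaf (nat_lit 34918429))) (BT.node (nat_lit 10219072) (BT.leaf (nat_lit 40992777)) (BT.leaf (nat_lit 39527941)))) (BT.node (nat_lit 10219328) (BT.node (nat_lit 10219264) (BT.leaf (nat_lit 39527969)) (BT.leaf (nat_lit 34921505))) (BT.node (nat_lit 10219456) (BT.leaf (nat_lit 41577745)) (BT.leaf (nat_lit 34919453))))) (BT.node (nat_lit 10219776) (BT.node (nat_lit 10219648) (BT.node (nat_lit 10219584) (BT.leaf (nat_lit 36360973)) (BT.leaf (nat_lit 36730137))) (BT.node (nat_lit 10219712) (BT.leaf (nat_lit 41134341)) (BT.leaf (nat_lit 34919201)))) (BT.node (nat_lit 10219904) (BT.node (nat_lit 10219840) (BT.leaf (nat_lit 37521673)) (BT.leaf (nat_lit 37720077))) (BT.node (nat_lit 10219968) (BT.leaf (nat_lit 34974481)) (BT.leaf (nat_lit 41145361)))))))) (BT.node (nat_lit 10222528) (BT.node (nat_lit 10221440) (BT.node (nat_lit 10220608) (BT.node (nat_lit 10220288) (BT.node (nat_lit 10220160) (BT.node (nat_lit 10220096) (BT.leaf (nat_lit 34920221)) (BT.leaf (nat_lit 40827929))) (BT.node (nat_lit 10220224) (BT.leaf (nat_lit 37675805)) (BT.leaf (nat_lit 35207441)))) (BT.node (nat_lit 10220352) (BT.node (nat_lit 10220295) (BT.leaf (nat_lit 39585805)) (BT.leaf (nat_lit 649404))) (BT.node (nat_lit 10220416) (BT.leaf (nat_lit 35207453)) (BT.leaf (nat_lit 38995225))))) (BT.node (nat_lit 10221056) (BT.node (nat_lit 10220800) (BT.node (nat_lit 10220672) (BT.leaf (nat_lit 34920473)) (BT.leaf (nat_lit 34920985))) (BT.node (nat_lit 10220864) (BT.leaf (nat_lit 34921489)) (BT.leaf (nat_lit 37769505)))) (BT.node (nat_lit 10221184) (BT.node (nat_lit 10221120) (BT.leaf (nat_lit 35500045)) (BT.leaf (nat_lit 41262605))) (BT.node (nat_lit 10221376) (BT.leaf (nat_lit 41035041)) (BT.leaf (nat_lit 39940117)))))) (BT.node (nat_lit 10222016) (BT.node (nat_lit 10221760) (BT.node (nat_lit 10221632) (BT.node (nat_lit 10221568) (BT.leaf (nat_lit 41262101)) (BT.leaf (nat_lit 38475537))) (BT.node (nat_lit 10221696) (BT.leaf (nat_lit 40894749)) (BT.leaf (nat_lit 40895261)))) (BT.node (nat_lit 10221888) (BT.node (nat_lit 10221824) (BT.leaf (nat_lit 34460441)) (BT.leaf (nat_lit 40992525))) (BT.node (nat_lit 10221952) (BT.leaf (nat_lit 37507341)) (BT.leaf (nat_lit 39312921))))) (BT.node (nat_lit 10222272) (BT.node (nat_lit 10222144) (BT.node (nat_lit 10222080) (BT.leaf (nat_lit 34925073)) (BT.leaf (nat_lit 35210001))) (BT.node (nat_lit 10222208) (BT.leaf (nat_lit 35210009)) (BT.leaf (nat_lit 37308449)))) (BT.node (nat_lit 10222400) (BT.node (nat_lit 10222336) (BT.leaf (nat_lit 35216921)) (BT.leaf (nat_lit 35202585))) (BT.node (nat_lit 10222464) (BT.leaf (nat_lit 37797137)) (BT.leaf (nat_lit 37797145))))))) (BT.node (nat_lit 10223618) (BT.node (nat_lit 10223040) (BT.node (nat_lit 10222784) (BT.node (nat_lit 10222656) (BT.node (nat_lit 10222592) (BT.leaf (nat_lit 39041809)) (BT.leaf (nat_lit 39329037))) (BT.node (nat_lit 10222720) (BT.leaf (nat_lit 39329057)) (BT.leaf (nat_lit 35051273)))) (BT.node (nat_lit 10222912) (BT.node (nat_lit 10222848) (BT.leaf (nat_lit 35020573)) (BT.leaf (nat_lit 41388317))) (BT.node (nat_lit 10222976) (BT.leaf (nat_lit 37717269)) (BT.leaf (nat_lit 37724165))))) (BT.node (nat_lit 10223296) (BT.node (nat_lit 10223168) (BT.node (nat_lit 10223104) (BT.leaf (nat_lit 37724169)) (BT.leaf (nat_lit 40245017))) (BT.node (nat_lit 10223232) (BT.leaf (nat_lit 37724193)) (BT.leaf (nat_lit 38452485)))) (BT.node (nat_lit 10223424) (BT.node (nat_lit 10223360) (BT.leaf (nat_lit 39029765)) (BT.leaf (nat_lit 39029769))) (BT.node (nat_lit 10223616) (BT.leaf (nat_lit 39029793)) (BT.leaf (nat_lit 37781533)))))) (BT.node (nat_lit 10224256) (BT.node (nat_lit 10223936) (BT.node (nat_lit 10223744) (BT.node (nat_lit 10223680) (BT.leaf (nat_lit 641008)) (BT.leaf (nat_lit 38452257))) (BT.node (nat_lit 10223808) (BT.leaf (nat_lit 40886809)) (BT.leaf (nat_lit 34930705)))) (BT.node (nat_lit 10224064) (BT.node (nat_lit 10224000) (BT.leaf (nat_lit 38523417)) (BT.leaf (nat_lit 34932753))) (BT.node (nat_lit 10224192) (BT.leaf (nat_lit 37674017)) (BT.leaf (nat_lit 41339401))))) (BT.node (nat_lit 10224704) (BT.node (nat_lit 10224384) (BT.node (nat_lit 10224320) (BT.leaf (nat_lit 41340433)) (BT.leaf (nat_lit 38470945))) (BT.node (nat_lit 10224448) (BT.leaf (nat_lit 34933265)) (BT.leaf (nat_lit 34933521)))) (BT.node (nat_lit 10224832) (BT.node (nat_lit 10224768) (BT.leaf (nat_lit 36038421)) (BT.leaf (nat_lit 36038933))) (BT.node (nat_lit 10224896) (BT.leaf (nat_lit 34935069)) (BT.leaf (nat_lit 34935325))))))))))) (BT.node (nat_lit 10244608) (BT.node (nat_lit 10235008) (BT.node (nat_lit 10229888) (BT.node (nat_lit 10227392) (BT.node (nat_lit 10226048) (BT.node (nat_lit 10225472) (BT.node (nat_lit 10225216) (BT.node (nat_lit 10225088) (BT.node (nat_lit 10225024) (BT.leaf (nat_lit 35209221)) (BT.leaf (nat_lit 35209225))) (BT.node (nat_lit 10225152) (BT.leaf (nat_lit 35932941)) (BT.leaf (nat_lit 37016861)))) (BT.node (nat_lit 10225344) (BT.node (nat_lit 10225280) (BT.leaf (nat_lit 35209241)) (BT.leaf (nat_lit 37507337))) (BT.node (nat_lit 10225408) (BT.leaf (nat_lit 35974689)) (BT.leaf (nat_lit 40890393))))) (BT.node (nat_lit 10225792) (BT.node (nat_lit 10225600) (BT.node (nat_lit 10225536) (BT.leaf (nat_lit 40890397)) (BT.leaf (nat_lit 37056777))) (BT.node (nat_lit 10225728) (BT.leaf (nat_lit 35052317)) (BT.leaf (nat_lit 38468897)))) (BT.node (nat_lit 10225920) (BT.node (nat_lit 10225856) (BT.leaf (nat_lit 34992133)) (BT.leaf (nat_lit 34992137))) (BT.node (nat_lit 10225984) (BT.leaf (nat_lit 34992149)) (BT.leaf (nat_lit 35051797)))))) (BT.node (nat_lit 10226816) (BT.node (nat_lit 10226560) (BT.node (nat_lit 10226368) (BT.node (nat_lit 10226304) (BT.leaf (nat_lit 35051541)) (BT.leaf (nat_lit 34261025))) (BT.node (nat_lit 10226432) (BT.leaf (nat_lit 38387977)) (BT.leaf (nat_lit 41529869)))) (BT.node (nat_lit 10226688) (BT.node (nat_lit 10226624) (BT.leaf (nat_lit 35071253)) (BT.leaf (nat_lit 39548957))) (BT.node (nat_lit 10226752) (BT.leaf (nat_lit 39531801)) (BT.leaf (nat_lit 39531809))))) (BT.node (nat_lit 10227072) (BT.node (nat_lit 10226944) (BT.node (nat_lit 10226880) (BT.leaf (nat_lit 38514961)) (BT.leaf (nat_lit 38514969))) (BT.node (nat_lit 10227008) (BT.leaf (nat_lit 34985477)) (BT.leaf (nat_lit 41529889)))) (BT.node (nat_lit 10227264) (BT.node (nat_lit 10227200) (BT.leaf (nat_lit 39477789)) (BT.leaf (nat_lit 39477281))) (BT.node (nat_lit 10227328) (BT.leaf (nat_lit 37017097)) (BT.leaf (nat_lit 41530633))))))) (BT.node (nat_lit 10228544) (BT.node (nat_lit 10227904) (BT.node (nat_lit 10227648) (BT.node (nat_lit 10227520) (BT.node (nat_lit 10227456) (BT.leaf (nat_lit 38124317)) (BT.leaf (nat_lit 39042065))) (BT.node (nat_lit 10227584) (BT.leaf (nat_lit 40909073)) (BT.leaf (nat_lit 41171481)))) (BT.node (nat_lit 10227776) (BT.node (nat_lit 10227712) (BT.leaf (nat_lit 41031177)) (BT.leaf (nat_lit 41024033))) (BT.node (nat_lit 10227840) (BT.leaf (nat_lit 37793057)) (BT.leaf (nat_lit 35832597))))) (BT.node (nat_lit 10228224) (BT.node (nat_lit 10228032) (BT.node (nat_lit 10227968) (BT.leaf (nat_lit 39551265)) (BT.leaf (nat_lit 34510357))) (BT.node (nat_lit 10228096) (BT.leaf (nat_lit 39551237)) (BT.leaf (nat_lit 39549985)))) (BT.node (nat_lit 10228352) (BT.node (nat_lit 10228288) (BT.leaf (nat_lit 34593049)) (BT.leaf (nat_lit 39550989))) (BT.node (nat_lit 10228480) (BT.leaf (nat_lit 41019677)) (BT.leaf (nat_lit 40971285)))))) (BT.node (nat_lit 10229184) (BT.node (nat_lit 10228864) (BT.node (nat_lit 10228736) (BT.node (nat_lit 10228672) (BT.leaf (nat_lit 41023009)) (BT.leaf (nat_lit 40851989))) (BT.node (nat_lit 10228800) (BT.leaf (nat_lit 35783689)) (BT.leaf (nat_lit 35783685)))) (BT.node (nat_lit 10228992) (BT.node (nat_lit 10228928) (BT.leaf (nat_lit 35783693)) (BT.leaf (nat_lit 35944725))) (BT.node (nat_lit 10229120) (BT.leaf (nat_lit 34951437)) (BT.leaf (nat_lit 37400849))))) (BT.node (nat_lit 10229504) (BT.node (nat_lit 10229312) (BT.node (nat_lit 10229248) (BT.leaf (nat_lit 34595861)) (BT.leaf (nat_lit 38371097))) (BT.node (nat_lit 10229376) (BT.leaf (nat_lit 34946833)) (BT.leaf (nat_lit 34946837)))) (BT.node (nat_lit 10229760) (BT.node (nat_lit 10229696) (BT.leaf (nat_lit 39811081)) (BT.leaf (nat_lit 38844693))) (BT.node (nat_lit 10229824) (BT.leaf (nat_lit 39936517)) (BT.leaf (nat_lit 40914457)))))))) (BT.node (nat_lit 10232512) (BT.node (nat_lit 10230976) (BT.node (nat_lit 10230528) (BT.node (nat_lit 10230144) (BT.node (nat_lit 10230016) (BT.node (nat_lit 10229952) (BT.leaf (nat_lit 38970633)) (BT.leaf (nat_lit 39919649))) (BT.node (nat_lit 10230080) (BT.leaf (nat_lit 34949401)) (BT.leaf (nat_lit 35944205)))) (BT.node (nat_lit 10230400) (BT.node (nat_lit 10230336) (BT.leaf (nat_lit 35275289)) (BT.leaf (nat_lit 35086597))) (BT.node (nat_lit 10230464) (BT.leaf (nat_lit 35086601)) (BT.leaf (nat_lit 35086605))))) (BT.node (nat_lit 10230785) (BT.node (nat_lit 10230656) (BT.node (nat_lit 10230592) (BT.leaf (nat_lit 37413393)) (BT.leaf (nat_lit 35086621))) (BT.node (nat_lit 10230720) (BT.leaf (nat_lit 34945297)) (BT.leaf (nat_lit 34945305)))) (BT.node (nat_lit 10230848) (BT.node (nat_lit 10230789) (BT.leaf (nat_lit 645324)) (BT.leaf (nat_lit 645324))) (BT.node (nat_lit 10230912) (BT.leaf (nat_lit 35944981)) (BT.leaf (nat_lit 35944737)))))) (BT.node (nat_lit 10231744) (BT.node (nat_lit 10231109) (BT.node (nat_lit 10231106) (BT.node (nat_lit 10231105) (BT.leaf (nat_lit 34951953)) (BT.leaf (nat_lit 644120))) (BT.node (nat_lit 10231107) (BT.leaf (nat_lit 644120)) (BT.leaf (nat_lit 644120)))) (BT.node (nat_lit 10231112) (BT.node (nat_lit 10231110) (BT.leaf (nat_lit 644120)) (BT.leaf (nat_lit 644120))) (BT.node (nat_lit 10231488) (BT.leaf (nat_lit 644120)) (BT.leaf (nat_lit 39145737))))) (BT.node (nat_lit 10232192) (BT.node (nat_lit 10232000) (BT.node (nat_lit 10231872) (BT.leaf (nat_lit 34945817)) (BT.leaf (nat_lit 34534941))) (BT.node (nat_lit 10232128) (BT.leaf (nat_lit 34959121)) (BT.leaf (nat_lit 34953741)))) (BT.node (nat_lit 10232384) (BT.node (nat_lit 10232199) (BT.leaf (nat_lit 34954005)) (BT.leaf (nat_lit 644800))) (BT.node (nat_lit 10232448) (BT.leaf (nat_lit 39023121)) (BT.leaf (nat_lit 34954009))))))) (BT.node (nat_lit 10233664) (BT.node (nat_lit 10233024) (BT.node (nat_lit 10232768) (BT.node (nat_lit 10232640) (BT.node (nat_lit 10232576) (BT.leaf (nat_lit 41297673)) (BT.leaf (nat_lit 35094801))) (BT.node (nat_lit 10232704) (BT.leaf (nat_lit 35094809)) (BT.leaf (nat_lit 34596629)))) (BT.node (nat_lit 10232896) (BT.node (nat_lit 10232832) (BT.leaf (nat_lit 34956317)) (BT.leaf (nat_lit 39544069))) (BT.node (nat_lit 10232960) (BT.leaf (nat_lit 34955025)) (BT.leaf (nat_lit 34955029))))) (BT.node (nat_lit 10233408) (BT.node (nat_lit 10233216) (BT.node (nat_lit 10233088) (BT.leaf (nat_lit 34834705)) (BT.leaf (nat_lit 40234249))) (BT.node (nat_lit 10233344) (BT.leaf (nat_lit 36117017)) (BT.leaf (nat_lit 36717573)))) (BT.node (nat_lit 10233536) (BT.node (nat_lit 10233472) (BT.leaf (nat_lit 34955533)) (BT.leaf (nat_lit 37862161))) (BT.node (nat_lit 10233600) (BT.leaf (nat_lit 37862149)) (BT.leaf (nat_lit 37862153)))))) (BT.node (nat_lit 10234304) (BT.node (nat_lit 10234112) (BT.node (nat_lit 10233920) (BT.node (nat_lit 10233728) (BT.leaf (nat_lit 37862169)) (BT.leaf (nat_lit 34956565))) (BT.node (nat_lit 10233984) (BT.leaf (nat_lit 34966541)) (BT.leaf (nat_lit 34966545)))) (BT.node (nat_lit 10234241) (BT.node (nat_lit 10234176) (BT.leaf (nat_lit 34966561)) (BT.leaf (nat_lit 34964753))) (BT.node (nat_lit 10234242) (BT.leaf (nat_lit 639656)) (BT.leaf (nat_lit 639656))))) (BT.node (nat_lit 10234624) (BT.node (nat_lit 10234496) (BT.node (nat_lit 10234368) (BT.leaf (nat_lit 34964761)) (BT.leaf (nat_lit 34964765))) (BT.node (nat_lit 10234560) (BT.leaf (nat_lit 34964757)) (BT.leaf (nat_lit 37212169)))) (BT.node (nat_lit 10234816) (BT.node (nat_lit 10234752) (BT.leaf (nat_lit 35974177)) (BT.leaf (nat_lit 35286793))) (BT.node (nat_lit 10234880) (BT.leaf (nat_lit 34957081)) (BT.leaf (nat_lit 35286813))))))))) (BT.node (nat_lit 10239680) (BT.node (nat_lit 10237376) (BT.node (nat_lit 10236160) (BT.node (nat_lit 10235520) (BT.node (nat_lit 10235264) (BT.node (nat_lit 10235136) (BT.node (nat_lit 10235072) (BT.leaf (nat_lit 34962185)) (BT.leaf (nat_lit 34957853))) (BT.node (nat_lit 10235200) (BT.leaf (nat_lit 34959633)) (BT.leaf (nat_lit 35877405)))) (BT.node (nat_lit 10235392) (BT.node (nat_lit 10235328) (BT.leaf (nat_lit 35894533)) (BT.leaf (nat_lit 35203605))) (BT.node (nat_lit 10235456) (BT.leaf (nat_lit 34994969)) (BT.leaf (nat_lit 34957337))))) (BT.node (nat_lit 10235776) (BT.node (nat_lit 10235648) (BT.node (nat_lit 10235584) (BT.leaf (nat_lit 38285849)) (BT.leaf (nat_lit 38285853))) (BT.node (nat_lit 10235712) (BT.leaf (nat_lit 40481033)) (BT.leaf (nat_lit 40481029)))) (BT.node (nat_lit 10236032) (BT.node (nat_lit 10235968) (BT.leaf (nat_lit 40492577)) (BT.leaf (nat_lit 35632669))) (BT.node (nat_lit 10236096) (BT.leaf (nat_lit 37696029)) (BT.leaf (nat_lit 41246997)))))) (BT.node (nat_lit 10236672) (BT.node (nat_lit 10236416) (BT.node (nat_lit 10236288) (BT.node (nat_lit 10236224) (BT.leaf (nat_lit 36983061)) (BT.leaf (nat_lit 34960149))) (BT.node (nat_lit 10236352) (BT.leaf (nat_lit 38197021)) (BT.leaf (nat_lit 36983573)))) (BT.node (nat_lit 10236544) (BT.node (nat_lit 10236480) (BT.leaf (nat_lit 38198301)) (BT.leaf (nat_lit 36984085))) (BT.node (nat_lit 10236608) (BT.leaf (nat_lit 34470677)) (BT.leaf (nat_lit 35531037))))) (BT.node (nat_lit 10237056) (BT.node (nat_lit 10236800) (BT.node (nat_lit 10236736) (BT.leaf (nat_lit 37026569)) (BT.leaf (nat_lit 34960921))) (BT.node (nat_lit 10236992) (BT.leaf (nat_lit 40493849)) (BT.leaf (nat_lit 34962189)))) (BT.node (nat_lit 10237184) (BT.node (nat_lit 10237120) (BT.leaf (nat_lit 38986513)) (BT.leaf (nat_lit 38986517))) (BT.node (nat_lit 10237248) (BT.leaf (nat_lit 38986521)) (BT.leaf (nat_lit 34962181))))))) (BT.node (nat_lit 10238784) (BT.node (nat_lit 10238208) (BT.node (nat_lit 10237888) (BT.node (nat_lit 10237760) (BT.node (nat_lit 10237440) (BT.leaf (nat_lit 34962449)) (BT.leaf (nat_lit 37020937))) (BT.node (nat_lit 10237824) (BT.leaf (nat_lit 38290445)) (BT.leaf (nat_lit 38290441)))) (BT.node (nat_lit 10238016) (BT.node (nat_lit 10237952) (BT.leaf (nat_lit 39339033)) (BT.leaf (nat_lit 41382921))) (BT.node (nat_lit 10238144) (BT.leaf (nat_lit 41385221)) (BT.leaf (nat_lit 38490145))))) (BT.node (nat_lit 10238464) (BT.node (nat_lit 10238400) (BT.node (nat_lit 10238336) (BT.leaf (nat_lit 34998049)) (BT.leaf (nat_lit 40226081))) (BT.node (nat_lit 10238406) (BT.leaf (nat_lit 41383969)) (BT.leaf (nat_lit 640560)))) (BT.node (nat_lit 10238656) (BT.node (nat_lit 10238528) (BT.leaf (nat_lit 34998033)) (BT.leaf (nat_lit 40168469))) (BT.node (nat_lit 10238720) (BT.leaf (nat_lit 40168477)) (BT.leaf (nat_lit 38310413)))))) (BT.node (nat_lit 10239296) (BT.node (nat_lit 10239040) (BT.node (nat_lit 10238912) (BT.node (nat_lit 10238848) (BT.leaf (nat_lit 38306077)) (BT.leaf (nat_lit 38488093))) (BT.node (nat_lit 10238976) (BT.leaf (nat_lit 35628805)) (BT.leaf (nat_lit 35628809)))) (BT.node (nat_lit 10239168) (BT.node (nat_lit 10239104) (BT.leaf (nat_lit 39328261)) (BT.leaf (nat_lit 34965509))) (BT.node (nat_lit 10239232) (BT.leaf (nat_lit 40697109)) (BT.leaf (nat_lit 38098437))))) (BT.node (nat_lit 10239424) (BT.node (nat_lit 10239304) (BT.node (nat_lit 10239301) (BT.leaf (nat_lit 34966553)) (BT.leaf (nat_lit 640240))) (BT.node (nat_lit 10239360) (BT.leaf (nat_lit 640240)) (BT.leaf (nat_lit 36988941)))) (BT.node (nat_lit 10239552) (BT.node (nat_lit 10239488) (BT.leaf (nat_lit 39286813)) (BT.leaf (nat_lit 39584797))) (BT.node (nat_lit 10239616) (BT.leaf (nat_lit 40954901)) (BT.leaf (nat_lit 36019729)))))))) (BT.node (nat_lit 10242112) (BT.node (nat_lit 10240768) (BT.node (nat_lit 10240256) (BT.node (nat_lit 10240000) (BT.node (nat_lit 10239872) (BT.node (nat_lit 10239744) (BT.leaf (nat_lit 34968341)) (BT.leaf (nat_lit 34968849))) (BT.node (nat_lit 10239936) (BT.leaf (nat_lit 38307865)) (BT.leaf (nat_lit 38307869)))) (BT.node (nat_lit 10240128) (BT.node (nat_lit 10240064) (BT.leaf (nat_lit 34969617)) (BT.leaf (nat_lit 34197521))) (BT.node (nat_lit 10240192) (BT.leaf (nat_lit 40803853)) (BT.leaf (nat_lit 40803845))))) (BT.node (nat_lit 10240512) (BT.node (nat_lit 10240384) (BT.node (nat_lit 10240320) (BT.leaf (nat_lit 36986901)) (BT.leaf (nat_lit 40379937))) (BT.node (nat_lit 10240448) (BT.leaf (nat_lit 40380193)) (BT.leaf (nat_lit 40934165)))) (BT.node (nat_lit 10240640) (BT.node (nat_lit 10240576) (BT.leaf (nat_lit 40380169)) (BT.leaf (nat_lit 34398241))) (BT.node (nat_lit 10240704) (BT.leaf (nat_lit 38277637)) (BT.leaf (nat_lit 38277641)))))) (BT.node (nat_lit 10241344) (BT.node (nat_lit 10241088) (BT.node (nat_lit 10240960) (BT.node (nat_lit 10240832) (BT.leaf (nat_lit 38277653)) (BT.leaf (nat_lit 40382753))) (BT.node (nat_lit 10241024) (BT.leaf (nat_lit 36990229)) (BT.leaf (nat_lit 41485345)))) (BT.node (nat_lit 10241216) (BT.node (nat_lit 10241152) (BT.leaf (nat_lit 34970657)) (BT.leaf (nat_lit 37100317))) (BT.node (nat_lit 10241280) (BT.leaf (nat_lit 40142349)) (BT.leaf (nat_lit 40142357))))) (BT.node (nat_lit 10241792) (BT.node (nat_lit 10241472) (BT.node (nat_lit 10241408) (BT.leaf (nat_lit 34158865)) (BT.leaf (nat_lit 38260249))) (BT.node (nat_lit 10241664) (BT.leaf (nat_lit 38259733)) (BT.leaf (nat_lit 34972433)))) (BT.node (nat_lit 10241984) (BT.node (nat_lit 10241920) (BT.leaf (nat_lit 39701261)) (BT.leaf (nat_lit 37420309))) (BT.node (nat_lit 10242048) (BT.leaf (nat_lit 35610377)) (BT.leaf (nat_lit 35610373))))))) (BT.node (nat_lit 10243264) (BT.node (nat_lit 10242688) (BT.node (nat_lit 10242368) (BT.node (nat_lit 10242240) (BT.node (nat_lit 10242176) (BT.leaf (nat_lit 35610381)) (BT.leaf (nat_lit 38290181))) (BT.node (nat_lit 10242304) (BT.leaf (nat_lit 38290185)) (BT.leaf (nat_lit 38290197)))) (BT.node (nat_lit 10242560) (BT.node (nat_lit 10242496) (BT.leaf (nat_lit 38994721)) (BT.leaf (nat_lit 38515993))) (BT.node (nat_lit 10242624) (BT.leaf (nat_lit 38515997)) (BT.leaf (nat_lit 36821001))))) (BT.node (nat_lit 10242944) (BT.node (nat_lit 10242816) (BT.node (nat_lit 10242752) (BT.leaf (nat_lit 41079837)) (BT.leaf (nat_lit 41569565))) (BT.node (nat_lit 10242880) (BT.leaf (nat_lit 40889633)) (BT.leaf (nat_lit 40889889)))) (BT.node (nat_lit 10243136) (BT.node (nat_lit 10243072) (BT.leaf (nat_lit 40410645)) (BT.leaf (nat_lit 39321093))) (BT.node (nat_lit 10243200) (BT.leaf (nat_lit 39321097)) (BT.leaf (nat_lit 34979869)))))) (BT.node (nat_lit 10244032) (BT.node (nat_lit 10243712) (BT.node (nat_lit 10243392) (BT.node (nat_lit 10243328) (BT.leaf (nat_lit 39321113)) (BT.leaf (nat_lit 39321121))) (BT.node (nat_lit 10243648) (BT.leaf (nat_lit 38290713)) (BT.leaf (nat_lit 41655841)))) (BT.node (nat_lit 10243840) (BT.node (nat_lit 10243776) (BT.leaf (nat_lit 34981649)) (BT.leaf (nat_lit 34981905))) (BT.node (nat_lit 10243904) (BT.leaf (nat_lit 34973713)) (BT.leaf (nat_lit 36994321))))) (BT.node (nat_lit 10244352) (BT.node (nat_lit 10244160) (BT.node (nat_lit 10244096) (BT.leaf (nat_lit 41287173)) (BT.leaf (nat_lit 35611665))) (BT.node (nat_lit 10244288) (BT.leaf (nat_lit 34976029)) (BT.leaf (nat_lit 34985233)))) (BT.node (nat_lit 10244480) (BT.node (nat_lit 10244416) (BT.leaf (nat_lit 40274461)) (BT.leaf (nat_lit 35839509))) (BT.node (nat_lit 10244544) (BT.leaf (nat_lit 34988805)) (BT.leaf (nat_lit 34974741)))))))))) (BT.node (nat_lit 10254528) (BT.node (nat_lit 10249664) (BT.node (nat_lit 10246976) (BT.node (nat_lit 10245568) (BT.node (nat_lit 10245061) (BT.node (nat_lit 10244992) (BT.node (nat_lit 10244736) (BT.node (nat_lit 10244672) (BT.leaf (nat_lit 39477017)) (BT.leaf (nat_lit 34722325))) (BT.node (nat_lit 10244800) (BT.leaf (nat_lit 39097101)) (BT.leaf (nat_lit 34985505)))) (BT.node (nat_lit 10245058) (BT.node (nat_lit 10245056) (BT.leaf (nat_lit 34987549)) (BT.leaf (nat_lit 34990097))) (BT.node (nat_lit 10245059) (BT.leaf (nat_lit 646716)) (BT.leaf (nat_lit 646716))))) (BT.node (nat_lit 10245312) (BT.node (nat_lit 10245184) (BT.node (nat_lit 10245120) (BT.leaf (nat_lit 646716)) (BT.leaf (nat_lit 37717509))) (BT.node (nat_lit 10245248) (BT.leaf (nat_lit 37717513)) (BT.leaf (nat_lit 37717517)))) (BT.node (nat_lit 10245440) (BT.node (nat_lit 10245376) (BT.leaf (nat_lit 34987537)) (BT.leaf (nat_lit 34988305))) (BT.node (nat_lit 10245504) (BT.leaf (nat_lit 41572893)) (BT.leaf (nat_lit 37717537)))))) (BT.node (nat_lit 10246144) (BT.node (nat_lit 10245824) (BT.node (nat_lit 10245696) (BT.node (nat_lit 10245632) (BT.leaf (nat_lit 41400589)) (BT.leaf (nat_lit 35957025))) (BT.node (nat_lit 10245760) (BT.leaf (nat_lit 41400353)) (BT.leaf (nat_lit 41400609)))) (BT.node (nat_lit 10245952) (BT.node (nat_lit 10245888) (BT.leaf (nat_lit 40061197)) (BT.leaf (nat_lit 35475985))) (BT.node (nat_lit 10246080) (BT.leaf (nat_lit 35475993)) (BT.leaf (nat_lit 41426969))))) (BT.node (nat_lit 10246404) (BT.node (nat_lit 10246336) (BT.node (nat_lit 10246208) (BT.leaf (nat_lit 36996373)) (BT.leaf (nat_lit 34990625))) (BT.node (nat_lit 10246400) (BT.leaf (nat_lit 34991121)) (BT.leaf (nat_lit 40081929)))) (BT.node (nat_lit 10246784) (BT.node (nat_lit 10246464) (BT.leaf (nat_lit 648060)) (BT.leaf (nat_lit 35003161))) (BT.node (nat_lit 10246848) (BT.leaf (nat_lit 40096537)) (BT.leaf (nat_lit 41428741))))))) (BT.node (nat_lit 10248192) (BT.node (nat_lit 10247616) (BT.node (nat_lit 10247232) (BT.node (nat_lit 10247104) (BT.node (nat_lit 10247040) (BT.leaf (nat_lit 34991377)) (BT.leaf (nat_lit 34991633))) (BT.node (nat_lit 10247168) (BT.leaf (nat_lit 39640593)) (BT.leaf (nat_lit 41076245)))) (BT.node (nat_lit 10247488) (BT.node (nat_lit 10247424) (BT.leaf (nat_lit 35327249)) (BT.leaf (nat_lit 39343389))) (BT.node (nat_lit 10247552) (BT.leaf (nat_lit 34992157)) (BT.leaf (nat_lit 34993169))))) (BT.node (nat_lit 10247936) (BT.node (nat_lit 10247808) (BT.node (nat_lit 10247744) (BT.leaf (nat_lit 34993425)) (BT.leaf (nat_lit 35112209))) (BT.node (nat_lit 10247872) (BT.leaf (nat_lit 39321885)) (BT.leaf (nat_lit 35049225)))) (BT.node (nat_lit 10248064) (BT.node (nat_lit 10248000) (BT.leaf (nat_lit 34995225)) (BT.leaf (nat_lit 40878101))) (BT.node (nat_lit 10248128) (BT.leaf (nat_lit 34996253)) (BT.leaf (nat_lit 39027717)))))) (BT.node (nat_lit 10248832) (BT.node (nat_lit 10248512) (BT.node (nat_lit 10248384) (BT.node (nat_lit 10248256) (BT.leaf (nat_lit 36438805)) (BT.leaf (nat_lit 34996765))) (BT.node (nat_lit 10248448) (BT.leaf (nat_lit 35844629)) (BT.leaf (nat_lit 40655117)))) (BT.node (nat_lit 10248704) (BT.node (nat_lit 10248640) (BT.leaf (nat_lit 41206045)) (BT.leaf (nat_lit 37916689))) (BT.node (nat_lit 10248768) (BT.leaf (nat_lit 35665177)) (BT.leaf (nat_lit 35104521))))) (BT.node (nat_lit 10249280) (BT.node (nat_lit 10248960) (BT.node (nat_lit 10248896) (BT.leaf (nat_lit 34997265)) (BT.leaf (nat_lit 39322649))) (BT.node (nat_lit 10249152) (BT.leaf (nat_lit 34998029)) (BT.leaf (nat_lit 40880417)))) (BT.node (nat_lit 10249536) (BT.node (nat_lit 10249344) (BT.leaf (nat_lit 39349021)) (BT.leaf (nat_lit 34654225))) (BT.node (nat_lit 10249600) (BT.leaf (nat_lit 36995093)) (BT.leaf (nat_lit 34998549)))))))) (BT.node (nat_lit 10251968) (BT.node (nat_lit 10250944) (BT.node (nat_lit 10250432) (BT.node (nat_lit 10249920) (BT.node (nat_lit 10249792) (BT.node (nat_lit 10249728) (BT.leaf (nat_lit 34999053)) (BT.leaf (nat_lit 36995605))) (BT.node (nat_lit 10249856) (BT.leaf (nat_lit 34999061)) (BT.leaf (nat_lit 34938133)))) (BT.node (nat_lit 10250112) (BT.node (nat_lit 10249984) (BT.leaf (nat_lit 34999833)) (BT.leaf (nat_lit 37834781))) (BT.node (nat_lit 10250176) (BT.leaf (nat_lit 41492497)) (BT.leaf (nat_lit 35000341))))) (BT.node (nat_lit 10250688) (BT.node (nat_lit 10250560) (BT.node (nat_lit 10250496) (BT.leaf (nat_lit 40219673)) (BT.leaf (nat_lit 36120849))) (BT.node (nat_lit 10250624) (BT.leaf (nat_lit 36120857)) (BT.leaf (nat_lit 41111585)))) (BT.node (nat_lit 10250816) (BT.node (nat_lit 10250752) (BT.leaf (nat_lit 36591633)) (BT.leaf (nat_lit 41404181))) (BT.node (nat_lit 10250880) (BT.leaf (nat_lit 35000849)) (BT.leaf (nat_lit 35000853)))))) (BT.node (nat_lit 10251456) (BT.node (nat_lit 10251264) (BT.node (nat_lit 10251136) (BT.node (nat_lit 10251008) (BT.leaf (nat_lit 34828305)) (BT.leaf (nat_lit 40881181))) (BT.node (nat_lit 10251200) (BT.leaf (nat_lit 41115169)) (BT.leaf (nat_lit 38322965)))) (BT.node (nat_lit 10251392) (BT.node (nat_lit 10251328) (BT.leaf (nat_lit 36487193)) (BT.leaf (nat_lit 35001113))) (BT.node (nat_lit 10251398) (BT.leaf (nat_lit 36120349)) (BT.leaf (nat_lit 646208))))) (BT.node (nat_lit 10251712) (BT.node (nat_lit 10251584) (BT.node (nat_lit 10251520) (BT.leaf (nat_lit 35001625)) (BT.leaf (nat_lit 35003145))) (BT.node (nat_lit 10251648) (BT.leaf (nat_lit 35003141)) (BT.leaf (nat_lit 35002141)))) (BT.node (nat_lit 10251840) (BT.node (nat_lit 10251776) (BT.leaf (nat_lit 35003149)) (BT.leaf (nat_lit 36999445))) (BT.node (nat_lit 10251904) (BT.leaf (nat_lit 35597337)) (BT.leaf (nat_lit 35003157))))))) (BT.node (nat_lit 10253312) (BT.node (nat_lit 10252800) (BT.node (nat_lit 10252288) (BT.node (nat_lit 10252096) (BT.node (nat_lit 10252032) (BT.leaf (nat_lit 40074769)) (BT.leaf (nat_lit 38184989))) (BT.node (nat_lit 10252160) (BT.leaf (nat_lit 35163149)) (BT.leaf (nat_lit 35003421)))) (BT.node (nat_lit 10252672) (BT.node (nat_lit 10252544) (BT.leaf (nat_lit 35003677)) (BT.leaf (nat_lit 34138645))) (BT.node (nat_lit 10252736) (BT.leaf (nat_lit 38426377)) (BT.leaf (nat_lit 38426373))))) (BT.node (nat_lit 10253056) (BT.node (nat_lit 10252928) (BT.node (nat_lit 10252864) (BT.leaf (nat_lit 40289037)) (BT.leaf (nat_lit 37766149))) (BT.node (nat_lit 10252992) (BT.leaf (nat_lit 37766153)) (BT.leaf (nat_lit 35005717)))) (BT.node (nat_lit 10253184) (BT.node (nat_lit 10253120) (BT.leaf (nat_lit 37766169)) (BT.leaf (nat_lit 39988241))) (BT.node (nat_lit 10253248) (BT.leaf (nat_lit 37543193)) (BT.leaf (nat_lit 37543449)))))) (BT.node (nat_lit 10253952) (BT.node (nat_lit 10253632) (BT.node (nat_lit 10253440) (BT.node (nat_lit 10253376) (BT.leaf (nat_lit 36760853)) (BT.leaf (nat_lit 36760861))) (BT.node (nat_lit 10253504) (BT.leaf (nat_lit 37196573)) (BT.leaf (nat_lit 39785745)))) (BT.node (nat_lit 10253760) (BT.node (nat_lit 10253696) (BT.leaf (nat_lit 37773593)) (BT.leaf (nat_lit 39999757))) (BT.node (nat_lit 10253888) (BT.leaf (nat_lit 34163729)) (BT.leaf (nat_lit 38565665))))) (BT.node (nat_lit 10254208) (BT.node (nat_lit 10254080) (BT.node (nat_lit 10254016) (BT.leaf (nat_lit 35175957)) (BT.leaf (nat_lit 35085593))) (BT.node (nat_lit 10254144) (BT.leaf (nat_lit 35025941)) (BT.leaf (nat_lit 35006997)))) (BT.node (nat_lit 10254336) (BT.node (nat_lit 10254272) (BT.leaf (nat_lit 35004177)) (BT.leaf (nat_lit 35007257))) (BT.node (nat_lit 10254400) (BT.leaf (nat_lit 40584201)) (BT.leaf (nat_lit 40595233))))))))) (BT.node (nat_lit 10258944) (BT.node (nat_lit 10256768) (BT.node (nat_lit 10255616) (BT.node (nat_lit 10255104) (BT.node (nat_lit 10254848) (BT.node (nat_lit 10254656) (BT.node (nat_lit 10254592) (BT.leaf (nat_lit 38415113)) (BT.leaf (nat_lit 38831121))) (BT.node (nat_lit 10254720) (BT.leaf (nat_lit 35008789)) (BT.leaf (nat_lit 40710421)))) (BT.node (nat_lit 10254976) (BT.node (nat_lit 10254912) (BT.leaf (nat_lit 35009297)) (BT.leaf (nat_lit 35988237))) (BT.node (nat_lit 10255040) (BT.leaf (nat_lit 38567441)) (BT.leaf (nat_lit 35010321))))) (BT.node (nat_lit 10255360) (BT.node (nat_lit 10255232) (BT.node (nat_lit 10255168) (BT.leaf (nat_lit 38567445)) (BT.leaf (nat_lit 37630225))) (BT.node (nat_lit 10255296) (BT.leaf (nat_lit 35246345)) (BT.leaf (nat_lit 35019021)))) (BT.node (nat_lit 10255488) (BT.node (nat_lit 10255424) (BT.leaf (nat_lit 39925525)) (BT.leaf (nat_lit 36460309))) (BT.node (nat_lit 10255552) (BT.leaf (nat_lit 35011089)) (BT.leaf (nat_lit 36618253)))))) (BT.node (nat_lit 10256192) (BT.node (nat_lit 10255872) (BT.node (nat_lit 10255744) (BT.node (nat_lit 10255680) (BT.leaf (nat_lit 39474185)) (BT.leaf (nat_lit 39474209))) (BT.node (nat_lit 10255808) (BT.leaf (nat_lit 39798041)) (BT.leaf (nat_lit 37407497)))) (BT.node (nat_lit 10256064) (BT.node (nat_lit 10256000) (BT.leaf (nat_lit 40914721)) (BT.leaf (nat_lit 37776397))) (BT.node (nat_lit 10256128) (BT.leaf (nat_lit 35275277)) (BT.leaf (nat_lit 40886797))))) (BT.node (nat_lit 10256512) (BT.node (nat_lit 10256384) (BT.node (nat_lit 10256256) (BT.leaf (nat_lit 35597073)) (BT.leaf (nat_lit 35597585))) (BT.node (nat_lit 10256448) (BT.leaf (nat_lit 38333729)) (BT.leaf (nat_lit 35013665)))) (BT.node (nat_lit 10256640) (BT.node (nat_lit 10256576) (BT.leaf (nat_lit 38433313)) (BT.leaf (nat_lit 41176089))) (BT.node (nat_lit 10256704) (BT.leaf (nat_lit 38520585)) (BT.leaf (nat_lit 36090117))))))) (BT.node (nat_lit 10257920) (BT.node (nat_lit 10257280) (BT.node (nat_lit 10257024) (BT.node (nat_lit 10256896) (BT.node (nat_lit 10256832) (BT.leaf (nat_lit 36090121)) (BT.leaf (nat_lit 36090133))) (BT.node (nat_lit 10256960) (BT.leaf (nat_lit 41521413)) (BT.leaf (nat_lit 41521417)))) (BT.node (nat_lit 10257152) (BT.node (nat_lit 10257088) (BT.leaf (nat_lit 41521441)) (BT.leaf (nat_lit 36572945))) (BT.node (nat_lit 10257216) (BT.leaf (nat_lit 36572953)) (BT.leaf (nat_lit 38724101))))) (BT.node (nat_lit 10257664) (BT.node (nat_lit 10257408) (BT.node (nat_lit 10257344) (BT.leaf (nat_lit 35019013)) (BT.leaf (nat_lit 38724109))) (BT.node (nat_lit 10257472) (BT.leaf (nat_lit 35015449)) (BT.leaf (nat_lit 38724117)))) (BT.node (nat_lit 10257792) (BT.node (nat_lit 10257728) (BT.leaf (nat_lit 35010077)) (BT.leaf (nat_lit 35015453))) (BT.node (nat_lit 10257856) (BT.leaf (nat_lit 35017749)) (BT.leaf (nat_lit 36669461)))))) (BT.node (nat_lit 10258432) (BT.node (nat_lit 10258176) (BT.node (nat_lit 10258048) (BT.node (nat_lit 10257984) (BT.leaf (nat_lit 35988245)) (BT.leaf (nat_lit 34600977))) (BT.node (nat_lit 10258112) (BT.leaf (nat_lit 35987737)) (BT.leaf (nat_lit 35018013)))) (BT.node (nat_lit 10258304) (BT.node (nat_lit 10258240) (BT.leaf (nat_lit 39783201)) (BT.leaf (nat_lit 35018781))) (BT.node (nat_lit 10258368) (BT.leaf (nat_lit 36688153)) (BT.leaf (nat_lit 39925269))))) (BT.node (nat_lit 10258688) (BT.node (nat_lit 10258560) (BT.node (nat_lit 10258496) (BT.leaf (nat_lit 35018269)) (BT.leaf (nat_lit 35019293))) (BT.node (nat_lit 10258624) (BT.leaf (nat_lit 35274001)) (BT.leaf (nat_lit 35021597)))) (BT.node (nat_lit 10258816) (BT.node (nat_lit 10258752) (BT.leaf (nat_lit 41558049)) (BT.leaf (nat_lit 37418513))) (BT.node (nat_lit 10258880) (BT.leaf (nat_lit 35022113)) (BT.leaf (nat_lit 35348497)))))))) (BT.node (nat_lit 10262467) (BT.node (nat_lit 10260224) (BT.node (nat_lit 10259456) (BT.node (nat_lit 10259200) (BT.node (nat_lit 10259072) (BT.node (nat_lit 10259008) (BT.leaf (nat_lit 38454297)) (BT.leaf (nat_lit 34467613))) (BT.node (nat_lit 10259136) (BT.leaf (nat_lit 35023901)) (BT.leaf (nat_lit 35224601)))) (BT.node (nat_lit 10259328) (BT.node (nat_lit 10259264) (BT.leaf (nat_lit 38474501)) (BT.leaf (nat_lit 38474505))) (BT.node (nat_lit 10259392) (BT.leaf (nat_lit 35024161)) (BT.leaf (nat_lit 35024673))))) (BT.node (nat_lit 10259904) (BT.node (nat_lit 10259776) (BT.node (nat_lit 10259584) (BT.leaf (nat_lit 41064461)) (BT.leaf (nat_lit 41133341))) (BT.node (nat_lit 10259840) (BT.leaf (nat_lit 38399769)) (BT.leaf (nat_lit 38399777)))) (BT.node (nat_lit 10260032) (BT.node (nat_lit 10259968) (BT.leaf (nat_lit 39505441)) (BT.leaf (nat_lit 39505421))) (BT.node (nat_lit 10260160) (BT.leaf (nat_lit 39505425)) (BT.leaf (nat_lit 39505437)))))) (BT.node (nat_lit 10261440) (BT.node (nat_lit 10260992) (BT.node (nat_lit 10260544) (BT.node (nat_lit 10260288) (BT.leaf (nat_lit 35003401)) (BT.leaf (nat_lit 35003397))) (BT.node (nat_lit 10260864) (BT.leaf (nat_lit 35108105)) (BT.leaf (nat_lit 35025181)))) (BT.node (nat_lit 10261312) (BT.node (nat_lit 10261056) (BT.leaf (nat_lit 41095949)) (BT.leaf (nat_lit 35859209))) (BT.node (nat_lit 10261376) (BT.leaf (nat_lit 37196553)) (BT.leaf (nat_lit 37196549))))) (BT.node (nat_lit 10262080) (BT.node (nat_lit 10261632) (BT.node (nat_lit 10261504) (BT.leaf (nat_lit 35177233)) (BT.leaf (nat_lit 34399253))) (BT.node (nat_lit 10261696) (BT.leaf (nat_lit 35026465)) (BT.leaf (nat_lit 41258001)))) (BT.node (nat_lit 10262403) (BT.node (nat_lit 10262144) (BT.leaf (nat_lit 38101781)) (BT.leaf (nat_lit 35026713))) (BT.node (nat_lit 10262408) (BT.leaf (nat_lit 641704)) (BT.leaf (nat_lit 641704))))))) (BT.node (nat_lit 10263936) (BT.node (nat_lit 10263168) (BT.node (nat_lit 10262912) (BT.node (nat_lit 10262656) (BT.node (nat_lit 10262472) (BT.leaf (nat_lit 641720)) (BT.leaf (nat_lit 641720))) (BT.node (nat_lit 10262720) (BT.leaf (nat_lit 35031585)) (BT.leaf (nat_lit 40708129)))) (BT.node (nat_lit 10263040) (BT.node (nat_lit 10262976) (BT.leaf (nat_lit 35064861)) (BT.leaf (nat_lit 37130761))) (BT.node (nat_lit 10263104) (BT.leaf (nat_lit 37130757)) (BT.leaf (nat_lit 37130509))))) (BT.node (nat_lit 10263552) (BT.node (nat_lit 10263360) (BT.node (nat_lit 10263296) (BT.leaf (nat_lit 37130765)) (BT.leaf (nat_lit 40913429))) (BT.node (nat_lit 10263424) (BT.leaf (nat_lit 35035661)) (BT.leaf (nat_lit 35550729)))) (BT.node (nat_lit 10263680) (BT.node (nat_lit 10263616) (BT.leaf (nat_lit 35029781)) (BT.leaf (nat_lit 35030037))) (BT.node (nat_lit 10263808) (BT.leaf (nat_lit 35038477)) (BT.leaf (nat_lit 37007377)))))) (BT.node (nat_lit 10264576) (BT.node (nat_lit 10264128) (BT.node (nat_lit 10264006) (BT.node (nat_lit 10264000) (BT.leaf (nat_lit 39194893)) (BT.leaf (nat_lit 35652877))) (BT.node (nat_lit 10264064) (BT.leaf (nat_lit 645676)) (BT.leaf (nat_lit 35244301)))) (BT.node (nat_lit 10264256) (BT.node (nat_lit 10264192) (BT.leaf (nat_lit 35108357)) (BT.leaf (nat_lit 35108377))) (BT.node (nat_lit 10264384) (BT.leaf (nat_lit 35108385)) (BT.leaf (nat_lit 38150417))))) (BT.node (nat_lit 10265152) (BT.node (nat_lit 10264768) (BT.node (nat_lit 10264640) (BT.leaf (nat_lit 38150433)) (BT.leaf (nat_lit 35291409))) (BT.node (nat_lit 10264896) (BT.leaf (nat_lit 35291421)) (BT.leaf (nat_lit 35030305)))) (BT.node (nat_lit 10265415) (BT.node (nat_lit 10265344) (BT.leaf (nat_lit 35246617)) (BT.leaf (nat_lit 35657501))) (BT.node (nat_lit 10265536) (BT.leaf (nat_lit 646448)) (BT.leaf (nat_lit 37938961)))))))))))))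
noncomputable def e1_e57344 : BT Nat := (BT.node (nat_lit 10355136) (BT.node (nat_lit 10308480) (BT.node (nat_lit 10288192) (BT.node (nat_lit 10278336) (BT.node (nat_lit 10272384) (BT.node (nat_lit 10269248) (BT.node (nat_lit 10267776) (BT.node (nat_lit 10266304) (BT.node (nat_lit 10266048) (BT.node (nat_lit 10265728) (BT.leaf (nat_lit 37938977)) (BT.node (nat_lit 10265792) (BT.leaf (nat_lit 36382981)) (BT.leaf (nat_lit 36360969)))) (BT.node (nat_lit 10266176) (BT.node (nat_lit 10266112) (BT.leaf (nat_lit 37401621)) (BT.leaf (nat_lit 40293661))) (BT.node (nat_lit 10266240) (BT.leaf (nat_lit 40621585)) (BT.leaf (nat_lit 36340757))))) (BT.node (nat_lit 10266752) (BT.node (nat_lit 10266560) (BT.node (nat_lit 10266496) (BT.leaf (nat_lit 38158869)) (BT.leaf (nat_lit 35678749))) (BT.node (nat_lit 10266688) (BT.leaf (nat_lit 35675141)) (BT.leaf (nat_lit 38599189)))) (BT.node (nat_lit 10267200) (BT.node (nat_lit 10266816) (BT.leaf (nat_lit 35031313)) (BT.leaf (nat_lit 35926797))) (BT.node (nat_lit 10267712) (BT.leaf (nat_lit 35660309)) (BT.leaf (nat_lit 37810697)))))) (BT.node (nat_lit 10268416) (BT.node (nat_lit 10268096) (BT.node (nat_lit 10267904) (BT.leaf (nat_lit 40708113)) (BT.node (nat_lit 10268032) (BT.leaf (nat_lit 35031577)) (BT.leaf (nat_lit 35031581)))) (BT.node (nat_lit 10268288) (BT.node (nat_lit 10268160) (BT.leaf (nat_lit 38111245)) (BT.leaf (nat_lit 36226845))) (BT.node (nat_lit 10268352) (BT.leaf (nat_lit 40792077)) (BT.leaf (nat_lit 40792081))))) (BT.node (nat_lit 10268992) (BT.node (nat_lit 10268608) (BT.node (nat_lit 10268480) (BT.leaf (nat_lit 35291165)) (BT.leaf (nat_lit 40792097))) (BT.node (nat_lit 10268800) (BT.leaf (nat_lit 39033877)) (BT.leaf (nat_lit 37698309)))) (BT.node (nat_lit 10269120) (BT.node (nat_lit 10269056) (BT.leaf (nat_lit 35222541)) (BT.leaf (nat_lit 35075333))) (BT.node (nat_lit 10269184) (BT.leaf (nat_lit 34577953)) (BT.leaf (nat_lit 39200273))))))) (BT.node (nat_lit 10270784) (BT.node (nat_lit 10270016) (BT.node (nat_lit 10269696) (BT.node (nat_lit 10269440) (BT.leaf (nat_lit 35550733)) (BT.node (nat_lit 10269632) (BT.leaf (nat_lit 38453537)) (BT.leaf (nat_lit 36672009)))) (BT.node (nat_lit 10269888) (BT.node (nat_lit 10269824) (BT.leaf (nat_lit 35553805)) (BT.leaf (nat_lit 39921185))) (BT.node (nat_lit 10269952) (BT.leaf (nat_lit 40970773)) (BT.leaf (nat_lit 35064073))))) (BT.node (nat_lit 10270400) (BT.node (nat_lit 10270272) (BT.node (nat_lit 10270080) (BT.leaf (nat_lit 39291149)) (BT.leaf (nat_lit 38599453))) (BT.node (nat_lit 10270336) (BT.leaf (nat_lit 35559697)) (BT.leaf (nat_lit 39233541)))) (BT.node (nat_lit 10270592) (BT.node (nat_lit 10270464) (BT.leaf (nat_lit 39233545)) (BT.leaf (nat_lit 39407637))) (BT.node (nat_lit 10270656) (BT.leaf (nat_lit 35646981)) (BT.leaf (nat_lit 35646985)))))) (BT.node (nat_lit 10271552) (BT.node (nat_lit 10271232) (BT.node (nat_lit 10271040) (BT.node (nat_lit 10270848) (BT.leaf (nat_lit 38370849)) (BT.leaf (nat_lit 35566097))) (BT.node (nat_lit 10271104) (BT.leaf (nat_lit 38480137)) (BT.leaf (nat_lit 35072785)))) (BT.node (nat_lit 10271360) (BT.node (nat_lit 10271296) (BT.leaf (nat_lit 41626385)) (BT.leaf (nat_lit 39240709))) (BT.node (nat_lit 10271488) (BT.leaf (nat_lit 35546385)) (BT.leaf (nat_lit 35033117))))) (BT.node (nat_lit 10271872) (BT.node (nat_lit 10271680) (BT.node (nat_lit 10271616) (BT.leaf (nat_lit 38233357)) (BT.leaf (nat_lit 34141957))) (BT.node (nat_lit 10271744) (BT.leaf (nat_lit 35867165)) (BT.leaf (nat_lit 41652741)))) (BT.node (nat_lit 10272128) (BT.node (nat_lit 10272064) (BT.leaf (nat_lit 41656605)) (BT.leaf (nat_lit 35036181))) (BT.node (nat_lit 10272192) (BT.leaf (nat_lit 35036185)) (BT.leaf (nat_lit 35036437)))))))) (BT.node (nat_lit 10275328) (BT.node (nat_lit 10273920) (BT.node (nat_lit 10273088) (BT.node (nat_lit 10272576) (BT.node (nat_lit 10272448) (BT.leaf (nat_lit 37010193)) (BT.node (nat_lit 10272512) (BT.leaf (nat_lit 41470981)) (BT.leaf (nat_lit 41459729)))) (BT.node (nat_lit 10272768) (BT.node (nat_lit 10272704) (BT.leaf (nat_lit 41454345)) (BT.leaf (nat_lit 35036697))) (BT.node (nat_lit 10272832) (BT.leaf (nat_lit 39609369)) (BT.leaf (nat_lit 41448209))))) (BT.node (nat_lit 10273600) (BT.node (nat_lit 10273280) (BT.node (nat_lit 10273216) (BT.leaf (nat_lit 35037457)) (BT.leaf (nat_lit 35038229))) (BT.node (nat_lit 10273472) (BT.leaf (nat_lit 35038481)) (BT.leaf (nat_lit 40099337)))) (BT.node (nat_lit 10273728) (BT.node (nat_lit 10273664) (BT.leaf (nat_lit 35038749)) (BT.leaf (nat_lit 35039001))) (BT.node (nat_lit 10273792) (BT.leaf (nat_lit 37011733)) (BT.leaf (nat_lit 38509085)))))) (BT.node (nat_lit 10274816) (BT.node (nat_lit 10274368) (BT.node (nat_lit 10274176) (BT.node (nat_lit 10273984) (BT.leaf (nat_lit 41343237)) (BT.leaf (nat_lit 39044625))) (BT.node (nat_lit 10274304) (BT.leaf (nat_lit 38221829)) (BT.leaf (nat_lit 37008149)))) (BT.node (nat_lit 10274496) (BT.node (nat_lit 10274432) (BT.leaf (nat_lit 36770309)) (BT.leaf (nat_lit 35039253))) (BT.node (nat_lit 10274560) (BT.leaf (nat_lit 34173205)) (BT.leaf (nat_lit 35666957))))) (BT.node (nat_lit 10275072) (BT.node (nat_lit 10274944) (BT.node (nat_lit 10274880) (BT.leaf (nat_lit 37543453)) (BT.leaf (nat_lit 37751057))) (BT.node (nat_lit 10275008) (BT.leaf (nat_lit 37197601)) (BT.leaf (nat_lit 35040781)))) (BT.node (nat_lit 10275200) (BT.node (nat_lit 10275136) (BT.leaf (nat_lit 41541649)) (BT.leaf (nat_lit 35040789))) (BT.node (nat_lit 10275264) (BT.leaf (nat_lit 35041045)) (BT.leaf (nat_lit 36444705))))))) (BT.node (nat_lit 10276608) (BT.node (nat_lit 10275840) (BT.node (nat_lit 10275584) (BT.node (nat_lit 10275456) (BT.leaf (nat_lit 35041557)) (BT.node (nat_lit 10275520) (BT.leaf (nat_lit 35041817)) (BT.leaf (nat_lit 41478945)))) (BT.node (nat_lit 10275712) (BT.node (nat_lit 10275648) (BT.leaf (nat_lit 35042329)) (BT.leaf (nat_lit 34885661))) (BT.node (nat_lit 10275776) (BT.leaf (nat_lit 35043345)) (BT.leaf (nat_lit 40734493))))) (BT.node (nat_lit 10276224) (BT.node (nat_lit 10276096) (BT.node (nat_lit 10276032) (BT.leaf (nat_lit 38566161)) (BT.leaf (nat_lit 39522057))) (BT.node (nat_lit 10276160) (BT.leaf (nat_lit 38365193)) (BT.leaf (nat_lit 35955461)))) (BT.node (nat_lit 10276416) (BT.node (nat_lit 10276288) (BT.leaf (nat_lit 38365213)) (BT.leaf (nat_lit 37721109))) (BT.node (nat_lit 10276480) (BT.leaf (nat_lit 40359197)) (BT.leaf (nat_lit 40358921)))))) (BT.node (nat_lit 10277376) (BT.node (nat_lit 10277056) (BT.node (nat_lit 10276928) (BT.node (nat_lit 10276672) (BT.leaf (nat_lit 36221457)) (BT.leaf (nat_lit 38533905))) (BT.node (nat_lit 10276992) (BT.leaf (nat_lit 35348237)) (BT.leaf (nat_lit 37134089)))) (BT.node (nat_lit 10277184) (BT.node (nat_lit 10277120) (BT.leaf (nat_lit 37134085)) (BT.leaf (nat_lit 35044893))) (BT.node (nat_lit 10277312) (BT.leaf (nat_lit 37134093)) (BT.leaf (nat_lit 35391773))))) (BT.node (nat_lit 10278016) (BT.node (nat_lit 10277888) (BT.node (nat_lit 10277440) (BT.leaf (nat_lit 39978757)) (BT.leaf (nat_lit 39978761))) (BT.node (nat_lit 10277952) (BT.leaf (nat_lit 36169993)) (BT.leaf (nat_lit 36170009)))) (BT.node (nat_lit 10278208) (BT.node (nat_lit 10278080) (BT.leaf (nat_lit 34264069)) (BT.leaf (nat_lit 40477721))) (BT.node (nat_lit 10278272) (BT.leaf (nat_lit 40477201)) (BT.leaf (nat_lit 40477209))))))))) (BT.node (nat_lit 10283712) (BT.node (nat_lit 10280512) (BT.node (nat_lit 10279427) (BT.node (nat_lit 10278912) (BT.node (nat_lit 10278528) (BT.node (nat_lit 10278400) (BT.leaf (nat_lit 40477213)) (BT.node (nat_lit 10278464) (BT.leaf (nat_lit 37804549)) (BT.leaf (nat_lit 37804553)))) (BT.node (nat_lit 10278720) (BT.node (nat_lit 10278656) (BT.leaf (nat_lit 37804561)) (BT.leaf (nat_lit 37698337))) (BT.node (nat_lit 10278784) (BT.leaf (nat_lit 35045917)) (BT.leaf (nat_lit 35002629))))) (BT.node (nat_lit 10279240) (BT.node (nat_lit 10279232) (BT.node (nat_lit 10279168) (BT.leaf (nat_lit 37297673)) (BT.leaf (nat_lit 35048481))) (BT.node (nat_lit 10279235) (BT.leaf (nat_lit 41105669)) (BT.leaf (nat_lit 642672)))) (BT.node (nat_lit 10279360) (BT.node (nat_lit 10279296) (BT.leaf (nat_lit 642672)) (BT.leaf (nat_lit 35048461))) (BT.node (nat_lit 10279424) (BT.leaf (nat_lit 35048465)) (BT.leaf (nat_lit 41105673)))))) (BT.node (nat_lit 10279936) (BT.node (nat_lit 10279680) (BT.node (nat_lit 10279432) (BT.leaf (nat_lit 642684)) (BT.node (nat_lit 10279488) (BT.leaf (nat_lit 642684)) (BT.leaf (nat_lit 38145305)))) (BT.node (nat_lit 10279808) (BT.node (nat_lit 10279744) (BT.leaf (nat_lit 39537685)) (BT.leaf (nat_lit 35056161))) (BT.node (nat_lit 10279872) (BT.leaf (nat_lit 41359641)) (BT.leaf (nat_lit 35056901))))) (BT.node (nat_lit 10280192) (BT.node (nat_lit 10280064) (BT.node (nat_lit 10280000) (BT.leaf (nat_lit 36638489)) (BT.leaf (nat_lit 36637965))) (BT.node (nat_lit 10280128) (BT.leaf (nat_lit 35057185)) (BT.leaf (nat_lit 38662925)))) (BT.node (nat_lit 10280384) (BT.node (nat_lit 10280256) (BT.leaf (nat_lit 35046673)) (BT.leaf (nat_lit 39311897))) (BT.node (nat_lit 10280448) (BT.leaf (nat_lit 35058441)) (BT.leaf (nat_lit 35058437))))))) (BT.node (nat_lit 10281984) (BT.node (nat_lit 10281280) (BT.node (nat_lit 10280832) (BT.node (nat_lit 10280576) (BT.leaf (nat_lit 37012765)) (BT.node (nat_lit 10280640) (BT.leaf (nat_lit 35047457)) (BT.leaf (nat_lit 38152973)))) (BT.node (nat_lit 10281024) (BT.node (nat_lit 10280960) (BT.leaf (nat_lit 38152993)) (BT.leaf (nat_lit 38374421))) (BT.node (nat_lit 10281088) (BT.leaf (nat_lit 39038477)) (BT.leaf (nat_lit 41105677))))) (BT.node (nat_lit 10281605) (BT.node (nat_lit 10281539) (BT.node (nat_lit 10281536) (BT.leaf (nat_lit 35756569)) (BT.leaf (nat_lit 38662157))) (BT.node (nat_lit 10281541) (BT.leaf (nat_lit 643084)) (BT.leaf (nat_lit 643084)))) (BT.node (nat_lit 10281664) (BT.node (nat_lit 10281608) (BT.leaf (nat_lit 643080)) (BT.leaf (nat_lit 643080))) (BT.node (nat_lit 10281728) (BT.leaf (nat_lit 41539845)) (BT.leaf (nat_lit 40542753)))))) (BT.node (nat_lit 10283008) (BT.node (nat_lit 10282560) (BT.node (nat_lit 10282112) (BT.node (nat_lit 10282048) (BT.leaf (nat_lit 40801049)) (BT.leaf (nat_lit 40542737))) (BT.node (nat_lit 10282176) (BT.leaf (nat_lit 34183441)) (BT.leaf (nat_lit 40801561)))) (BT.node (nat_lit 10282752) (BT.node (nat_lit 10282688) (BT.leaf (nat_lit 37861125)) (BT.leaf (nat_lit 41105697))) (BT.node (nat_lit 10282944) (BT.leaf (nat_lit 35048213)) (BT.leaf (nat_lit 35048469))))) (BT.node (nat_lit 10283264) (BT.node (nat_lit 10283136) (BT.node (nat_lit 10283072) (BT.leaf (nat_lit 35048217)) (BT.leaf (nat_lit 35048473))) (BT.node (nat_lit 10283200) (BT.leaf (nat_lit 35048221)) (BT.leaf (nat_lit 41038341)))) (BT.node (nat_lit 10283392) (BT.node (nat_lit 10283328) (BT.leaf (nat_lit 40540169)) (BT.leaf (nat_lit 38559257))) (BT.node (nat_lit 10283456) (BT.leaf (nat_lit 35048209)) (BT.leaf (nat_lit 40331525)))))))) (BT.node (nat_lit 10286080) (BT.node (nat_lit 10284992) (BT.node (nat_lit 10284545) (BT.node (nat_lit 10284288) (BT.node (nat_lit 10283840) (BT.leaf (nat_lit 38145561)) (BT.node (nat_lit 10284224) (BT.leaf (nat_lit 40792593)) (BT.leaf (nat_lit 35939853)))) (BT.node (nat_lit 10284480) (BT.node (nat_lit 10284416) (BT.leaf (nat_lit 37774601)) (BT.leaf (nat_lit 35051037))) (BT.node (nat_lit 10284544) (BT.leaf (nat_lit 37041697)) (BT.leaf (nat_lit 41518869))))) (BT.node (nat_lit 10284736) (BT.node (nat_lit 10284608) (BT.node (nat_lit 10284550) (BT.leaf (nat_lit 648252)) (BT.leaf (nat_lit 648252))) (BT.node (nat_lit 10284672) (BT.leaf (nat_lit 35168793)) (BT.leaf (nat_lit 37551369)))) (BT.node (nat_lit 10284864) (BT.node (nat_lit 10284800) (BT.leaf (nat_lit 35169297)) (BT.leaf (nat_lit 35169305))) (BT.node (nat_lit 10284928) (BT.leaf (nat_lit 37126669)) (BT.leaf (nat_lit 35052825)))))) (BT.node (nat_lit 10285568) (BT.node (nat_lit 10285312) (BT.node (nat_lit 10285184) (BT.node (nat_lit 10285120) (BT.leaf (nat_lit 37056781)) (BT.leaf (nat_lit 34801413))) (BT.node (nat_lit 10285248) (BT.leaf (nat_lit 38841113)) (BT.leaf (nat_lit 40473365)))) (BT.node (nat_lit 10285440) (BT.node (nat_lit 10285376) (BT.leaf (nat_lit 40341533)) (BT.leaf (nat_lit 35835413))) (BT.node (nat_lit 10285504) (BT.leaf (nat_lit 35053089)) (BT.leaf (nat_lit 37549829))))) (BT.node (nat_lit 10285824) (BT.node (nat_lit 10285696) (BT.node (nat_lit 10285632) (BT.leaf (nat_lit 37549833)) (BT.leaf (nat_lit 37549849))) (BT.node (nat_lit 10285760) (BT.leaf (nat_lit 37549857)) (BT.leaf (nat_lit 35053601)))) (BT.node (nat_lit 10285952) (BT.node (nat_lit 10285888) (BT.leaf (nat_lit 35226649)) (BT.leaf (nat_lit 35058717))) (BT.node (nat_lit 10286016) (BT.leaf (nat_lit 39924741)) (BT.leaf (nat_lit 37551113))))))) (BT.node (nat_lit 10287040) (BT.node (nat_lit 10286528) (BT.node (nat_lit 10286272) (BT.node (nat_lit 10286144) (BT.leaf (nat_lit 37551129)) (BT.node (nat_lit 10286208) (BT.leaf (nat_lit 37551137)) (BT.leaf (nat_lit 37551641)))) (BT.node (nat_lit 10286400) (BT.node (nat_lit 10286336) (BT.leaf (nat_lit 35054881)) (BT.leaf (nat_lit 41149961))) (BT.node (nat_lit 10286464) (BT.leaf (nat_lit 40879117)) (BT.leaf (nat_lit 35058205))))) (BT.node (nat_lit 10286784) (BT.node (nat_lit 10286656) (BT.node (nat_lit 10286592) (BT.leaf (nat_lit 37737989)) (BT.leaf (nat_lit 35783185))) (BT.node (nat_lit 10286720) (BT.leaf (nat_lit 35723541)) (BT.leaf (nat_lit 35723525)))) (BT.node (nat_lit 10286912) (BT.node (nat_lit 10286848) (BT.leaf (nat_lit 35723529)) (BT.leaf (nat_lit 35723553))) (BT.node (nat_lit 10286976) (BT.leaf (nat_lit 35056153)) (BT.leaf (nat_lit 35173653)))))) (BT.node (nat_lit 10287616) (BT.node (nat_lit 10287296) (BT.node (nat_lit 10287168) (BT.node (nat_lit 10287104) (BT.leaf (nat_lit 38739733)) (BT.leaf (nat_lit 38467861))) (BT.node (nat_lit 10287232) (BT.leaf (nat_lit 37014029)) (BT.leaf (nat_lit 35081489)))) (BT.node (nat_lit 10287488) (BT.node (nat_lit 10287360) (BT.leaf (nat_lit 35056665)) (BT.leaf (nat_lit 35056669))) (BT.node (nat_lit 10287552) (BT.leaf (nat_lit 41366813)) (BT.leaf (nat_lit 37551625))))) (BT.node (nat_lit 10287936) (BT.node (nat_lit 10287808) (BT.node (nat_lit 10287680) (BT.leaf (nat_lit 34261521)) (BT.leaf (nat_lit 35445777))) (BT.node (nat_lit 10287872) (BT.leaf (nat_lit 37775893)) (BT.leaf (nat_lit 37774361)))) (BT.node (nat_lit 10288064) (BT.node (nat_lit 10288000) (BT.leaf (nat_lit 35057177)) (BT.leaf (nat_lit 37728533))) (BT.node (nat_lit 10288128) (BT.leaf (nat_lit 35057181)) (BT.leaf (nat_lit 36637985)))))))))) (BT.node (nat_lit 10298304) (BT.node (nat_lit 10292672) (BT.node (nat_lit 10290368) (BT.node (nat_lit 10289408) (BT.node (nat_lit 10288768) (BT.node (nat_lit 10288448) (BT.node (nat_lit 10288320) (BT.leaf (nat_lit 39291661)) (BT.node (nat_lit 10288384) (BT.leaf (nat_lit 36639493)) (BT.leaf (nat_lit 36639497)))) (BT.node (nat_lit 10288640) (BT.node (nat_lit 10288512) (BT.leaf (nat_lit 36639501)) (BT.leaf (nat_lit 36639513))) (BT.node (nat_lit 10288704) (BT.leaf (nat_lit 35057945)) (BT.leaf (nat_lit 35057949))))) (BT.node (nat_lit 10289088) (BT.node (nat_lit 10288960) (BT.node (nat_lit 10288896) (BT.leaf (nat_lit 36607761)) (BT.leaf (nat_lit 36607773))) (BT.node (nat_lit 10289024) (BT.leaf (nat_lit 35058189)) (BT.leaf (nat_lit 39531545)))) (BT.node (nat_lit 10289280) (BT.node (nat_lit 10289216) (BT.leaf (nat_lit 35871761)) (BT.leaf (nat_lit 37013021))) (BT.node (nat_lit 10289344) (BT.leaf (nat_lit 38662661)) (BT.leaf (nat_lit 38662665)))))) (BT.node (nat_lit 10289856) (BT.node (nat_lit 10289600) (BT.node (nat_lit 10289472) (BT.leaf (nat_lit 37013277)) (BT.node (nat_lit 10289536) (BT.leaf (nat_lit 40370445)) (BT.leaf (nat_lit 40370449)))) (BT.node (nat_lit 10289728) (BT.node (nat_lit 10289664) (BT.leaf (nat_lit 40370457)) (BT.leaf (nat_lit 40370465))) (BT.node (nat_lit 10289792) (BT.leaf (nat_lit 40369945)) (BT.leaf (nat_lit 35060257))))) (BT.node (nat_lit 10290112) (BT.node (nat_lit 10289984) (BT.node (nat_lit 10289920) (BT.leaf (nat_lit 37570053)) (BT.leaf (nat_lit 37570057))) (BT.node (nat_lit 10290048) (BT.leaf (nat_lit 37570069)) (BT.leaf (nat_lit 38019613)))) (BT.node (nat_lit 10290240) (BT.node (nat_lit 10290176) (BT.leaf (nat_lit 35249693)) (BT.leaf (nat_lit 35061789))) (BT.node (nat_lit 10290304) (BT.leaf (nat_lit 39409677)) (BT.leaf (nat_lit 35049501))))))) (BT.node (nat_lit 10291328) (BT.node (nat_lit 10290816) (BT.node (nat_lit 10290560) (BT.node (nat_lit 10290432) (BT.leaf (nat_lit 35268637)) (BT.node (nat_lit 10290496) (BT.leaf (nat_lit 35062561)) (BT.leaf (nat_lit 37210129)))) (BT.node (nat_lit 10290688) (BT.node (nat_lit 10290624) (BT.leaf (nat_lit 35132949)) (BT.leaf (nat_lit 36345873))) (BT.node (nat_lit 10290752) (BT.leaf (nat_lit 34544389)) (BT.leaf (nat_lit 35064609))))) (BT.node (nat_lit 10291072) (BT.node (nat_lit 10290944) (BT.node (nat_lit 10290880) (BT.leaf (nat_lit 35065357)) (BT.leaf (nat_lit 35457549))) (BT.node (nat_lit 10291008) (BT.leaf (nat_lit 35457553)) (BT.leaf (nat_lit 35457557)))) (BT.node (nat_lit 10291200) (BT.node (nat_lit 10291136) (BT.leaf (nat_lit 35457561)) (BT.leaf (nat_lit 35457569))) (BT.node (nat_lit 10291264) (BT.leaf (nat_lit 35076881)) (BT.leaf (nat_lit 35076885)))))) (BT.node (nat_lit 10291968) (BT.node (nat_lit 10291584) (BT.node (nat_lit 10291456) (BT.node (nat_lit 10291392) (BT.leaf (nat_lit 35076889)) (BT.leaf (nat_lit 35076893))) (BT.node (nat_lit 10291520) (BT.leaf (nat_lit 41021965)) (BT.leaf (nat_lit 39443989)))) (BT.node (nat_lit 10291776) (BT.node (nat_lit 10291648) (BT.leaf (nat_lit 39577877)) (BT.leaf (nat_lit 39640845))) (BT.node (nat_lit 10291840) (BT.leaf (nat_lit 39470345)) (BT.leaf (nat_lit 40910625))))) (BT.node (nat_lit 10292224) (BT.node (nat_lit 10292096) (BT.node (nat_lit 10292032) (BT.leaf (nat_lit 40250397)) (BT.leaf (nat_lit 39249681))) (BT.node (nat_lit 10292160) (BT.leaf (nat_lit 35067153)) (BT.leaf (nat_lit 41084421)))) (BT.node (nat_lit 10292480) (BT.node (nat_lit 10292416) (BT.leaf (nat_lit 41531165)) (BT.leaf (nat_lit 35079709))) (BT.node (nat_lit 10292544) (BT.leaf (nat_lit 34213125)) (BT.leaf (nat_lit 35039513)))))))) (BT.node (nat_lit 10295552) (BT.node (nat_lit 10293952) (BT.node (nat_lit 10293120) (BT.node (nat_lit 10292864) (BT.node (nat_lit 10292736) (BT.leaf (nat_lit 39041557)) (BT.node (nat_lit 10292800) (BT.leaf (nat_lit 38506005)) (BT.leaf (nat_lit 38133529)))) (BT.node (nat_lit 10292992) (BT.node (nat_lit 10292928) (BT.leaf (nat_lit 35104273)) (BT.leaf (nat_lit 41028381))) (BT.node (nat_lit 10293056) (BT.leaf (nat_lit 35073041)) (BT.leaf (nat_lit 40188181))))) (BT.node (nat_lit 10293376) (BT.node (nat_lit 10293248) (BT.node (nat_lit 10293184) (BT.leaf (nat_lit 40314909)) (BT.leaf (nat_lit 40319513))) (BT.node (nat_lit 10293312) (BT.leaf (nat_lit 40047629)) (BT.leaf (nat_lit 40252949)))) (BT.node (nat_lit 10293760) (BT.node (nat_lit 10293504) (BT.leaf (nat_lit 40252957)) (BT.leaf (nat_lit 40582937))) (BT.node (nat_lit 10293888) (BT.leaf (nat_lit 35068953)) (BT.leaf (nat_lit 36473093)))))) (BT.node (nat_lit 10294720) (BT.node (nat_lit 10294336) (BT.node (nat_lit 10294208) (BT.node (nat_lit 10294016) (BT.leaf (nat_lit 40469517)) (BT.leaf (nat_lit 37628421))) (BT.node (nat_lit 10294272) (BT.leaf (nat_lit 35529733)) (BT.leaf (nat_lit 39046177)))) (BT.node (nat_lit 10294464) (BT.node (nat_lit 10294400) (BT.leaf (nat_lit 41084429)) (BT.leaf (nat_lit 41196305))) (BT.node (nat_lit 10294656) (BT.leaf (nat_lit 35104009)) (BT.leaf (nat_lit 38834973))))) (BT.node (nat_lit 10295040) (BT.node (nat_lit 10294912) (BT.node (nat_lit 10294784) (BT.leaf (nat_lit 41530377)) (BT.leaf (nat_lit 41547545))) (BT.node (nat_lit 10294976) (BT.leaf (nat_lit 40099861)) (BT.leaf (nat_lit 38830345)))) (BT.node (nat_lit 10295424) (BT.node (nat_lit 10295232) (BT.leaf (nat_lit 38830349)) (BT.leaf (nat_lit 36544545))) (BT.node (nat_lit 10295488) (BT.leaf (nat_lit 36599837)) (BT.leaf (nat_lit 36600601))))))) (BT.node (nat_lit 10296576) (BT.node (nat_lit 10296000) (BT.node (nat_lit 10295744) (BT.node (nat_lit 10295616) (BT.leaf (nat_lit 36645897)) (BT.node (nat_lit 10295680) (BT.leaf (nat_lit 36658713)) (BT.leaf (nat_lit 39789345)))) (BT.node (nat_lit 10295872) (BT.node (nat_lit 10295808) (BT.leaf (nat_lit 35088153)) (BT.leaf (nat_lit 41313801))) (BT.node (nat_lit 10295936) (BT.leaf (nat_lit 41228577)) (BT.leaf (nat_lit 37399829))))) (BT.node (nat_lit 10296320) (BT.node (nat_lit 10296128) (BT.node (nat_lit 10296064) (BT.leaf (nat_lit 35215881)) (BT.leaf (nat_lit 35215905))) (BT.node (nat_lit 10296192) (BT.leaf (nat_lit 41233181)) (BT.leaf (nat_lit 41226009)))) (BT.node (nat_lit 10296448) (BT.node (nat_lit 10296384) (BT.leaf (nat_lit 41233161)) (BT.leaf (nat_lit 41233157))) (BT.node (nat_lit 10296512) (BT.leaf (nat_lit 41233165)) (BT.leaf (nat_lit 35071501)))))) (BT.node (nat_lit 10297728) (BT.node (nat_lit 10297408) (BT.node (nat_lit 10296704) (BT.node (nat_lit 10296640) (BT.leaf (nat_lit 35071493)) (BT.leaf (nat_lit 35444501))) (BT.node (nat_lit 10296832) (BT.leaf (nat_lit 34299917)) (BT.leaf (nat_lit 35071769)))) (BT.node (nat_lit 10297536) (BT.node (nat_lit 10297472) (BT.leaf (nat_lit 35072289)) (BT.leaf (nat_lit 36478981))) (BT.node (nat_lit 10297664) (BT.leaf (nat_lit 36478985)) (BT.leaf (nat_lit 39040781))))) (BT.node (nat_lit 10298048) (BT.node (nat_lit 10297920) (BT.node (nat_lit 10297792) (BT.leaf (nat_lit 35072537)) (BT.leaf (nat_lit 35072541))) (BT.node (nat_lit 10297984) (BT.leaf (nat_lit 37236253)) (BT.leaf (nat_lit 35666953)))) (BT.node (nat_lit 10298176) (BT.node (nat_lit 10298112) (BT.leaf (nat_lit 35666949)) (BT.leaf (nat_lit 40898845))) (BT.node (nat_lit 10298240) (BT.leaf (nat_lit 37008393)) (BT.leaf (nat_lit 37008389))))))))) (BT.node (nat_lit 10304192) (BT.node (nat_lit 10301888) (BT.node (nat_lit 10299840) (BT.node (nat_lit 10299072) (BT.node (nat_lit 10298816) (BT.node (nat_lit 10298368) (BT.leaf (nat_lit 37008417)) (BT.node (nat_lit 10298432) (BT.leaf (nat_lit 35039765)) (BT.leaf (nat_lit 35073301)))) (BT.node (nat_lit 10298944) (BT.node (nat_lit 10298880) (BT.leaf (nat_lit 36602117)) (BT.leaf (nat_lit 36602121))) (BT.node (nat_lit 10299008) (BT.leaf (nat_lit 36602125)) (BT.leaf (nat_lit 36602137))))) (BT.node (nat_lit 10299392) (BT.node (nat_lit 10299264) (BT.node (nat_lit 10299200) (BT.leaf (nat_lit 35073037)) (BT.leaf (nat_lit 40700425))) (BT.node (nat_lit 10299328) (BT.leaf (nat_lit 36444677)) (BT.leaf (nat_lit 36444681)))) (BT.node (nat_lit 10299584) (BT.node (nat_lit 10299520) (BT.leaf (nat_lit 37748749)) (BT.leaf (nat_lit 35073553))) (BT.node (nat_lit 10299648) (BT.leaf (nat_lit 36777993)) (BT.leaf (nat_lit 40249109)))))) (BT.node (nat_lit 10301312) (BT.node (nat_lit 10301056) (BT.node (nat_lit 10300480) (BT.node (nat_lit 10300224) (BT.leaf (nat_lit 38376473)) (BT.leaf (nat_lit 35074053))) (BT.node (nat_lit 10300928) (BT.leaf (nat_lit 35074061)) (BT.leaf (nat_lit 35604761)))) (BT.node (nat_lit 10301184) (BT.node (nat_lit 10301120) (BT.leaf (nat_lit 35104033)) (BT.leaf (nat_lit 39061013))) (BT.node (nat_lit 10301248) (BT.leaf (nat_lit 38433297)) (BT.leaf (nat_lit 36542733))))) (BT.node (nat_lit 10301632) (BT.node (nat_lit 10301440) (BT.node (nat_lit 10301376) (BT.leaf (nat_lit 36542725)) (BT.leaf (nat_lit 36542729))) (BT.node (nat_lit 10301504) (BT.leaf (nat_lit 36542745)) (BT.leaf (nat_lit 35074833)))) (BT.node (nat_lit 10301760) (BT.node (nat_lit 10301696) (BT.leaf (nat_lit 39070489)) (BT.leaf (nat_lit 41210401))) (BT.node (nat_lit 10301824) (BT.leaf (nat_lit 36462613)) (BT.leaf (nat_lit 41210373))))))) (BT.node (nat_lit 10302912) (BT.node (nat_lit 10302336) (BT.node (nat_lit 10302080) (BT.node (nat_lit 10301952) (BT.leaf (nat_lit 37555213)) (BT.node (nat_lit 10302016) (BT.leaf (nat_lit 40630801)) (BT.leaf (nat_lit 35130641)))) (BT.node (nat_lit 10302208) (BT.node (nat_lit 10302144) (BT.leaf (nat_lit 41183261)) (BT.leaf (nat_lit 34467869))) (BT.node (nat_lit 10302272) (BT.leaf (nat_lit 35973657)) (BT.leaf (nat_lit 41569053))))) (BT.node (nat_lit 10302656) (BT.node (nat_lit 10302528) (BT.node (nat_lit 10302400) (BT.leaf (nat_lit 39560973)) (BT.leaf (nat_lit 38385433))) (BT.node (nat_lit 10302592) (BT.leaf (nat_lit 35592469)) (BT.leaf (nat_lit 34959897)))) (BT.node (nat_lit 10302784) (BT.node (nat_lit 10302720) (BT.leaf (nat_lit 41206561)) (BT.leaf (nat_lit 35458073))) (BT.node (nat_lit 10302848) (BT.leaf (nat_lit 35457813)) (BT.leaf (nat_lit 35077145)))))) (BT.node (nat_lit 10303680) (BT.node (nat_lit 10303232) (BT.node (nat_lit 10303104) (BT.node (nat_lit 10303040) (BT.leaf (nat_lit 35087377)) (BT.leaf (nat_lit 39346965))) (BT.node (nat_lit 10303168) (BT.leaf (nat_lit 41204489)) (BT.leaf (nat_lit 35620365)))) (BT.node (nat_lit 10303424) (BT.node (nat_lit 10303296) (BT.leaf (nat_lit 35078161)) (BT.leaf (nat_lit 41155869))) (BT.node (nat_lit 10303616) (BT.leaf (nat_lit 41120545)) (BT.leaf (nat_lit 35079453))))) (BT.node (nat_lit 10303936) (BT.node (nat_lit 10303808) (BT.node (nat_lit 10303744) (BT.leaf (nat_lit 35072265)) (BT.leaf (nat_lit 35072261))) (BT.node (nat_lit 10303872) (BT.leaf (nat_lit 35080481)) (BT.leaf (nat_lit 35080993)))) (BT.node (nat_lit 10304064) (BT.node (nat_lit 10304000) (BT.leaf (nat_lit 41721869)) (BT.leaf (nat_lit 37018629))) (BT.node (nat_lit 10304128) (BT.leaf (nat_lit 41722649)) (BT.leaf (nat_lit 41721889)))))))) (BT.node (nat_lit 10306624) (BT.node (nat_lit 10305216) (BT.node (nat_lit 10304704) (BT.node (nat_lit 10304384) (BT.node (nat_lit 10304256) (BT.leaf (nat_lit 35082785)) (BT.node (nat_lit 10304320) (BT.leaf (nat_lit 35792417)) (BT.leaf (nat_lit 35584789)))) (BT.node (nat_lit 10304576) (BT.node (nat_lit 10304512) (BT.leaf (nat_lit 35584797)) (BT.leaf (nat_lit 35792401))) (BT.node (nat_lit 10304640) (BT.leaf (nat_lit 37160465)) (BT.leaf (nat_lit 35792413))))) (BT.node (nat_lit 10304960) (BT.node (nat_lit 10304832) (BT.node (nat_lit 10304768) (BT.leaf (nat_lit 35097889)) (BT.leaf (nat_lit 35097365))) (BT.node (nat_lit 10304896) (BT.leaf (nat_lit 35097373)) (BT.leaf (nat_lit 35097869)))) (BT.node (nat_lit 10305088) (BT.node (nat_lit 10305024) (BT.leaf (nat_lit 35097873)) (BT.leaf (nat_lit 35097877))) (BT.node (nat_lit 10305152) (BT.leaf (nat_lit 35098377)) (BT.leaf (nat_lit 35098373)))))) (BT.node (nat_lit 10305856) (BT.node (nat_lit 10305472) (BT.node (nat_lit 10305344) (BT.node (nat_lit 10305280) (BT.leaf (nat_lit 37234949)) (BT.leaf (nat_lit 37235485))) (BT.node (nat_lit 10305408) (BT.leaf (nat_lit 35099913)) (BT.leaf (nat_lit 38394649)))) (BT.node (nat_lit 10305664) (BT.node (nat_lit 10305536) (BT.leaf (nat_lit 36637217)) (BT.leaf (nat_lit 41294349))) (BT.node (nat_lit 10305728) (BT.leaf (nat_lit 35104545)) (BT.leaf (nat_lit 35087633))))) (BT.node (nat_lit 10306240) (BT.node (nat_lit 10306112) (BT.node (nat_lit 10306048) (BT.leaf (nat_lit 39077397)) (BT.leaf (nat_lit 36402461))) (BT.node (nat_lit 10306176) (BT.leaf (nat_lit 38127381)) (BT.leaf (nat_lit 41562393)))) (BT.node (nat_lit 10306496) (BT.node (nat_lit 10306432) (BT.leaf (nat_lit 35136529)) (BT.leaf (nat_lit 35105801))) (BT.node (nat_lit 10306560) (BT.leaf (nat_lit 35103517)) (BT.leaf (nat_lit 41207065))))))) (BT.node (nat_lit 10307712) (BT.node (nat_lit 10307136) (BT.node (nat_lit 10306816) (BT.node (nat_lit 10306688) (BT.leaf (nat_lit 39833613)) (BT.node (nat_lit 10306752) (BT.leaf (nat_lit 35088649)) (BT.leaf (nat_lit 39840537)))) (BT.node (nat_lit 10307008) (BT.node (nat_lit 10306944) (BT.leaf (nat_lit 39833633)) (BT.leaf (nat_lit 35141649))) (BT.node (nat_lit 10307072) (BT.leaf (nat_lit 38655753)) (BT.leaf (nat_lit 41542681))))) (BT.node (nat_lit 10307456) (BT.node (nat_lit 10307264) (BT.node (nat_lit 10307200) (BT.leaf (nat_lit 35933973)) (BT.leaf (nat_lit 36523293))) (BT.node (nat_lit 10307328) (BT.leaf (nat_lit 41183777)) (BT.leaf (nat_lit 35223065)))) (BT.node (nat_lit 10307584) (BT.node (nat_lit 10307520) (BT.leaf (nat_lit 35089433)) (BT.leaf (nat_lit 35086617))) (BT.node (nat_lit 10307648) (BT.leaf (nat_lit 35852813)) (BT.leaf (nat_lit 35853069)))))) (BT.node (nat_lit 10307968) (BT.node (nat_lit 10307782) (BT.node (nat_lit 10307778) (BT.node (nat_lit 10307776) (BT.leaf (nat_lit 35852805)) (BT.leaf (nat_lit 41348125))) (BT.node (nat_lit 10307779) (BT.leaf (nat_lit 648196)) (BT.leaf (nat_lit 648196)))) (BT.node (nat_lit 10307840) (BT.node (nat_lit 10307784) (BT.leaf (nat_lit 648196)) (BT.leaf (nat_lit 648196))) (BT.node (nat_lit 10307904) (BT.leaf (nat_lit 35852561)) (BT.leaf (nat_lit 35852833))))) (BT.node (nat_lit 10308224) (BT.node (nat_lit 10308096) (BT.node (nat_lit 10308032) (BT.leaf (nat_lit 35853061)) (BT.leaf (nat_lit 35853065))) (BT.node (nat_lit 10308160) (BT.leaf (nat_lit 35853077)) (BT.leaf (nat_lit 35853089)))) (BT.node (nat_lit 10308352) (BT.node (nat_lit 10308288) (BT.leaf (nat_lit 40609297)) (BT.leaf (nat_lit 40609313))) (BT.node (nat_lit 10308416) (BT.leaf (nat_lit 41699361)) (BT.leaf (nat_lit 41699341))))))))))) (BT.node (nat_lit 10335296) (BT.node (nat_lit 10323200) (BT.node (nat_lit 10314816) (BT.node (nat_lit 10311808) (BT.node (nat_lit 10310016) (BT.node (nat_lit 10309440) (BT.node (nat_lit 10308672) (BT.node (nat_lit 10308544) (BT.leaf (nat_lit 41699345)) (BT.node (nat_lit 10308608) (BT.leaf (nat_lit 41699349)) (BT.leaf (nat_lit 41699353)))) (BT.node (nat_lit 10308800) (BT.node (nat_lit 10308736) (BT.leaf (nat_lit 41699357)) (BT.leaf (nat_lit 35856157))) (BT.node (nat_lit 10308928) (BT.leaf (nat_lit 35852577)) (BT.leaf (nat_lit 40896021))))) (BT.node (nat_lit 10309760) (BT.node (nat_lit 10309632) (BT.node (nat_lit 10309568) (BT.leaf (nat_lit 40765445)) (BT.leaf (nat_lit 35094549))) (BT.node (nat_lit 10309696) (BT.leaf (nat_lit 38948641)) (BT.leaf (nat_lit 35856145)))) (BT.node (nat_lit 10309888) (BT.node (nat_lit 10309824) (BT.leaf (nat_lit 39074325)) (BT.leaf (nat_lit 35856161))) (BT.node (nat_lit 10309952) (BT.leaf (nat_lit 35090449)) (BT.leaf (nat_lit 40899097)))))) (BT.node (nat_lit 10310592) (BT.node (nat_lit 10310272) (BT.node (nat_lit 10310144) (BT.leaf (nat_lit 40898841)) (BT.node (nat_lit 10310208) (BT.leaf (nat_lit 35024133)) (BT.leaf (nat_lit 35024137)))) (BT.node (nat_lit 10310400) (BT.node (nat_lit 10310336) (BT.leaf (nat_lit 39466501)) (BT.leaf (nat_lit 39055133))) (BT.node (nat_lit 10310528) (BT.leaf (nat_lit 37000721)) (BT.leaf (nat_lit 35939593))))) (BT.node (nat_lit 10311296) (BT.node (nat_lit 10311173) (BT.node (nat_lit 10310976) (BT.leaf (nat_lit 37190161)) (BT.leaf (nat_lit 35024153))) (BT.node (nat_lit 10311232) (BT.leaf (nat_lit 650552)) (BT.leaf (nat_lit 38258969)))) (BT.node (nat_lit 10311680) (BT.node (nat_lit 10311616) (BT.leaf (nat_lit 41217297)) (BT.leaf (nat_lit 39080201))) (BT.node (nat_lit 10311744) (BT.leaf (nat_lit 38258693)) (BT.leaf (nat_lit 38258697))))))) (BT.node (nat_lit 10313216) (BT.node (nat_lit 10312384) (BT.node (nat_lit 10312000) (BT.node (nat_lit 10311872) (BT.leaf (nat_lit 40808481)) (BT.node (nat_lit 10311936) (BT.leaf (nat_lit 35448849)) (BT.leaf (nat_lit 35105541)))) (BT.node (nat_lit 10312131) (BT.node (nat_lit 10312064) (BT.leaf (nat_lit 35105545)) (BT.leaf (nat_lit 36148253))) (BT.node (nat_lit 10312192) (BT.leaf (nat_lit 645448)) (BT.leaf (nat_lit 39298581))))) (BT.node (nat_lit 10312960) (BT.node (nat_lit 10312576) (BT.node (nat_lit 10312448) (BT.leaf (nat_lit 39298593)) (BT.leaf (nat_lit 38723605))) (BT.node (nat_lit 10312832) (BT.leaf (nat_lit 38723077)) (BT.leaf (nat_lit 38723845)))) (BT.node (nat_lit 10313088) (BT.node (nat_lit 10313024) (BT.leaf (nat_lit 39672077)) (BT.leaf (nat_lit 39672081))) (BT.node (nat_lit 10313152) (BT.leaf (nat_lit 39672089)) (BT.leaf (nat_lit 39672097)))))) (BT.node (nat_lit 10313984) (BT.node (nat_lit 10313664) (BT.node (nat_lit 10313536) (BT.node (nat_lit 10313472) (BT.leaf (nat_lit 36419077)) (BT.leaf (nat_lit 37024789))) (BT.node (nat_lit 10313600) (BT.leaf (nat_lit 38364173)) (BT.leaf (nat_lit 40941061)))) (BT.node (nat_lit 10313792) (BT.node (nat_lit 10313728) (BT.leaf (nat_lit 37020425)) (BT.leaf (nat_lit 37020421))) (BT.node (nat_lit 10313920) (BT.leaf (nat_lit 34392601)) (BT.leaf (nat_lit 39920145))))) (BT.node (nat_lit 10314432) (BT.node (nat_lit 10314112) (BT.node (nat_lit 10314048) (BT.leaf (nat_lit 34392857)) (BT.leaf (nat_lit 38992661))) (BT.node (nat_lit 10314368) (BT.leaf (nat_lit 38080785)) (BT.leaf (nat_lit 35094293)))) (BT.node (nat_lit 10314624) (BT.node (nat_lit 10314496) (BT.leaf (nat_lit 37020933)) (BT.leaf (nat_lit 41047073))) (BT.node (nat_lit 10314752) (BT.leaf (nat_lit 39310089)) (BT.leaf (nat_lit 35098117)))))))) (BT.node (nat_lit 10318848) (BT.node (nat_lit 10316416) (BT.node (nat_lit 10315328) (BT.node (nat_lit 10314947) (BT.node (nat_lit 10314883) (BT.leaf (nat_lit 35098121)) (BT.node (nat_lit 10314944) (BT.leaf (nat_lit 645064)) (BT.leaf (nat_lit 40368925)))) (BT.node (nat_lit 10314952) (BT.node (nat_lit 10314949) (BT.leaf (nat_lit 644712)) (BT.leaf (nat_lit 644712))) (BT.node (nat_lit 10315264) (BT.leaf (nat_lit 644712)) (BT.leaf (nat_lit 35353617))))) (BT.node (nat_lit 10315712) (BT.node (nat_lit 10315584) (BT.node (nat_lit 10315456) (BT.leaf (nat_lit 38384925)) (BT.leaf (nat_lit 40885777))) (BT.node (nat_lit 10315648) (BT.leaf (nat_lit 40326169)) (BT.leaf (nat_lit 40885793)))) (BT.node (nat_lit 10316224) (BT.node (nat_lit 10316160) (BT.leaf (nat_lit 40884501)) (BT.leaf (nat_lit 36101901))) (BT.node (nat_lit 10316352) (BT.leaf (nat_lit 36101905)) (BT.leaf (nat_lit 36101913)))))) (BT.node (nat_lit 10317440) (BT.node (nat_lit 10317120) (BT.node (nat_lit 10316608) (BT.node (nat_lit 10316544) (BT.leaf (nat_lit 36101917)) (BT.leaf (nat_lit 38945053))) (BT.node (nat_lit 10316800) (BT.leaf (nat_lit 38822933)) (BT.leaf (nat_lit 38563345)))) (BT.node (nat_lit 10317248) (BT.node (nat_lit 10317184) (BT.leaf (nat_lit 35096861)) (BT.leaf (nat_lit 39667205))) (BT.node (nat_lit 10317376) (BT.leaf (nat_lit 38678549)) (BT.leaf (nat_lit 37965081))))) (BT.node (nat_lit 10318208) (BT.node (nat_lit 10317632) (BT.node (nat_lit 10317568) (BT.leaf (nat_lit 37965089)) (BT.leaf (nat_lit 39666969))) (BT.node (nat_lit 10317760) (BT.leaf (nat_lit 35096609)) (BT.leaf (nat_lit 35097113)))) (BT.node (nat_lit 10318464) (BT.node (nat_lit 10318272) (BT.leaf (nat_lit 34349089)) (BT.leaf (nat_lit 38661913))) (BT.node (nat_lit 10318656) (BT.leaf (nat_lit 39394061)) (BT.leaf (nat_lit 39393553))))))) (BT.node (nat_lit 10321728) (BT.node (nat_lit 10320384) (BT.node (nat_lit 10319680) (BT.node (nat_lit 10319552) (BT.leaf (nat_lit 39695377)) (BT.node (nat_lit 10319616) (BT.leaf (nat_lit 36051717)) (BT.leaf (nat_lit 35097369)))) (BT.node (nat_lit 10320256) (BT.node (nat_lit 10320000) (BT.leaf (nat_lit 35097881)) (BT.leaf (nat_lit 41270281))) (BT.node (nat_lit 10320320) (BT.leaf (nat_lit 35097361)) (BT.leaf (nat_lit 35097609))))) (BT.node (nat_lit 10321344) (BT.node (nat_lit 10320576) (BT.node (nat_lit 10320448) (BT.leaf (nat_lit 35097605)) (BT.leaf (nat_lit 35097633))) (BT.node (nat_lit 10321024) (BT.leaf (nat_lit 35097613)) (BT.leaf (nat_lit 35098145)))) (BT.node (nat_lit 10321600) (BT.node (nat_lit 10321472) (BT.leaf (nat_lit 35117829)) (BT.leaf (nat_lit 36017421))) (BT.node (nat_lit 10321664) (BT.leaf (nat_lit 35098645)) (BT.leaf (nat_lit 35098393)))))) (BT.node (nat_lit 10322368) (BT.node (nat_lit 10322048) (BT.node (nat_lit 10321856) (BT.node (nat_lit 10321792) (BT.leaf (nat_lit 36018461)) (BT.leaf (nat_lit 35099161))) (BT.node (nat_lit 10321984) (BT.leaf (nat_lit 35967005)) (BT.leaf (nat_lit 36049165)))) (BT.node (nat_lit 10322176) (BT.node (nat_lit 10322112) (BT.leaf (nat_lit 36048929)) (BT.leaf (nat_lit 35099925))) (BT.node (nat_lit 10322240) (BT.leaf (nat_lit 36018973)) (BT.leaf (nat_lit 36045853))))) (BT.node (nat_lit 10322880) (BT.node (nat_lit 10322496) (BT.node (nat_lit 10322432) (BT.leaf (nat_lit 35100957)) (BT.leaf (nat_lit 37023773))) (BT.node (nat_lit 10322816) (BT.leaf (nat_lit 36052257)) (BT.leaf (nat_lit 41294089)))) (BT.node (nat_lit 10323072) (BT.node (nat_lit 10322944) (BT.leaf (nat_lit 41294085)) (BT.leaf (nat_lit 36637189))) (BT.node (nat_lit 10323136) (BT.leaf (nat_lit 36637197)) (BT.leaf (nat_lit 36635665))))))))) (BT.node (nat_lit 10329856) (BT.node (nat_lit 10325824) (BT.node (nat_lit 10324352) (BT.node (nat_lit 10323776) (BT.node (nat_lit 10323392) (BT.node (nat_lit 10323264) (BT.leaf (nat_lit 35080965)) (BT.node (nat_lit 10323328) (BT.leaf (nat_lit 41222405)) (BT.leaf (nat_lit 41222409)))) (BT.node (nat_lit 10323648) (BT.node (nat_lit 10323456) (BT.leaf (nat_lit 41294369)) (BT.leaf (nat_lit 41293061))) (BT.node (nat_lit 10323712) (BT.leaf (nat_lit 41222173)) (BT.leaf (nat_lit 37476101))))) (BT.node (nat_lit 10324032) (BT.node (nat_lit 10323904) (BT.node (nat_lit 10323840) (BT.leaf (nat_lit 40916745)) (BT.leaf (nat_lit 38133781))) (BT.node (nat_lit 10323968) (BT.leaf (nat_lit 36876049)) (BT.leaf (nat_lit 35117337)))) (BT.node (nat_lit 10324224) (BT.node (nat_lit 10324096) (BT.leaf (nat_lit 35101701)) (BT.leaf (nat_lit 40918281))) (BT.node (nat_lit 10324288) (BT.leaf (nat_lit 36483857)) (BT.leaf (nat_lit 39858965)))))) (BT.node (nat_lit 10324992) (BT.node (nat_lit 10324736) (BT.node (nat_lit 10324544) (BT.node (nat_lit 10324416) (BT.leaf (nat_lit 39858973)) (BT.leaf (nat_lit 35885845))) (BT.node (nat_lit 10324672) (BT.leaf (nat_lit 35138833)) (BT.leaf (nat_lit 38133013)))) (BT.node (nat_lit 10324864) (BT.node (nat_lit 10324800) (BT.leaf (nat_lit 40862213)) (BT.leaf (nat_lit 40862217))) (BT.node (nat_lit 10324928) (BT.leaf (nat_lit 40862225)) (BT.leaf (nat_lit 40862233))))) (BT.node (nat_lit 10325376) (BT.node (nat_lit 10325248) (BT.node (nat_lit 10325056) (BT.leaf (nat_lit 35102237)) (BT.leaf (nat_lit 35103761))) (BT.node (nat_lit 10325312) (BT.leaf (nat_lit 35201037)) (BT.leaf (nat_lit 35299105)))) (BT.node (nat_lit 10325568) (BT.node (nat_lit 10325440) (BT.leaf (nat_lit 41302045)) (BT.leaf (nat_lit 35102733))) (BT.node (nat_lit 10325632) (BT.leaf (nat_lit 36572445)) (BT.leaf (nat_lit 41288453))))))) (BT.node (nat_lit 10328064) (BT.node (nat_lit 10327040) (BT.node (nat_lit 10326208) (BT.node (nat_lit 10325888) (BT.leaf (nat_lit 41288457)) (BT.node (nat_lit 10326016) (BT.leaf (nat_lit 35102997)) (BT.leaf (nat_lit 34851077)))) (BT.node (nat_lit 10326912) (BT.node (nat_lit 10326848) (BT.leaf (nat_lit 41287177)) (BT.leaf (nat_lit 39078413))) (BT.node (nat_lit 10326976) (BT.leaf (nat_lit 39078405)) (BT.leaf (nat_lit 36367125))))) (BT.node (nat_lit 10327744) (BT.node (nat_lit 10327168) (BT.node (nat_lit 10327104) (BT.leaf (nat_lit 34476809)) (BT.leaf (nat_lit 39288593))) (BT.node (nat_lit 10327552) (BT.leaf (nat_lit 35105569)) (BT.leaf (nat_lit 35105809)))) (BT.node (nat_lit 10327872) (BT.node (nat_lit 10327808) (BT.leaf (nat_lit 37728005)) (BT.leaf (nat_lit 39922969))) (BT.node (nat_lit 10328000) (BT.leaf (nat_lit 35105817)) (BT.leaf (nat_lit 36429845)))))) (BT.node (nat_lit 10328576) (BT.node (nat_lit 10328320) (BT.node (nat_lit 10328192) (BT.node (nat_lit 10328128) (BT.leaf (nat_lit 35654929)) (BT.leaf (nat_lit 35654917))) (BT.node (nat_lit 10328256) (BT.leaf (nat_lit 35654945)) (BT.leaf (nat_lit 39050273)))) (BT.node (nat_lit 10328448) (BT.node (nat_lit 10328384) (BT.leaf (nat_lit 38376469)) (BT.leaf (nat_lit 35938849))) (BT.node (nat_lit 10328512) (BT.leaf (nat_lit 34873629)) (BT.leaf (nat_lit 40341253))))) (BT.node (nat_lit 10328896) (BT.node (nat_lit 10328768) (BT.node (nat_lit 10328640) (BT.leaf (nat_lit 35607057)) (BT.leaf (nat_lit 41002005))) (BT.node (nat_lit 10328832) (BT.leaf (nat_lit 38235413)) (BT.leaf (nat_lit 37461521)))) (BT.node (nat_lit 10329024) (BT.node (nat_lit 10328960) (BT.leaf (nat_lit 35107605)) (BT.leaf (nat_lit 39498781))) (BT.node (nat_lit 10329088) (BT.leaf (nat_lit 35152657)) (BT.leaf (nat_lit 41216265)))))))) (BT.node (nat_lit 10332928) (BT.node (nat_lit 10331328) (BT.node (nat_lit 10330624) (BT.node (nat_lit 10330112) (BT.node (nat_lit 10329984) (BT.leaf (nat_lit 37402645)) (BT.node (nat_lit 10330048) (BT.leaf (nat_lit 35458825)) (BT.leaf (nat_lit 35458821)))) (BT.node (nat_lit 10330304) (BT.node (nat_lit 10330176) (BT.leaf (nat_lit 35458829)) (BT.leaf (nat_lit 35775237))) (BT.node (nat_lit 10330368) (BT.leaf (nat_lit 35108621)) (BT.leaf (nat_lit 39779333))))) (BT.node (nat_lit 10331008) (BT.node (nat_lit 10330880) (BT.node (nat_lit 10330816) (BT.leaf (nat_lit 35109645)) (BT.leaf (nat_lit 35652381))) (BT.node (nat_lit 10330944) (BT.leaf (nat_lit 35641357)) (BT.leaf (nat_lit 35475217)))) (BT.node (nat_lit 10331200) (BT.node (nat_lit 10331072) (BT.leaf (nat_lit 35719941)) (BT.leaf (nat_lit 35719945))) (BT.node (nat_lit 10331264) (BT.leaf (nat_lit 39779341)) (BT.leaf (nat_lit 36713497)))))) (BT.node (nat_lit 10332096) (BT.node (nat_lit 10331584) (BT.node (nat_lit 10331456) (BT.node (nat_lit 10331392) (BT.leaf (nat_lit 35641365)) (BT.leaf (nat_lit 39779353))) (BT.node (nat_lit 10331520) (BT.leaf (nat_lit 35641373)) (BT.leaf (nat_lit 35641377)))) (BT.node (nat_lit 10331840) (BT.node (nat_lit 10331776) (BT.leaf (nat_lit 35775765)) (BT.leaf (nat_lit 35108641))) (BT.node (nat_lit 10332032) (BT.leaf (nat_lit 35108893)) (BT.leaf (nat_lit 36685333))))) (BT.node (nat_lit 10332672) (BT.node (nat_lit 10332544) (BT.node (nat_lit 10332288) (BT.leaf (nat_lit 35109393)) (BT.leaf (nat_lit 35034889))) (BT.node (nat_lit 10332608) (BT.leaf (nat_lit 35837465)) (BT.leaf (nat_lit 35483153)))) (BT.node (nat_lit 10332800) (BT.node (nat_lit 10332736) (BT.leaf (nat_lit 35461393)) (BT.leaf (nat_lit 35109905))) (BT.node (nat_lit 10332864) (BT.leaf (nat_lit 35110161)) (BT.leaf (nat_lit 35108113))))))) (BT.node (nat_lit 10334208) (BT.node (nat_lit 10333568) (BT.node (nat_lit 10333120) (BT.node (nat_lit 10332992) (BT.leaf (nat_lit 41161505)) (BT.node (nat_lit 10333056) (BT.leaf (nat_lit 37925125)) (BT.leaf (nat_lit 38435101)))) (BT.node (nat_lit 10333376) (BT.node (nat_lit 10333184) (BT.leaf (nat_lit 35939093)) (BT.leaf (nat_lit 38439685))) (BT.node (nat_lit 10333504) (BT.leaf (nat_lit 35110417)) (BT.leaf (nat_lit 35110677))))) (BT.node (nat_lit 10333952) (BT.node (nat_lit 10333760) (BT.node (nat_lit 10333632) (BT.leaf (nat_lit 35699465)) (BT.leaf (nat_lit 35342357))) (BT.node (nat_lit 10333888) (BT.leaf (nat_lit 41080589)) (BT.leaf (nat_lit 38406173)))) (BT.node (nat_lit 10334080) (BT.node (nat_lit 10334016) (BT.leaf (nat_lit 41567765)) (BT.leaf (nat_lit 35111197))) (BT.node (nat_lit 10334144) (BT.leaf (nat_lit 37796101)) (BT.leaf (nat_lit 37796105)))))) (BT.node (nat_lit 10334720) (BT.node (nat_lit 10334464) (BT.node (nat_lit 10334336) (BT.node (nat_lit 10334272) (BT.leaf (nat_lit 37796109)) (BT.leaf (nat_lit 37796121))) (BT.node (nat_lit 10334400) (BT.leaf (nat_lit 35111697)) (BT.leaf (nat_lit 37796129)))) (BT.node (nat_lit 10334592) (BT.node (nat_lit 10334528) (BT.leaf (nat_lit 40393737)) (BT.leaf (nat_lit 37421329))) (BT.node (nat_lit 10334656) (BT.leaf (nat_lit 39293461)) (BT.leaf (nat_lit 39535637))))) (BT.node (nat_lit 10335040) (BT.node (nat_lit 10334912) (BT.node (nat_lit 10334848) (BT.leaf (nat_lit 38606357)) (BT.leaf (nat_lit 35226381))) (BT.node (nat_lit 10334976) (BT.leaf (nat_lit 35226393)) (BT.leaf (nat_lit 35112977)))) (BT.node (nat_lit 10335168) (BT.node (nat_lit 10335104) (BT.leaf (nat_lit 38728737)) (BT.leaf (nat_lit 38217485))) (BT.node (nat_lit 10335232) (BT.leaf (nat_lit 35113233)) (BT.leaf (nat_lit 35113489)))))))))) (BT.node (nat_lit 10344448) (BT.node (nat_lit 10339776) (BT.node (nat_lit 10337408) (BT.node (nat_lit 10336256) (BT.node (nat_lit 10335744) (BT.node (nat_lit 10335488) (BT.node (nat_lit 10335360) (BT.leaf (nat_lit 38232865)) (BT.node (nat_lit 10335424) (BT.leaf (nat_lit 35188241)) (BT.leaf (nat_lit 35188249)))) (BT.node (nat_lit 10335616) (BT.node (nat_lit 10335552) (BT.leaf (nat_lit 35188253)) (BT.leaf (nat_lit 38232845))) (BT.node (nat_lit 10335680) (BT.leaf (nat_lit 40313621)) (BT.leaf (nat_lit 38232857))))) (BT.node (nat_lit 10336000) (BT.node (nat_lit 10335872) (BT.node (nat_lit 10335808) (BT.leaf (nat_lit 38232861)) (BT.leaf (nat_lit 41095173))) (BT.node (nat_lit 10335936) (BT.leaf (nat_lit 38253317)) (BT.leaf (nat_lit 41095193)))) (BT.node (nat_lit 10336128) (BT.node (nat_lit 10336064) (BT.leaf (nat_lit 38466565)) (BT.leaf (nat_lit 38466569))) (BT.node (nat_lit 10336192) (BT.leaf (nat_lit 40035085)) (BT.leaf (nat_lit 34279953)))))) (BT.node (nat_lit 10336832) (BT.node (nat_lit 10336448) (BT.node (nat_lit 10336320) (BT.leaf (nat_lit 38353157)) (BT.node (nat_lit 10336384) (BT.leaf (nat_lit 38353161)) (BT.leaf (nat_lit 38353185)))) (BT.node (nat_lit 10336704) (BT.node (nat_lit 10336512) (BT.leaf (nat_lit 35301153)) (BT.leaf (nat_lit 35131421))) (BT.node (nat_lit 10336768) (BT.leaf (nat_lit 37025309)) (BT.leaf (nat_lit 39521549))))) (BT.node (nat_lit 10337088) (BT.node (nat_lit 10336960) (BT.node (nat_lit 10336896) (BT.leaf (nat_lit 35044385)) (BT.leaf (nat_lit 37413401))) (BT.node (nat_lit 10337024) (BT.leaf (nat_lit 35114773)) (BT.leaf (nat_lit 36120077)))) (BT.node (nat_lit 10337216) (BT.node (nat_lit 10337152) (BT.leaf (nat_lit 37411609)) (BT.leaf (nat_lit 35116565))) (BT.node (nat_lit 10337280) (BT.leaf (nat_lit 35352081)) (BT.leaf (nat_lit 35934737))))))) (BT.node (nat_lit 10338624) (BT.node (nat_lit 10338112) (BT.node (nat_lit 10337664) (BT.node (nat_lit 10337472) (BT.leaf (nat_lit 35225369)) (BT.node (nat_lit 10337536) (BT.leaf (nat_lit 37194245)) (BT.leaf (nat_lit 35055129)))) (BT.node (nat_lit 10337984) (BT.node (nat_lit 10337792) (BT.leaf (nat_lit 35354641)) (BT.leaf (nat_lit 39288089))) (BT.node (nat_lit 10338048) (BT.leaf (nat_lit 38778117)) (BT.leaf (nat_lit 38778121))))) (BT.node (nat_lit 10338368) (BT.node (nat_lit 10338240) (BT.node (nat_lit 10338176) (BT.leaf (nat_lit 38710789)) (BT.leaf (nat_lit 35117857))) (BT.node (nat_lit 10338304) (BT.leaf (nat_lit 40376849)) (BT.leaf (nat_lit 40376853)))) (BT.node (nat_lit 10338496) (BT.node (nat_lit 10338432) (BT.leaf (nat_lit 40376857)) (BT.leaf (nat_lit 40376861))) (BT.node (nat_lit 10338560) (BT.leaf (nat_lit 35117837)) (BT.leaf (nat_lit 35118113)))))) (BT.node (nat_lit 10339200) (BT.node (nat_lit 10338944) (BT.node (nat_lit 10338816) (BT.node (nat_lit 10338752) (BT.leaf (nat_lit 38456849)) (BT.leaf (nat_lit 38999049))) (BT.node (nat_lit 10338880) (BT.leaf (nat_lit 38999045)) (BT.leaf (nat_lit 35120665)))) (BT.node (nat_lit 10339072) (BT.node (nat_lit 10339008) (BT.leaf (nat_lit 39017237)) (BT.leaf (nat_lit 39971869))) (BT.node (nat_lit 10339136) (BT.leaf (nat_lit 35115545)) (BT.leaf (nat_lit 36120069))))) (BT.node (nat_lit 10339520) (BT.node (nat_lit 10339392) (BT.node (nat_lit 10339264) (BT.leaf (nat_lit 36120073)) (BT.leaf (nat_lit 41485585))) (BT.node (nat_lit 10339456) (BT.leaf (nat_lit 41230345)) (BT.leaf (nat_lit 35119389)))) (BT.node (nat_lit 10339648) (BT.node (nat_lit 10339584) (BT.leaf (nat_lit 35123737)) (BT.leaf (nat_lit 38999061))) (BT.node (nat_lit 10339712) (BT.leaf (nat_lit 38999069)) (BT.leaf (nat_lit 36087825)))))))) (BT.node (nat_lit 10341952) (BT.node (nat_lit 10340864) (BT.node (nat_lit 10340288) (BT.node (nat_lit 10340032) (BT.node (nat_lit 10339904) (BT.leaf (nat_lit 36087833)) (BT.node (nat_lit 10339968) (BT.leaf (nat_lit 41149985)) (BT.leaf (nat_lit 37012509)))) (BT.node (nat_lit 10340160) (BT.node (nat_lit 10340096) (BT.leaf (nat_lit 41149957)) (BT.leaf (nat_lit 36481541))) (BT.node (nat_lit 10340224) (BT.leaf (nat_lit 35116309)) (BT.leaf (nat_lit 36478737))))) (BT.node (nat_lit 10340544) (BT.node (nat_lit 10340416) (BT.node (nat_lit 10340352) (BT.leaf (nat_lit 36478745)) (BT.leaf (nat_lit 35124501))) (BT.node (nat_lit 10340480) (BT.leaf (nat_lit 37026573)) (BT.leaf (nat_lit 37026821)))) (BT.node (nat_lit 10340736) (BT.node (nat_lit 10340608) (BT.leaf (nat_lit 35116313)) (BT.leaf (nat_lit 40958997))) (BT.node (nat_lit 10340800) (BT.leaf (nat_lit 36094745)) (BT.leaf (nat_lit 36094485)))))) (BT.node (nat_lit 10341376) (BT.node (nat_lit 10341120) (BT.node (nat_lit 10340992) (BT.node (nat_lit 10340928) (BT.leaf (nat_lit 35444249)) (BT.leaf (nat_lit 35125025))) (BT.node (nat_lit 10341056) (BT.leaf (nat_lit 35127045)) (BT.leaf (nat_lit 38259477)))) (BT.node (nat_lit 10341248) (BT.node (nat_lit 10341184) (BT.leaf (nat_lit 39026437)) (BT.leaf (nat_lit 39026441))) (BT.node (nat_lit 10341312) (BT.leaf (nat_lit 39026445)) (BT.leaf (nat_lit 39026457))))) (BT.node (nat_lit 10341696) (BT.node (nat_lit 10341504) (BT.node (nat_lit 10341440) (BT.leaf (nat_lit 39026465)) (BT.leaf (nat_lit 40783369))) (BT.node (nat_lit 10341632) (BT.leaf (nat_lit 40783365)) (BT.leaf (nat_lit 34970393)))) (BT.node (nat_lit 10341824) (BT.node (nat_lit 10341760) (BT.leaf (nat_lit 35119365)) (BT.leaf (nat_lit 38247453))) (BT.node (nat_lit 10341888) (BT.leaf (nat_lit 38483477)) (BT.leaf (nat_lit 38587673))))))) (BT.node (nat_lit 10342912) (BT.node (nat_lit 10342400) (BT.node (nat_lit 10342144) (BT.node (nat_lit 10342016) (BT.leaf (nat_lit 35127061)) (BT.node (nat_lit 10342080) (BT.leaf (nat_lit 38483461)) (BT.leaf (nat_lit 38483465)))) (BT.node (nat_lit 10342272) (BT.node (nat_lit 10342208) (BT.leaf (nat_lit 38483469)) (BT.leaf (nat_lit 38483481))) (BT.node (nat_lit 10342336) (BT.leaf (nat_lit 35279389)) (BT.leaf (nat_lit 37027349))))) (BT.node (nat_lit 10342656) (BT.node (nat_lit 10342528) (BT.node (nat_lit 10342464) (BT.leaf (nat_lit 35403033)) (BT.leaf (nat_lit 34850581))) (BT.node (nat_lit 10342592) (BT.leaf (nat_lit 34187285)) (BT.leaf (nat_lit 37089813)))) (BT.node (nat_lit 10342784) (BT.node (nat_lit 10342720) (BT.leaf (nat_lit 37108749)) (BT.leaf (nat_lit 37108741))) (BT.node (nat_lit 10342848) (BT.leaf (nat_lit 41039377)) (BT.leaf (nat_lit 41039381)))))) (BT.node (nat_lit 10343680) (BT.node (nat_lit 10343299) (BT.node (nat_lit 10343297) (BT.node (nat_lit 10343040) (BT.leaf (nat_lit 35128089)) (BT.leaf (nat_lit 35108361))) (BT.node (nat_lit 10343298) (BT.leaf (nat_lit 649816)) (BT.leaf (nat_lit 649816)))) (BT.node (nat_lit 10343304) (BT.node (nat_lit 10343302) (BT.leaf (nat_lit 649816)) (BT.leaf (nat_lit 649816))) (BT.node (nat_lit 10343616) (BT.leaf (nat_lit 649816)) (BT.leaf (nat_lit 35128605))))) (BT.node (nat_lit 10344192) (BT.node (nat_lit 10343936) (BT.node (nat_lit 10343808) (BT.leaf (nat_lit 37028125)) (BT.leaf (nat_lit 35270689))) (BT.node (nat_lit 10344000) (BT.leaf (nat_lit 37806353)) (BT.leaf (nat_lit 37806361)))) (BT.node (nat_lit 10344320) (BT.node (nat_lit 10344256) (BT.leaf (nat_lit 41095709)) (BT.leaf (nat_lit 35131677))) (BT.node (nat_lit 10344384) (BT.leaf (nat_lit 35955477)) (BT.leaf (nat_lit 35130909))))))))) (BT.node (nat_lit 10349504) (BT.node (nat_lit 10346496) (BT.node (nat_lit 10345472) (BT.node (nat_lit 10344960) (BT.node (nat_lit 10344704) (BT.node (nat_lit 10344512) (BT.leaf (nat_lit 35129113)) (BT.node (nat_lit 10344576) (BT.leaf (nat_lit 37421077)) (BT.leaf (nat_lit 37421333)))) (BT.node (nat_lit 10344832) (BT.node (nat_lit 10344768) (BT.leaf (nat_lit 35132693)) (BT.leaf (nat_lit 35443461))) (BT.node (nat_lit 10344896) (BT.leaf (nat_lit 35443465)) (BT.leaf (nat_lit 35443469))))) (BT.node (nat_lit 10345216) (BT.node (nat_lit 10345088) (BT.node (nat_lit 10345024) (BT.leaf (nat_lit 35443481)) (BT.leaf (nat_lit 35133201))) (BT.node (nat_lit 10345152) (BT.leaf (nat_lit 35445509)) (BT.leaf (nat_lit 35445513)))) (BT.node (nat_lit 10345344) (BT.node (nat_lit 10345280) (BT.leaf (nat_lit 35445517)) (BT.leaf (nat_lit 35445529))) (BT.node (nat_lit 10345408) (BT.leaf (nat_lit 39544325)) (BT.leaf (nat_lit 39544329)))))) (BT.node (nat_lit 10345984) (BT.node (nat_lit 10345728) (BT.node (nat_lit 10345600) (BT.node (nat_lit 10345536) (BT.leaf (nat_lit 39544333)) (BT.leaf (nat_lit 39082513))) (BT.node (nat_lit 10345664) (BT.leaf (nat_lit 35134481)) (BT.leaf (nat_lit 34201361)))) (BT.node (nat_lit 10345856) (BT.node (nat_lit 10345792) (BT.leaf (nat_lit 35134989)) (BT.leaf (nat_lit 35574561))) (BT.node (nat_lit 10345920) (BT.leaf (nat_lit 40953625)) (BT.leaf (nat_lit 40954637))))) (BT.node (nat_lit 10346240) (BT.node (nat_lit 10346112) (BT.node (nat_lit 10346048) (BT.leaf (nat_lit 35574541)) (BT.leaf (nat_lit 35574545))) (BT.node (nat_lit 10346182) (BT.leaf (nat_lit 35574553)) (BT.leaf (nat_lit 651520)))) (BT.node (nat_lit 10346368) (BT.node (nat_lit 10346304) (BT.leaf (nat_lit 35134985)) (BT.leaf (nat_lit 35134981))) (BT.node (nat_lit 10346432) (BT.leaf (nat_lit 35134733)) (BT.leaf (nat_lit 38366217))))))) (BT.node (nat_lit 10347648) (BT.node (nat_lit 10346944) (BT.node (nat_lit 10346688) (BT.node (nat_lit 10346560) (BT.leaf (nat_lit 40132357)) (BT.node (nat_lit 10346624) (BT.leaf (nat_lit 40132361)) (BT.leaf (nat_lit 38366489)))) (BT.node (nat_lit 10346816) (BT.node (nat_lit 10346752) (BT.leaf (nat_lit 34719761)) (BT.leaf (nat_lit 40473093))) (BT.node (nat_lit 10346880) (BT.leaf (nat_lit 35044873)) (BT.leaf (nat_lit 35044869))))) (BT.node (nat_lit 10347392) (BT.node (nat_lit 10347264) (BT.node (nat_lit 10347072) (BT.leaf (nat_lit 35135769)) (BT.leaf (nat_lit 41079825))) (BT.node (nat_lit 10347328) (BT.leaf (nat_lit 39337225)) (BT.leaf (nat_lit 35138565)))) (BT.node (nat_lit 10347520) (BT.node (nat_lit 10347456) (BT.leaf (nat_lit 36288273)) (BT.leaf (nat_lit 38388257))) (BT.node (nat_lit 10347584) (BT.leaf (nat_lit 38381085)) (BT.leaf (nat_lit 36221713)))))) (BT.node (nat_lit 10348288) (BT.node (nat_lit 10348032) (BT.node (nat_lit 10347840) (BT.node (nat_lit 10347712) (BT.leaf (nat_lit 37729553)) (BT.leaf (nat_lit 36221721))) (BT.node (nat_lit 10347904) (BT.leaf (nat_lit 35136025)) (BT.leaf (nat_lit 35139097)))) (BT.node (nat_lit 10348160) (BT.node (nat_lit 10348096) (BT.leaf (nat_lit 36088349)) (BT.leaf (nat_lit 40897301))) (BT.node (nat_lit 10348224) (BT.leaf (nat_lit 41142813)) (BT.leaf (nat_lit 35850261))))) (BT.node (nat_lit 10348544) (BT.node (nat_lit 10348416) (BT.node (nat_lit 10348352) (BT.leaf (nat_lit 39573269)) (BT.leaf (nat_lit 37723665))) (BT.node (nat_lit 10348480) (BT.leaf (nat_lit 37723673)) (BT.leaf (nat_lit 35136533)))) (BT.node (nat_lit 10348864) (BT.node (nat_lit 10348800) (BT.leaf (nat_lit 35534113)) (BT.leaf (nat_lit 37029649))) (BT.node (nat_lit 10349184) (BT.leaf (nat_lit 35142417)) (BT.leaf (nat_lit 40135713)))))))) (BT.node (nat_lit 10352384) (BT.node (nat_lit 10350976) (BT.node (nat_lit 10350144) (BT.node (nat_lit 10349760) (BT.node (nat_lit 10349568) (BT.leaf (nat_lit 35139085)) (BT.node (nat_lit 10349632) (BT.leaf (nat_lit 35142669)) (BT.leaf (nat_lit 35142925)))) (BT.node (nat_lit 10350016) (BT.node (nat_lit 10349824) (BT.leaf (nat_lit 35143953)) (BT.leaf (nat_lit 34180877))) (BT.node (nat_lit 10350080) (BT.leaf (nat_lit 35144721)) (BT.leaf (nat_lit 35758353))))) (BT.node (nat_lit 10350464) (BT.node (nat_lit 10350272) (BT.node (nat_lit 10350208) (BT.leaf (nat_lit 40490781)) (BT.leaf (nat_lit 40983053))) (BT.node (nat_lit 10350336) (BT.leaf (nat_lit 38507541)) (BT.leaf (nat_lit 40978437)))) (BT.node (nat_lit 10350784) (BT.node (nat_lit 10350592) (BT.leaf (nat_lit 37698313)) (BT.leaf (nat_lit 41005077))) (BT.node (nat_lit 10350848) (BT.leaf (nat_lit 35853581)) (BT.leaf (nat_lit 35853573)))))) (BT.node (nat_lit 10351744) (BT.node (nat_lit 10351232) (BT.node (nat_lit 10351104) (BT.node (nat_lit 10351040) (BT.leaf (nat_lit 35144981)) (BT.leaf (nat_lit 41005061))) (BT.node (nat_lit 10351168) (BT.leaf (nat_lit 35045913)) (BT.leaf (nat_lit 35145497)))) (BT.node (nat_lit 10351360) (BT.node (nat_lit 10351296) (BT.leaf (nat_lit 36177173)) (BT.leaf (nat_lit 36177181))) (BT.node (nat_lit 10351552) (BT.leaf (nat_lit 35145501)) (BT.leaf (nat_lit 41550621))))) (BT.node (nat_lit 10352000) (BT.node (nat_lit 10351872) (BT.node (nat_lit 10351808) (BT.leaf (nat_lit 41339397)) (BT.leaf (nat_lit 35145761))) (BT.node (nat_lit 10351936) (BT.leaf (nat_lit 38941717)) (BT.leaf (nat_lit 36040729)))) (BT.node (nat_lit 10352128) (BT.node (nat_lit 10352064) (BT.leaf (nat_lit 38941725)) (BT.leaf (nat_lit 35145741))) (BT.node (nat_lit 10352320) (BT.leaf (nat_lit 35145485)) (BT.leaf (nat_lit 35829273))))))) (BT.node (nat_lit 10353600) (BT.node (nat_lit 10352896) (BT.node (nat_lit 10352640) (BT.node (nat_lit 10352448) (BT.leaf (nat_lit 37190425)) (BT.node (nat_lit 10352512) (BT.leaf (nat_lit 35146769)) (BT.leaf (nat_lit 41018145)))) (BT.node (nat_lit 10352768) (BT.node (nat_lit 10352704) (BT.leaf (nat_lit 41018125)) (BT.leaf (nat_lit 36027653))) (BT.node (nat_lit 10352832) (BT.leaf (nat_lit 36027657)) (BT.leaf (nat_lit 36807445))))) (BT.node (nat_lit 10353280) (BT.node (nat_lit 10353088) (BT.node (nat_lit 10352960) (BT.leaf (nat_lit 36027673)) (BT.leaf (nat_lit 36027413))) (BT.node (nat_lit 10353152) (BT.leaf (nat_lit 40303373)) (BT.leaf (nat_lit 35149333)))) (BT.node (nat_lit 10353472) (BT.node (nat_lit 10353408) (BT.leaf (nat_lit 41409565)) (BT.leaf (nat_lit 35859977))) (BT.node (nat_lit 10353536) (BT.leaf (nat_lit 35150369)) (BT.leaf (nat_lit 37927173)))))) (BT.node (nat_lit 10354368) (BT.node (nat_lit 10353920) (BT.node (nat_lit 10353792) (BT.node (nat_lit 10353728) (BT.leaf (nat_lit 35896585)) (BT.leaf (nat_lit 39097629))) (BT.node (nat_lit 10353856) (BT.leaf (nat_lit 39434253)) (BT.leaf (nat_lit 41002017)))) (BT.node (nat_lit 10354112) (BT.node (nat_lit 10354048) (BT.leaf (nat_lit 35151133)) (BT.leaf (nat_lit 40373509))) (BT.node (nat_lit 10354304) (BT.leaf (nat_lit 38386205)) (BT.leaf (nat_lit 36213773))))) (BT.node (nat_lit 10354752) (BT.node (nat_lit 10354560) (BT.node (nat_lit 10354432) (BT.leaf (nat_lit 36213781)) (BT.leaf (nat_lit 36213785))) (BT.node (nat_lit 10354688) (BT.leaf (nat_lit 36213793)) (BT.leaf (nat_lit 36213525)))) (BT.node (nat_lit 10355008) (BT.node (nat_lit 10354880) (BT.leaf (nat_lit 36213529)) (BT.leaf (nat_lit 35151117))) (BT.node (nat_lit 10355072) (BT.leaf (nat_lit 37198349)) (BT.leaf (nat_lit 39475973)))))))))))) (BT.node (nat_lit 10396672) (BT.node (nat_lit 10377024) (BT.node (nat_lit 10367360) (BT.node (nat_lit 10360640) (BT.node (nat_lit 10357440) (BT.node (nat_lit 10356288) (BT.node (nat_lit 10355712) (BT.node (nat_lit 10355328) (BT.node (nat_lit 10355200) (BT.leaf (nat_lit 39475977)) (BT.node (nat_lit 10355264) (BT.leaf (nat_lit 39475989)) (BT.leaf (nat_lit 39476001)))) (BT.node (nat_lit 10355456) (BT.node (nat_lit 10355392) (BT.leaf (nat_lit 35559185)) (BT.leaf (nat_lit 35559193))) (BT.node (nat_lit 10355648) (BT.leaf (nat_lit 35152661)) (BT.leaf (nat_lit 37762325))))) (BT.node (nat_lit 10355968) (BT.node (nat_lit 10355840) (BT.node (nat_lit 10355776) (BT.leaf (nat_lit 41425953)) (BT.leaf (nat_lit 37762333))) (BT.node (nat_lit 10355904) (BT.leaf (nat_lit 37762337)) (BT.leaf (nat_lit 37757213)))) (BT.node (nat_lit 10356160) (BT.node (nat_lit 10356096) (BT.leaf (nat_lit 37757461)) (BT.leaf (nat_lit 37757469))) (BT.node (nat_lit 10356224) (BT.leaf (nat_lit 34827533)) (BT.leaf (nat_lit 37761565)))))) (BT.node (nat_lit 10356864) (BT.node (nat_lit 10356544) (BT.node (nat_lit 10356352) (BT.leaf (nat_lit 41424161)) (BT.node (nat_lit 10356480) (BT.leaf (nat_lit 41422873)) (BT.leaf (nat_lit 41424141)))) (BT.node (nat_lit 10356736) (BT.node (nat_lit 10356608) (BT.leaf (nat_lit 41424145)) (BT.leaf (nat_lit 41424153))) (BT.node (nat_lit 10356800) (BT.leaf (nat_lit 39306501)) (BT.leaf (nat_lit 40569117))))) (BT.node (nat_lit 10357120) (BT.node (nat_lit 10356992) (BT.node (nat_lit 10356928) (BT.leaf (nat_lit 39306517)) (BT.leaf (nat_lit 39306529))) (BT.node (nat_lit 10357056) (BT.leaf (nat_lit 35154965)) (BT.leaf (nat_lit 37950981)))) (BT.node (nat_lit 10357248) (BT.node (nat_lit 10357184) (BT.leaf (nat_lit 36816673)) (BT.leaf (nat_lit 40987653))) (BT.node (nat_lit 10357312) (BT.leaf (nat_lit 35154969)) (BT.leaf (nat_lit 35155225))))))) (BT.node (nat_lit 10359360) (BT.node (nat_lit 10358592) (BT.node (nat_lit 10358080) (BT.node (nat_lit 10357632) (BT.leaf (nat_lit 36212505)) (BT.node (nat_lit 10357696) (BT.leaf (nat_lit 35154973)) (BT.leaf (nat_lit 35155229)))) (BT.node (nat_lit 10358272) (BT.node (nat_lit 10358144) (BT.leaf (nat_lit 38445829)) (BT.leaf (nat_lit 38445833))) (BT.node (nat_lit 10358528) (BT.leaf (nat_lit 38445857)) (BT.leaf (nat_lit 38031117))))) (BT.node (nat_lit 10358976) (BT.node (nat_lit 10358848) (BT.node (nat_lit 10358720) (BT.leaf (nat_lit 38031125)) (BT.leaf (nat_lit 38031133))) (BT.node (nat_lit 10358912) (BT.leaf (nat_lit 41086725)) (BT.leaf (nat_lit 40846881)))) (BT.node (nat_lit 10359168) (BT.node (nat_lit 10359040) (BT.leaf (nat_lit 39031837)) (BT.leaf (nat_lit 36998421))) (BT.node (nat_lit 10359296) (BT.leaf (nat_lit 39821589)) (BT.leaf (nat_lit 40054049)))))) (BT.node (nat_lit 10359936) (BT.node (nat_lit 10359680) (BT.node (nat_lit 10359488) (BT.node (nat_lit 10359424) (BT.leaf (nat_lit 40541469)) (BT.leaf (nat_lit 39822605))) (BT.node (nat_lit 10359616) (BT.leaf (nat_lit 39822617)) (BT.leaf (nat_lit 39822625)))) (BT.node (nat_lit 10359808) (BT.node (nat_lit 10359744) (BT.leaf (nat_lit 37404949)) (BT.leaf (nat_lit 38616089))) (BT.node (nat_lit 10359872) (BT.leaf (nat_lit 38815257)) (BT.leaf (nat_lit 35157521))))) (BT.node (nat_lit 10360192) (BT.node (nat_lit 10360064) (BT.node (nat_lit 10360000) (BT.leaf (nat_lit 39039517)) (BT.leaf (nat_lit 38359821))) (BT.node (nat_lit 10360128) (BT.leaf (nat_lit 38359833)) (BT.leaf (nat_lit 35158545)))) (BT.node (nat_lit 10360320) (BT.node (nat_lit 10360256) (BT.leaf (nat_lit 34206481)) (BT.leaf (nat_lit 35286789))) (BT.node (nat_lit 10360576) (BT.leaf (nat_lit 36998661)) (BT.leaf (nat_lit 40699405)))))))) (BT.node (nat_lit 10364608) (BT.node (nat_lit 10362752) (BT.node (nat_lit 10361984) (BT.node (nat_lit 10360960) (BT.node (nat_lit 10360704) (BT.leaf (nat_lit 41443849)) (BT.node (nat_lit 10360768) (BT.leaf (nat_lit 41443845)) (BT.leaf (nat_lit 41443853)))) (BT.node (nat_lit 10361216) (BT.node (nat_lit 10361024) (BT.leaf (nat_lit 36797473)) (BT.leaf (nat_lit 39488537))) (BT.node (nat_lit 10361920) (BT.leaf (nat_lit 39488521)) (BT.leaf (nat_lit 40187657))))) (BT.node (nat_lit 10362304) (BT.node (nat_lit 10362112) (BT.node (nat_lit 10362048) (BT.leaf (nat_lit 36056097)) (BT.leaf (nat_lit 37033493))) (BT.node (nat_lit 10362176) (BT.leaf (nat_lit 39782933)) (BT.leaf (nat_lit 41517081)))) (BT.node (nat_lit 10362432) (BT.node (nat_lit 10362368) (BT.leaf (nat_lit 41448993)) (BT.leaf (nat_lit 35845385))) (BT.node (nat_lit 10362688) (BT.leaf (nat_lit 41516293)) (BT.leaf (nat_lit 37034517)))))) (BT.node (nat_lit 10363904) (BT.node (nat_lit 10363648) (BT.node (nat_lit 10363008) (BT.node (nat_lit 10362816) (BT.leaf (nat_lit 37034773)) (BT.leaf (nat_lit 39977229))) (BT.node (nat_lit 10363584) (BT.leaf (nat_lit 35868693)) (BT.leaf (nat_lit 36947477)))) (BT.node (nat_lit 10363776) (BT.node (nat_lit 10363712) (BT.leaf (nat_lit 38171165)) (BT.leaf (nat_lit 37458965))) (BT.node (nat_lit 10363840) (BT.leaf (nat_lit 37458973)) (BT.leaf (nat_lit 40990489))))) (BT.node (nat_lit 10364160) (BT.node (nat_lit 10364032) (BT.node (nat_lit 10363968) (BT.leaf (nat_lit 37788177)) (BT.leaf (nat_lit 38355485))) (BT.node (nat_lit 10364096) (BT.leaf (nat_lit 38368773)) (BT.leaf (nat_lit 38368777)))) (BT.node (nat_lit 10364352) (BT.node (nat_lit 10364224) (BT.leaf (nat_lit 38368793)) (BT.leaf (nat_lit 38368801))) (BT.node (nat_lit 10364416) (BT.leaf (nat_lit 39969289)) (BT.leaf (nat_lit 35184405))))))) (BT.node (nat_lit 10366144) (BT.node (nat_lit 10365632) (BT.node (nat_lit 10364865) (BT.node (nat_lit 10364800) (BT.leaf (nat_lit 39488517)) (BT.node (nat_lit 10364864) (BT.leaf (nat_lit 41452577)) (BT.leaf (nat_lit 41090325)))) (BT.node (nat_lit 10364928) (BT.node (nat_lit 10364866) (BT.leaf (nat_lit 647924)) (BT.leaf (nat_lit 647924))) (BT.node (nat_lit 10365568) (BT.leaf (nat_lit 41090333)) (BT.leaf (nat_lit 39107849))))) (BT.node (nat_lit 10365888) (BT.node (nat_lit 10365760) (BT.node (nat_lit 10365696) (BT.leaf (nat_lit 39760409)) (BT.leaf (nat_lit 35159825))) (BT.node (nat_lit 10365824) (BT.leaf (nat_lit 35160081)) (BT.leaf (nat_lit 38711065)))) (BT.node (nat_lit 10366016) (BT.node (nat_lit 10365952) (BT.leaf (nat_lit 35160337)) (BT.leaf (nat_lit 38840845))) (BT.node (nat_lit 10366080) (BT.leaf (nat_lit 34011921)) (BT.leaf (nat_lit 38840865)))))) (BT.node (nat_lit 10366848) (BT.node (nat_lit 10366464) (BT.node (nat_lit 10366336) (BT.node (nat_lit 10366208) (BT.leaf (nat_lit 40066069)) (BT.leaf (nat_lit 35167513))) (BT.node (nat_lit 10366400) (BT.leaf (nat_lit 38747925)) (BT.leaf (nat_lit 38531849)))) (BT.node (nat_lit 10366656) (BT.node (nat_lit 10366592) (BT.leaf (nat_lit 38531845)) (BT.leaf (nat_lit 39131425))) (BT.node (nat_lit 10366720) (BT.leaf (nat_lit 41542677)) (BT.leaf (nat_lit 39131397))))) (BT.node (nat_lit 10367104) (BT.node (nat_lit 10366976) (BT.node (nat_lit 10366912) (BT.leaf (nat_lit 39948549)) (BT.leaf (nat_lit 39284501))) (BT.node (nat_lit 10367040) (BT.leaf (nat_lit 39949581)) (BT.leaf (nat_lit 37711381)))) (BT.node (nat_lit 10367232) (BT.node (nat_lit 10367168) (BT.leaf (nat_lit 37711365)) (BT.leaf (nat_lit 37711369))) (BT.node (nat_lit 10367296) (BT.leaf (nat_lit 37711385)) (BT.leaf (nat_lit 39951877))))))))) (BT.node (nat_lit 10372096) (BT.node (nat_lit 10369664) (BT.node (nat_lit 10368576) (BT.node (nat_lit 10367872) (BT.node (nat_lit 10367552) (BT.node (nat_lit 10367424) (BT.leaf (nat_lit 40947725)) (BT.node (nat_lit 10367488) (BT.leaf (nat_lit 35163157)) (BT.leaf (nat_lit 35163917)))) (BT.node (nat_lit 10367744) (BT.node (nat_lit 10367616) (BT.leaf (nat_lit 35163681)) (BT.leaf (nat_lit 38182429))) (BT.node (nat_lit 10367808) (BT.leaf (nat_lit 35186205)) (BT.leaf (nat_lit 41089545))))) (BT.node (nat_lit 10368320) (BT.node (nat_lit 10368000) (BT.node (nat_lit 10367936) (BT.leaf (nat_lit 35218193)) (BT.leaf (nat_lit 35218197))) (BT.node (nat_lit 10368192) (BT.leaf (nat_lit 35218205)) (BT.leaf (nat_lit 39497737)))) (BT.node (nat_lit 10368448) (BT.node (nat_lit 10368384) (BT.leaf (nat_lit 35166741)) (BT.leaf (nat_lit 35171609))) (BT.node (nat_lit 10368512) (BT.leaf (nat_lit 35171865)) (BT.leaf (nat_lit 35165209)))))) (BT.node (nat_lit 10369024) (BT.node (nat_lit 10368768) (BT.node (nat_lit 10368640) (BT.leaf (nat_lit 40154893)) (BT.node (nat_lit 10368704) (BT.leaf (nat_lit 37032213)) (BT.leaf (nat_lit 35878149)))) (BT.node (nat_lit 10368896) (BT.node (nat_lit 10368832) (BT.leaf (nat_lit 35878153)) (BT.leaf (nat_lit 35878157))) (BT.node (nat_lit 10368960) (BT.leaf (nat_lit 39994901)) (BT.leaf (nat_lit 35878173))))) (BT.node (nat_lit 10369408) (BT.node (nat_lit 10369280) (BT.node (nat_lit 10369216) (BT.leaf (nat_lit 35878177)) (BT.leaf (nat_lit 35165461))) (BT.node (nat_lit 10369344) (BT.leaf (nat_lit 41102093)) (BT.leaf (nat_lit 35165973)))) (BT.node (nat_lit 10369536) (BT.node (nat_lit 10369472) (BT.leaf (nat_lit 39935265)) (BT.leaf (nat_lit 35160849))) (BT.node (nat_lit 10369600) (BT.leaf (nat_lit 41532193)) (BT.leaf (nat_lit 35166481))))))) (BT.node (nat_lit 10370752) (BT.node (nat_lit 10370240) (BT.node (nat_lit 10369984) (BT.node (nat_lit 10369792) (BT.leaf (nat_lit 41532173)) (BT.node (nat_lit 10369856) (BT.leaf (nat_lit 40560645)) (BT.leaf (nat_lit 35166237)))) (BT.node (nat_lit 10370112) (BT.node (nat_lit 10370048) (BT.leaf (nat_lit 40087053)) (BT.leaf (nat_lit 35166989))) (BT.node (nat_lit 10370176) (BT.leaf (nat_lit 35167245)) (BT.leaf (nat_lit 35173409))))) (BT.node (nat_lit 10370496) (BT.node (nat_lit 10370368) (BT.node (nat_lit 10370304) (BT.leaf (nat_lit 39940129)) (BT.leaf (nat_lit 39940385))) (BT.node (nat_lit 10370432) (BT.leaf (nat_lit 35172633)) (BT.leaf (nat_lit 35173389)))) (BT.node (nat_lit 10370624) (BT.node (nat_lit 10370560) (BT.leaf (nat_lit 35953429)) (BT.leaf (nat_lit 35173401))) (BT.node (nat_lit 10370688) (BT.leaf (nat_lit 35953437)) (BT.leaf (nat_lit 37033749)))))) (BT.node (nat_lit 10371392) (BT.node (nat_lit 10371136) (BT.node (nat_lit 10371008) (BT.node (nat_lit 10370944) (BT.leaf (nat_lit 34644001)) (BT.leaf (nat_lit 37745185))) (BT.node (nat_lit 10371072) (BT.leaf (nat_lit 35861773)) (BT.leaf (nat_lit 35861793)))) (BT.node (nat_lit 10371264) (BT.node (nat_lit 10371200) (BT.leaf (nat_lit 35852809)) (BT.leaf (nat_lit 35862301))) (BT.node (nat_lit 10371328) (BT.leaf (nat_lit 34657049)) (BT.leaf (nat_lit 41357589))))) (BT.node (nat_lit 10371840) (BT.node (nat_lit 10371712) (BT.node (nat_lit 10371584) (BT.leaf (nat_lit 41357597)) (BT.leaf (nat_lit 36180253))) (BT.node (nat_lit 10371776) (BT.leaf (nat_lit 35167769)) (BT.leaf (nat_lit 35167777)))) (BT.node (nat_lit 10371968) (BT.node (nat_lit 10371904) (BT.leaf (nat_lit 40113157)) (BT.leaf (nat_lit 36035857))) (BT.node (nat_lit 10372032) (BT.leaf (nat_lit 40127765)) (BT.leaf (nat_lit 35168785)))))))) (BT.node (nat_lit 10374720) (BT.node (nat_lit 10373248) (BT.node (nat_lit 10372544) (BT.node (nat_lit 10372288) (BT.node (nat_lit 10372160) (BT.leaf (nat_lit 38264581)) (BT.node (nat_lit 10372224) (BT.leaf (nat_lit 38264585)) (BT.leaf (nat_lit 39967501)))) (BT.node (nat_lit 10372416) (BT.node (nat_lit 10372352) (BT.leaf (nat_lit 38196257)) (BT.leaf (nat_lit 39790609))) (BT.node (nat_lit 10372480) (BT.leaf (nat_lit 39468549)) (BT.leaf (nat_lit 38196509))))) (BT.node (nat_lit 10372800) (BT.node (nat_lit 10372672) (BT.node (nat_lit 10372608) (BT.leaf (nat_lit 38196765)) (BT.leaf (nat_lit 39785761))) (BT.node (nat_lit 10372736) (BT.leaf (nat_lit 39618073)) (BT.leaf (nat_lit 41491233)))) (BT.node (nat_lit 10373056) (BT.node (nat_lit 10372992) (BT.leaf (nat_lit 39618589)) (BT.leaf (nat_lit 41000709))) (BT.node (nat_lit 10373120) (BT.leaf (nat_lit 41000713)) (BT.leaf (nat_lit 41000737)))))) (BT.node (nat_lit 10374080) (BT.node (nat_lit 10373760) (BT.node (nat_lit 10373632) (BT.node (nat_lit 10373440) (BT.leaf (nat_lit 37962013)) (BT.leaf (nat_lit 37962005))) (BT.node (nat_lit 10373696) (BT.leaf (nat_lit 37814809)) (BT.leaf (nat_lit 41494537)))) (BT.node (nat_lit 10373952) (BT.node (nat_lit 10373824) (BT.leaf (nat_lit 38827525)) (BT.leaf (nat_lit 38205981))) (BT.node (nat_lit 10374016) (BT.leaf (nat_lit 38206725)) (BT.leaf (nat_lit 38206729))))) (BT.node (nat_lit 10374336) (BT.node (nat_lit 10374208) (BT.node (nat_lit 10374144) (BT.leaf (nat_lit 38206753)) (BT.leaf (nat_lit 38739989))) (BT.node (nat_lit 10374272) (BT.leaf (nat_lit 35174413)) (BT.leaf (nat_lit 39049989)))) (BT.node (nat_lit 10374464) (BT.node (nat_lit 10374400) (BT.leaf (nat_lit 39049993)) (BT.leaf (nat_lit 40481285))) (BT.node (nat_lit 10374528) (BT.leaf (nat_lit 39049733)) (BT.leaf (nat_lit 39049741))))))) (BT.node (nat_lit 10375936) (BT.node (nat_lit 10375296) (BT.node (nat_lit 10375040) (BT.node (nat_lit 10374784) (BT.leaf (nat_lit 39049761)) (BT.node (nat_lit 10374848) (BT.leaf (nat_lit 39049497)) (BT.leaf (nat_lit 39049501)))) (BT.node (nat_lit 10375168) (BT.node (nat_lit 10375104) (BT.leaf (nat_lit 40481813)) (BT.leaf (nat_lit 35174425))) (BT.node (nat_lit 10375232) (BT.leaf (nat_lit 40481825)) (BT.leaf (nat_lit 35275013))))) (BT.node (nat_lit 10375552) (BT.node (nat_lit 10375424) (BT.node (nat_lit 10375360) (BT.leaf (nat_lit 35275017)) (BT.leaf (nat_lit 39391501))) (BT.node (nat_lit 10375488) (BT.leaf (nat_lit 35175449)) (BT.leaf (nat_lit 38371845)))) (BT.node (nat_lit 10375808) (BT.node (nat_lit 10375744) (BT.leaf (nat_lit 38371849)) (BT.leaf (nat_lit 39972621))) (BT.node (nat_lit 10375872) (BT.leaf (nat_lit 38865949)) (BT.leaf (nat_lit 35287045)))))) (BT.node (nat_lit 10376448) (BT.node (nat_lit 10376192) (BT.node (nat_lit 10376064) (BT.node (nat_lit 10376000) (BT.leaf (nat_lit 35287049)) (BT.leaf (nat_lit 35287053))) (BT.node (nat_lit 10376128) (BT.leaf (nat_lit 35287061)) (BT.leaf (nat_lit 35287065)))) (BT.node (nat_lit 10376320) (BT.node (nat_lit 10376256) (BT.leaf (nat_lit 34061845)) (BT.leaf (nat_lit 40483105))) (BT.node (nat_lit 10376384) (BT.leaf (nat_lit 37035285)) (BT.leaf (nat_lit 35366929))))) (BT.node (nat_lit 10376704) (BT.node (nat_lit 10376576) (BT.node (nat_lit 10376512) (BT.leaf (nat_lit 37035781)) (BT.leaf (nat_lit 37035809))) (BT.node (nat_lit 10376640) (BT.leaf (nat_lit 35176725)) (BT.leaf (nat_lit 35176981)))) (BT.node (nat_lit 10376832) (BT.node (nat_lit 10376768) (BT.leaf (nat_lit 37036041)) (BT.leaf (nat_lit 37036037))) (BT.node (nat_lit 10376896) (BT.leaf (nat_lit 35188513)) (BT.leaf (nat_lit 35865617)))))))))) (BT.node (nat_lit 10386752) (BT.node (nat_lit 10381696) (BT.node (nat_lit 10379328) (BT.node (nat_lit 10378368) (BT.node (nat_lit 10377600) (BT.node (nat_lit 10377344) (BT.node (nat_lit 10377088) (BT.leaf (nat_lit 35865629)) (BT.node (nat_lit 10377280) (BT.leaf (nat_lit 35188493)) (BT.leaf (nat_lit 38220829)))) (BT.node (nat_lit 10377472) (BT.node (nat_lit 10377408) (BT.leaf (nat_lit 35177241)) (BT.leaf (nat_lit 38225181))) (BT.node (nat_lit 10377536) (BT.leaf (nat_lit 39090441)) (BT.leaf (nat_lit 38225437))))) (BT.node (nat_lit 10378112) (BT.node (nat_lit 10377792) (BT.node (nat_lit 10377728) (BT.leaf (nat_lit 35179285)) (BT.leaf (nat_lit 35179797))) (BT.node (nat_lit 10377856) (BT.leaf (nat_lit 37946653)) (BT.leaf (nat_lit 39457569)))) (BT.node (nat_lit 10378240) (BT.node (nat_lit 10378176) (BT.leaf (nat_lit 35181333)) (BT.leaf (nat_lit 40685829))) (BT.node (nat_lit 10378304) (BT.leaf (nat_lit 40685833)) (BT.leaf (nat_lit 35179801)))))) (BT.node (nat_lit 10378816) (BT.node (nat_lit 10378560) (BT.node (nat_lit 10378432) (BT.leaf (nat_lit 35180569)) (BT.node (nat_lit 10378496) (BT.leaf (nat_lit 40685857)) (BT.leaf (nat_lit 34667285)))) (BT.node (nat_lit 10378688) (BT.node (nat_lit 10378624) (BT.leaf (nat_lit 35182101)) (BT.leaf (nat_lit 34687253))) (BT.node (nat_lit 10378752) (BT.leaf (nat_lit 37456921)) (BT.leaf (nat_lit 41516297))))) (BT.node (nat_lit 10379072) (BT.node (nat_lit 10378944) (BT.node (nat_lit 10378880) (BT.leaf (nat_lit 38235933)) (BT.leaf (nat_lit 37037841))) (BT.node (nat_lit 10379008) (BT.leaf (nat_lit 37193501)) (BT.leaf (nat_lit 39965201)))) (BT.node (nat_lit 10379200) (BT.node (nat_lit 10379136) (BT.leaf (nat_lit 35182617)) (BT.leaf (nat_lit 35845405))) (BT.node (nat_lit 10379264) (BT.leaf (nat_lit 37038609)) (BT.leaf (nat_lit 35182609))))))) (BT.node (nat_lit 10380416) (BT.node (nat_lit 10379776) (BT.node (nat_lit 10379520) (BT.node (nat_lit 10379392) (BT.leaf (nat_lit 37193733)) (BT.node (nat_lit 10379456) (BT.leaf (nat_lit 37193737)) (BT.leaf (nat_lit 37193761)))) (BT.node (nat_lit 10379648) (BT.node (nat_lit 10379584) (BT.leaf (nat_lit 35187977)) (BT.leaf (nat_lit 35187973))) (BT.node (nat_lit 10379712) (BT.leaf (nat_lit 39648285)) (BT.leaf (nat_lit 41488149))))) (BT.node (nat_lit 10380096) (BT.node (nat_lit 10379968) (BT.node (nat_lit 10379840) (BT.leaf (nat_lit 35185685)) (BT.leaf (nat_lit 39044369))) (BT.node (nat_lit 10380032) (BT.leaf (nat_lit 39044381)) (BT.leaf (nat_lit 35186709)))) (BT.node (nat_lit 10380224) (BT.node (nat_lit 10380160) (BT.leaf (nat_lit 41334033)) (BT.leaf (nat_lit 41334041))) (BT.node (nat_lit 10380352) (BT.leaf (nat_lit 41334045)) (BT.leaf (nat_lit 41026581)))))) (BT.node (nat_lit 10381184) (BT.node (nat_lit 10380928) (BT.node (nat_lit 10380736) (BT.node (nat_lit 10380480) (BT.leaf (nat_lit 41026585)) (BT.leaf (nat_lit 41026589))) (BT.node (nat_lit 10380864) (BT.leaf (nat_lit 38445849)) (BT.leaf (nat_lit 35187989)))) (BT.node (nat_lit 10381056) (BT.node (nat_lit 10380992) (BT.leaf (nat_lit 38447629)) (BT.leaf (nat_lit 38447633))) (BT.node (nat_lit 10381120) (BT.leaf (nat_lit 38447641)) (BT.leaf (nat_lit 38447645))))) (BT.node (nat_lit 10381440) (BT.node (nat_lit 10381312) (BT.node (nat_lit 10381248) (BT.leaf (nat_lit 38447649)) (BT.leaf (nat_lit 37459981))) (BT.node (nat_lit 10381376) (BT.leaf (nat_lit 37459985)) (BT.leaf (nat_lit 37459993)))) (BT.node (nat_lit 10381568) (BT.node (nat_lit 10381504) (BT.leaf (nat_lit 37459997)) (BT.leaf (nat_lit 38252065))) (BT.node (nat_lit 10381632) (BT.leaf (nat_lit 35863825)) (BT.leaf (nat_lit 35863833)))))))) (BT.node (nat_lit 10384128) (BT.node (nat_lit 10382720) (BT.node (nat_lit 10382144) (BT.node (nat_lit 10381888) (BT.node (nat_lit 10381760) (BT.leaf (nat_lit 35211793)) (BT.node (nat_lit 10381824) (BT.leaf (nat_lit 35211801)) (BT.leaf (nat_lit 35211805)))) (BT.node (nat_lit 10382016) (BT.node (nat_lit 10381952) (BT.leaf (nat_lit 41104389)) (BT.leaf (nat_lit 41338121))) (BT.node (nat_lit 10382080) (BT.leaf (nat_lit 41338129)) (BT.leaf (nat_lit 41338133))))) (BT.node (nat_lit 10382400) (BT.node (nat_lit 10382272) (BT.node (nat_lit 10382208) (BT.leaf (nat_lit 41338145)) (BT.leaf (nat_lit 40908037))) (BT.node (nat_lit 10382336) (BT.leaf (nat_lit 40908041)) (BT.leaf (nat_lit 40908049)))) (BT.node (nat_lit 10382592) (BT.node (nat_lit 10382464) (BT.leaf (nat_lit 40908057)) (BT.leaf (nat_lit 40007685))) (BT.node (nat_lit 10382656) (BT.leaf (nat_lit 41168905)) (BT.leaf (nat_lit 41168909)))))) (BT.node (nat_lit 10383488) (BT.node (nat_lit 10383232) (BT.node (nat_lit 10382976) (BT.node (nat_lit 10382784) (BT.leaf (nat_lit 35190801)) (BT.leaf (nat_lit 35191057))) (BT.node (nat_lit 10383040) (BT.leaf (nat_lit 41478677)) (BT.leaf (nat_lit 41475345)))) (BT.node (nat_lit 10383360) (BT.node (nat_lit 10383296) (BT.leaf (nat_lit 37040649)) (BT.leaf (nat_lit 37040645))) (BT.node (nat_lit 10383424) (BT.leaf (nat_lit 37040673)) (BT.leaf (nat_lit 35192085))))) (BT.node (nat_lit 10383808) (BT.node (nat_lit 10383616) (BT.node (nat_lit 10383552) (BT.leaf (nat_lit 38273289)) (BT.leaf (nat_lit 38273285))) (BT.node (nat_lit 10383680) (BT.leaf (nat_lit 35191325)) (BT.leaf (nat_lit 35191581)))) (BT.node (nat_lit 10384000) (BT.node (nat_lit 10383936) (BT.leaf (nat_lit 38272289)) (BT.leaf (nat_lit 38270981))) (BT.node (nat_lit 10384064) (BT.leaf (nat_lit 38508301)) (BT.leaf (nat_lit 35192325))))))) (BT.node (nat_lit 10385408) (BT.node (nat_lit 10384704) (BT.node (nat_lit 10384320) (BT.node (nat_lit 10384192) (BT.leaf (nat_lit 35192353)) (BT.node (nat_lit 10384256) (BT.leaf (nat_lit 38271517)) (BT.leaf (nat_lit 35192333)))) (BT.node (nat_lit 10384512) (BT.node (nat_lit 10384448) (BT.leaf (nat_lit 38508293)) (BT.leaf (nat_lit 38461461))) (BT.node (nat_lit 10384576) (BT.leaf (nat_lit 38508321)) (BT.leaf (nat_lit 38395933))))) (BT.node (nat_lit 10385024) (BT.node (nat_lit 10384832) (BT.node (nat_lit 10384768) (BT.leaf (nat_lit 35193881)) (BT.leaf (nat_lit 37776901))) (BT.node (nat_lit 10384960) (BT.leaf (nat_lit 39346461)) (BT.leaf (nat_lit 41157637)))) (BT.node (nat_lit 10385152) (BT.node (nat_lit 10385088) (BT.leaf (nat_lit 38977553)) (BT.leaf (nat_lit 41003801))) (BT.node (nat_lit 10385280) (BT.leaf (nat_lit 41441313)) (BT.leaf (nat_lit 41193757)))))) (BT.node (nat_lit 10386048) (BT.node (nat_lit 10385792) (BT.node (nat_lit 10385664) (BT.node (nat_lit 10385472) (BT.leaf (nat_lit 41100573)) (BT.leaf (nat_lit 41226525))) (BT.node (nat_lit 10385728) (BT.leaf (nat_lit 39933965)) (BT.leaf (nat_lit 38828301)))) (BT.node (nat_lit 10385920) (BT.node (nat_lit 10385856) (BT.leaf (nat_lit 35196177)) (BT.leaf (nat_lit 39950869))) (BT.node (nat_lit 10385984) (BT.leaf (nat_lit 35196181)) (BT.leaf (nat_lit 38832389))))) (BT.node (nat_lit 10386304) (BT.node (nat_lit 10386176) (BT.node (nat_lit 10386112) (BT.leaf (nat_lit 38832393)) (BT.leaf (nat_lit 35196701))) (BT.node (nat_lit 10386240) (BT.leaf (nat_lit 38832409)) (BT.leaf (nat_lit 38832417)))) (BT.node (nat_lit 10386496) (BT.node (nat_lit 10386432) (BT.leaf (nat_lit 36938517)) (BT.leaf (nat_lit 36938773))) (BT.node (nat_lit 10386560) (BT.leaf (nat_lit 35200537)) (BT.leaf (nat_lit 41651485))))))))) (BT.node (nat_lit 10391296) (BT.node (nat_lit 10389248) (BT.node (nat_lit 10387904) (BT.node (nat_lit 10387264) (BT.node (nat_lit 10386944) (BT.node (nat_lit 10386816) (BT.leaf (nat_lit 34184729)) (BT.node (nat_lit 10386880) (BT.leaf (nat_lit 35174169)) (BT.leaf (nat_lit 36924421)))) (BT.node (nat_lit 10387072) (BT.node (nat_lit 10387008) (BT.leaf (nat_lit 35945493)) (BT.leaf (nat_lit 35203089))) (BT.node (nat_lit 10387136) (BT.leaf (nat_lit 35299093)) (BT.leaf (nat_lit 37043221))))) (BT.node (nat_lit 10387648) (BT.node (nat_lit 10387520) (BT.node (nat_lit 10387328) (BT.leaf (nat_lit 37045277)) (BT.leaf (nat_lit 37787417))) (BT.node (nat_lit 10387584) (BT.leaf (nat_lit 35203357)) (BT.leaf (nat_lit 35204873)))) (BT.node (nat_lit 10387776) (BT.node (nat_lit 10387712) (BT.leaf (nat_lit 35204869)) (BT.leaf (nat_lit 40891677))) (BT.node (nat_lit 10387840) (BT.leaf (nat_lit 37739281)) (BT.leaf (nat_lit 40878869)))))) (BT.node (nat_lit 10388544) (BT.node (nat_lit 10388160) (BT.node (nat_lit 10388032) (BT.node (nat_lit 10387968) (BT.leaf (nat_lit 35203613)) (BT.leaf (nat_lit 39994909))) (BT.node (nat_lit 10388096) (BT.leaf (nat_lit 35877397)) (BT.leaf (nat_lit 39995141)))) (BT.node (nat_lit 10388288) (BT.node (nat_lit 10388224) (BT.leaf (nat_lit 38338065)) (BT.leaf (nat_lit 40875797))) (BT.node (nat_lit 10388352) (BT.leaf (nat_lit 38338077)) (BT.leaf (nat_lit 35946261))))) (BT.node (nat_lit 10388928) (BT.node (nat_lit 10388800) (BT.node (nat_lit 10388608) (BT.leaf (nat_lit 36924433)) (BT.leaf (nat_lit 36341009))) (BT.node (nat_lit 10388864) (BT.leaf (nat_lit 38798085)) (BT.leaf (nat_lit 37043485)))) (BT.node (nat_lit 10389120) (BT.node (nat_lit 10388992) (BT.leaf (nat_lit 35202577)) (BT.leaf (nat_lit 40712733))) (BT.node (nat_lit 10389184) (BT.leaf (nat_lit 41212681)) (BT.leaf (nat_lit 41212677))))))) (BT.node (nat_lit 10390016) (BT.node (nat_lit 10389696) (BT.node (nat_lit 10389440) (BT.node (nat_lit 10389312) (BT.leaf (nat_lit 41717765)) (BT.node (nat_lit 10389376) (BT.leaf (nat_lit 41300253)) (BT.leaf (nat_lit 35940381)))) (BT.node (nat_lit 10389568) (BT.node (nat_lit 10389504) (BT.leaf (nat_lit 39573021)) (BT.leaf (nat_lit 36356117))) (BT.node (nat_lit 10389632) (BT.leaf (nat_lit 35959305)) (BT.leaf (nat_lit 34544133))))) (BT.node (nat_lit 10389953) (BT.node (nat_lit 10389824) (BT.node (nat_lit 10389760) (BT.leaf (nat_lit 37779717)) (BT.leaf (nat_lit 34589209))) (BT.node (nat_lit 10389888) (BT.leaf (nat_lit 40002593)) (BT.leaf (nat_lit 40410393)))) (BT.node (nat_lit 10389959) (BT.node (nat_lit 10389955) (BT.leaf (nat_lit 651872)) (BT.leaf (nat_lit 651872))) (BT.node (nat_lit 10389960) (BT.leaf (nat_lit 651872)) (BT.leaf (nat_lit 651872)))))) (BT.node (nat_lit 10390528) (BT.node (nat_lit 10390272) (BT.node (nat_lit 10390144) (BT.node (nat_lit 10390080) (BT.leaf (nat_lit 35275785)) (BT.leaf (nat_lit 35206429))) (BT.node (nat_lit 10390208) (BT.leaf (nat_lit 35208221)) (BT.leaf (nat_lit 38375689)))) (BT.node (nat_lit 10390400) (BT.node (nat_lit 10390336) (BT.leaf (nat_lit 35275809)) (BT.leaf (nat_lit 38266117))) (BT.node (nat_lit 10390464) (BT.leaf (nat_lit 38266121)) (BT.leaf (nat_lit 35207449))))) (BT.node (nat_lit 10391040) (BT.node (nat_lit 10390656) (BT.node (nat_lit 10390592) (BT.leaf (nat_lit 38266145)) (BT.leaf (nat_lit 35208721))) (BT.node (nat_lit 10390912) (BT.leaf (nat_lit 39304209)) (BT.leaf (nat_lit 39304977)))) (BT.node (nat_lit 10391168) (BT.node (nat_lit 10391104) (BT.leaf (nat_lit 39305489)) (BT.leaf (nat_lit 35167001))) (BT.node (nat_lit 10391232) (BT.leaf (nat_lit 36022277)) (BT.leaf (nat_lit 36022281)))))))) (BT.node (nat_lit 10393472) (BT.node (nat_lit 10392384) (BT.node (nat_lit 10391872) (BT.node (nat_lit 10391552) (BT.node (nat_lit 10391360) (BT.leaf (nat_lit 36022289)) (BT.node (nat_lit 10391488) (BT.leaf (nat_lit 35209237)) (BT.leaf (nat_lit 37102109)))) (BT.node (nat_lit 10391744) (BT.node (nat_lit 10391616) (BT.leaf (nat_lit 35210781)) (BT.leaf (nat_lit 35216925))) (BT.node (nat_lit 10391808) (BT.leaf (nat_lit 40630793)) (BT.leaf (nat_lit 40885537))))) (BT.node (nat_lit 10392128) (BT.node (nat_lit 10392000) (BT.node (nat_lit 10391936) (BT.leaf (nat_lit 40885517)) (BT.leaf (nat_lit 35210769))) (BT.node (nat_lit 10392064) (BT.leaf (nat_lit 38469393)) (BT.leaf (nat_lit 38469401)))) (BT.node (nat_lit 10392256) (BT.node (nat_lit 10392192) (BT.leaf (nat_lit 39979033)) (BT.leaf (nat_lit 37777685))) (BT.node (nat_lit 10392320) (BT.leaf (nat_lit 35213841)) (BT.leaf (nat_lit 40784157)))))) (BT.node (nat_lit 10392896) (BT.node (nat_lit 10392640) (BT.node (nat_lit 10392512) (BT.node (nat_lit 10392448) (BT.leaf (nat_lit 40784145)) (BT.leaf (nat_lit 39570205))) (BT.node (nat_lit 10392576) (BT.leaf (nat_lit 38562585)) (BT.leaf (nat_lit 35214349)))) (BT.node (nat_lit 10392768) (BT.node (nat_lit 10392704) (BT.leaf (nat_lit 38711557)) (BT.leaf (nat_lit 38711561))) (BT.node (nat_lit 10392832) (BT.leaf (nat_lit 35214105)) (BT.leaf (nat_lit 38711573))))) (BT.node (nat_lit 10393216) (BT.node (nat_lit 10393024) (BT.node (nat_lit 10392960) (BT.leaf (nat_lit 38562329)) (BT.leaf (nat_lit 35354129))) (BT.node (nat_lit 10393088) (BT.leaf (nat_lit 35354141)) (BT.leaf (nat_lit 40846349)))) (BT.node (nat_lit 10393344) (BT.node (nat_lit 10393280) (BT.leaf (nat_lit 35218961)) (BT.leaf (nat_lit 40846369))) (BT.node (nat_lit 10393408) (BT.leaf (nat_lit 35633953)) (BT.leaf (nat_lit 40264217))))))) (BT.node (nat_lit 10395200) (BT.node (nat_lit 10394560) (BT.node (nat_lit 10393664) (BT.node (nat_lit 10393536) (BT.leaf (nat_lit 37777437)) (BT.node (nat_lit 10393600) (BT.leaf (nat_lit 35989257)) (BT.leaf (nat_lit 35219481)))) (BT.node (nat_lit 10394432) (BT.node (nat_lit 10394368) (BT.leaf (nat_lit 35040025)) (BT.leaf (nat_lit 40369941))) (BT.node (nat_lit 10394496) (BT.leaf (nat_lit 40885025)) (BT.leaf (nat_lit 40325905))))) (BT.node (nat_lit 10394944) (BT.node (nat_lit 10394688) (BT.node (nat_lit 10394624) (BT.leaf (nat_lit 35090457)) (BT.leaf (nat_lit 35106841))) (BT.node (nat_lit 10394816) (BT.leaf (nat_lit 40325909)) (BT.leaf (nat_lit 37020681)))) (BT.node (nat_lit 10395072) (BT.node (nat_lit 10395008) (BT.leaf (nat_lit 36544517)) (BT.leaf (nat_lit 36544521))) (BT.node (nat_lit 10395136) (BT.leaf (nat_lit 36544525)) (BT.leaf (nat_lit 36544537)))))) (BT.node (nat_lit 10396160) (BT.node (nat_lit 10395520) (BT.node (nat_lit 10395328) (BT.node (nat_lit 10395264) (BT.leaf (nat_lit 35220753)) (BT.leaf (nat_lit 40406033))) (BT.node (nat_lit 10395456) (BT.leaf (nat_lit 39586069)) (BT.leaf (nat_lit 39752733)))) (BT.node (nat_lit 10395904) (BT.node (nat_lit 10395648) (BT.leaf (nat_lit 41313825)) (BT.leaf (nat_lit 37670149))) (BT.node (nat_lit 10396032) (BT.leaf (nat_lit 35223057)) (BT.leaf (nat_lit 35883037))))) (BT.node (nat_lit 10396416) (BT.node (nat_lit 10396288) (BT.node (nat_lit 10396224) (BT.leaf (nat_lit 36488965)) (BT.leaf (nat_lit 35224597))) (BT.node (nat_lit 10396352) (BT.leaf (nat_lit 35224605)) (BT.leaf (nat_lit 35899417)))) (BT.node (nat_lit 10396544) (BT.node (nat_lit 10396480) (BT.leaf (nat_lit 40466701)) (BT.leaf (nat_lit 40676361))) (BT.node (nat_lit 10396608) (BT.leaf (nat_lit 40676357)) (BT.leaf (nat_lit 39043853))))))))))) (BT.node (nat_lit 10416512) (BT.node (nat_lit 10407040) (BT.node (nat_lit 10402112) (BT.node (nat_lit 10399040) (BT.node (nat_lit 10397760) (BT.node (nat_lit 10397184) (BT.node (nat_lit 10396864) (BT.node (nat_lit 10396736) (BT.leaf (nat_lit 36472593)) (BT.node (nat_lit 10396800) (BT.leaf (nat_lit 36472601)) (BT.leaf (nat_lit 40865569)))) (BT.node (nat_lit 10396992) (BT.node (nat_lit 10396928) (BT.leaf (nat_lit 38280481)) (BT.leaf (nat_lit 38307613))) (BT.node (nat_lit 10397120) (BT.leaf (nat_lit 40729613)) (BT.leaf (nat_lit 40540437))))) (BT.node (nat_lit 10397504) (BT.node (nat_lit 10397312) (BT.node (nat_lit 10397248) (BT.leaf (nat_lit 38291485)) (BT.leaf (nat_lit 38280457))) (BT.node (nat_lit 10397440) (BT.leaf (nat_lit 40798997)) (BT.leaf (nat_lit 35229465)))) (BT.node (nat_lit 10397632) (BT.node (nat_lit 10397568) (BT.leaf (nat_lit 35229469)) (BT.leaf (nat_lit 38299425))) (BT.node (nat_lit 10397696) (BT.leaf (nat_lit 39591197)) (BT.leaf (nat_lit 38114317)))))) (BT.node (nat_lit 10398400) (BT.node (nat_lit 10398144) (BT.node (nat_lit 10397952) (BT.leaf (nat_lit 38114573)) (BT.node (nat_lit 10398016) (BT.leaf (nat_lit 39591181)) (BT.leaf (nat_lit 34295829)))) (BT.node (nat_lit 10398272) (BT.node (nat_lit 10398208) (BT.leaf (nat_lit 37518345)) (BT.leaf (nat_lit 38955029))) (BT.node (nat_lit 10398336) (BT.leaf (nat_lit 41592333)) (BT.leaf (nat_lit 35229717))))) (BT.node (nat_lit 10398720) (BT.node (nat_lit 10398528) (BT.node (nat_lit 10398464) (BT.leaf (nat_lit 35454997)) (BT.leaf (nat_lit 35229969))) (BT.node (nat_lit 10398592) (BT.leaf (nat_lit 34294809)) (BT.leaf (nat_lit 41596181)))) (BT.node (nat_lit 10398912) (BT.node (nat_lit 10398784) (BT.leaf (nat_lit 35230229)) (BT.leaf (nat_lit 35230489))) (BT.node (nat_lit 10398976) (BT.leaf (nat_lit 38909453)) (BT.leaf (nat_lit 38909201))))))) (BT.node (nat_lit 10400768) (BT.node (nat_lit 10400064) (BT.node (nat_lit 10399808) (BT.node (nat_lit 10399232) (BT.leaf (nat_lit 40024589)) (BT.node (nat_lit 10399552) (BT.leaf (nat_lit 38909209)) (BT.leaf (nat_lit 37960989)))) (BT.node (nat_lit 10399936) (BT.node (nat_lit 10399872) (BT.leaf (nat_lit 35231505)) (BT.leaf (nat_lit 35231253))) (BT.node (nat_lit 10400000) (BT.leaf (nat_lit 35231509)) (BT.leaf (nat_lit 39443205))))) (BT.node (nat_lit 10400448) (BT.node (nat_lit 10400320) (BT.node (nat_lit 10400128) (BT.leaf (nat_lit 35231261)) (BT.leaf (nat_lit 39301133))) (BT.node (nat_lit 10400384) (BT.leaf (nat_lit 35718661)) (BT.leaf (nat_lit 35718665)))) (BT.node (nat_lit 10400640) (BT.node (nat_lit 10400512) (BT.leaf (nat_lit 35231517)) (BT.leaf (nat_lit 35231773))) (BT.node (nat_lit 10400704) (BT.leaf (nat_lit 35232281)) (BT.leaf (nat_lit 39659293)))))) (BT.node (nat_lit 10401344) (BT.node (nat_lit 10400960) (BT.node (nat_lit 10400896) (BT.node (nat_lit 10400832) (BT.leaf (nat_lit 39708433)) (BT.leaf (nat_lit 35411465))) (BT.node (nat_lit 10400904) (BT.leaf (nat_lit 39708445)) (BT.leaf (nat_lit 650104)))) (BT.node (nat_lit 10401088) (BT.node (nat_lit 10401024) (BT.leaf (nat_lit 35232517)) (BT.leaf (nat_lit 35232521))) (BT.node (nat_lit 10401152) (BT.leaf (nat_lit 35232529)) (BT.leaf (nat_lit 39363077))))) (BT.node (nat_lit 10401792) (BT.node (nat_lit 10401600) (BT.node (nat_lit 10401408) (BT.leaf (nat_lit 39363101)) (BT.leaf (nat_lit 35987485))) (BT.node (nat_lit 10401664) (BT.leaf (nat_lit 39362841)) (BT.leaf (nat_lit 35232533)))) (BT.node (nat_lit 10401920) (BT.node (nat_lit 10401856) (BT.leaf (nat_lit 37510165)) (BT.leaf (nat_lit 37510421))) (BT.node (nat_lit 10402048) (BT.leaf (nat_lit 35232797)) (BT.leaf (nat_lit 35972897)))))))) (BT.node (nat_lit 10404864) (BT.node (nat_lit 10403776) (BT.node (nat_lit 10403072) (BT.node (nat_lit 10402432) (BT.node (nat_lit 10402304) (BT.leaf (nat_lit 38916869)) (BT.node (nat_lit 10402368) (BT.leaf (nat_lit 35996693)) (BT.leaf (nat_lit 38918161)))) (BT.node (nat_lit 10402944) (BT.node (nat_lit 10402816) (BT.leaf (nat_lit 38918417)) (BT.leaf (nat_lit 39609621))) (BT.node (nat_lit 10403008) (BT.leaf (nat_lit 35234577)) (BT.leaf (nat_lit 35245317))))) (BT.node (nat_lit 10403463) (BT.node (nat_lit 10403200) (BT.node (nat_lit 10403136) (BT.leaf (nat_lit 35245321)) (BT.leaf (nat_lit 35245337))) (BT.node (nat_lit 10403459) (BT.leaf (nat_lit 35245345)) (BT.leaf (nat_lit 650708)))) (BT.node (nat_lit 10403648) (BT.node (nat_lit 10403520) (BT.leaf (nat_lit 650708)) (BT.leaf (nat_lit 36475421))) (BT.node (nat_lit 10403712) (BT.leaf (nat_lit 39479073)) (BT.leaf (nat_lit 35927585)))))) (BT.node (nat_lit 10404352) (BT.node (nat_lit 10404032) (BT.node (nat_lit 10403904) (BT.node (nat_lit 10403840) (BT.leaf (nat_lit 35928077)) (BT.leaf (nat_lit 35258885))) (BT.node (nat_lit 10403968) (BT.leaf (nat_lit 35700245)) (BT.leaf (nat_lit 35408417)))) (BT.node (nat_lit 10404160) (BT.node (nat_lit 10404096) (BT.leaf (nat_lit 35415061)) (BT.leaf (nat_lit 36759069))) (BT.node (nat_lit 10404224) (BT.leaf (nat_lit 35408393)) (BT.leaf (nat_lit 35236113))))) (BT.node (nat_lit 10404608) (BT.node (nat_lit 10404480) (BT.node (nat_lit 10404416) (BT.leaf (nat_lit 35236369)) (BT.leaf (nat_lit 36250389))) (BT.node (nat_lit 10404544) (BT.leaf (nat_lit 37860365)) (BT.leaf (nat_lit 37860373)))) (BT.node (nat_lit 10404736) (BT.node (nat_lit 10404672) (BT.leaf (nat_lit 37860377)) (BT.leaf (nat_lit 37860381))) (BT.node (nat_lit 10404800) (BT.leaf (nat_lit 37860385)) (BT.leaf (nat_lit 37860117))))))) (BT.node (nat_lit 10405888) (BT.node (nat_lit 10405376) (BT.node (nat_lit 10405056) (BT.node (nat_lit 10404928) (BT.leaf (nat_lit 37860121)) (BT.node (nat_lit 10404992) (BT.leaf (nat_lit 35236621)) (BT.leaf (nat_lit 36446745)))) (BT.node (nat_lit 10405184) (BT.node (nat_lit 10405120) (BT.leaf (nat_lit 36445981)) (BT.leaf (nat_lit 36283165))) (BT.node (nat_lit 10405312) (BT.leaf (nat_lit 35694109)) (BT.leaf (nat_lit 41620001))))) (BT.node (nat_lit 10405632) (BT.node (nat_lit 10405504) (BT.node (nat_lit 10405440) (BT.leaf (nat_lit 37177105)) (BT.leaf (nat_lit 36399637))) (BT.node (nat_lit 10405568) (BT.leaf (nat_lit 36399641)) (BT.leaf (nat_lit 36399645)))) (BT.node (nat_lit 10405760) (BT.node (nat_lit 10405696) (BT.leaf (nat_lit 37176837)) (BT.leaf (nat_lit 35238161))) (BT.node (nat_lit 10405824) (BT.leaf (nat_lit 35238417)) (BT.leaf (nat_lit 35237149)))))) (BT.node (nat_lit 10406528) (BT.node (nat_lit 10406272) (BT.node (nat_lit 10406016) (BT.node (nat_lit 10405952) (BT.leaf (nat_lit 39579929)) (BT.leaf (nat_lit 36476189))) (BT.node (nat_lit 10406208) (BT.leaf (nat_lit 35666693)) (BT.leaf (nat_lit 36358165)))) (BT.node (nat_lit 10406400) (BT.node (nat_lit 10406336) (BT.leaf (nat_lit 36475165)) (BT.leaf (nat_lit 35591685))) (BT.node (nat_lit 10406464) (BT.leaf (nat_lit 35591689)) (BT.leaf (nat_lit 35591705))))) (BT.node (nat_lit 10406784) (BT.node (nat_lit 10406656) (BT.node (nat_lit 10406592) (BT.leaf (nat_lit 35591713)) (BT.leaf (nat_lit 41031709))) (BT.node (nat_lit 10406720) (BT.leaf (nat_lit 39443977)) (BT.leaf (nat_lit 39443973)))) (BT.node (nat_lit 10406912) (BT.node (nat_lit 10406848) (BT.leaf (nat_lit 39577881)) (BT.leaf (nat_lit 39443981))) (BT.node (nat_lit 10406976) (BT.leaf (nat_lit 41053189)) (BT.leaf (nat_lit 41053193))))))))) (BT.node (nat_lit 10411648) (BT.node (nat_lit 10409024) (BT.node (nat_lit 10408000) (BT.node (nat_lit 10407488) (BT.node (nat_lit 10407232) (BT.node (nat_lit 10407104) (BT.leaf (nat_lit 35238941)) (BT.node (nat_lit 10407168) (BT.leaf (nat_lit 41053217)) (BT.leaf (nat_lit 35238689)))) (BT.node (nat_lit 10407360) (BT.node (nat_lit 10407296) (BT.leaf (nat_lit 39578129)) (BT.leaf (nat_lit 39578133))) (BT.node (nat_lit 10407424) (BT.leaf (nat_lit 39578137)) (BT.leaf (nat_lit 35238669))))) (BT.node (nat_lit 10407744) (BT.node (nat_lit 10407616) (BT.node (nat_lit 10407552) (BT.leaf (nat_lit 39443993)) (BT.leaf (nat_lit 35252257))) (BT.node (nat_lit 10407680) (BT.leaf (nat_lit 35252497)) (BT.leaf (nat_lit 36480021)))) (BT.node (nat_lit 10407872) (BT.node (nat_lit 10407808) (BT.leaf (nat_lit 35239457)) (BT.leaf (nat_lit 35265057))) (BT.node (nat_lit 10407936) (BT.leaf (nat_lit 39270421)) (BT.leaf (nat_lit 35241757)))))) (BT.node (nat_lit 10408512) (BT.node (nat_lit 10408256) (BT.node (nat_lit 10408128) (BT.node (nat_lit 10408064) (BT.leaf (nat_lit 37576721)) (BT.leaf (nat_lit 35242781))) (BT.node (nat_lit 10408192) (BT.leaf (nat_lit 35261213)) (BT.leaf (nat_lit 39407629)))) (BT.node (nat_lit 10408384) (BT.node (nat_lit 10408320) (BT.leaf (nat_lit 39407621)) (BT.leaf (nat_lit 39394321))) (BT.node (nat_lit 10408448) (BT.leaf (nat_lit 39394325)) (BT.leaf (nat_lit 35265293))))) (BT.node (nat_lit 10408768) (BT.node (nat_lit 10408640) (BT.node (nat_lit 10408576) (BT.leaf (nat_lit 35257093)) (BT.leaf (nat_lit 37151509))) (BT.node (nat_lit 10408704) (BT.leaf (nat_lit 39564061)) (BT.leaf (nat_lit 39558941)))) (BT.node (nat_lit 10408896) (BT.node (nat_lit 10408832) (BT.leaf (nat_lit 39579933)) (BT.leaf (nat_lit 39074317))) (BT.node (nat_lit 10408960) (BT.leaf (nat_lit 39073561)) (BT.leaf (nat_lit 39074309))))))) (BT.node (nat_lit 10410496) (BT.node (nat_lit 10409792) (BT.node (nat_lit 10409280) (BT.node (nat_lit 10409152) (BT.leaf (nat_lit 35650573)) (BT.node (nat_lit 10409216) (BT.leaf (nat_lit 39542533)) (BT.leaf (nat_lit 39542537)))) (BT.node (nat_lit 10409600) (BT.node (nat_lit 10409536) (BT.leaf (nat_lit 39376913)) (BT.leaf (nat_lit 38051105))) (BT.node (nat_lit 10409664) (BT.leaf (nat_lit 39376653)) (BT.leaf (nat_lit 35582225))))) (BT.node (nat_lit 10410176) (BT.node (nat_lit 10409920) (BT.node (nat_lit 10409856) (BT.leaf (nat_lit 38874117)) (BT.leaf (nat_lit 35245333))) (BT.node (nat_lit 10410112) (BT.leaf (nat_lit 39377169)) (BT.leaf (nat_lit 35255581)))) (BT.node (nat_lit 10410368) (BT.node (nat_lit 10410240) (BT.leaf (nat_lit 39437077)) (BT.leaf (nat_lit 37420565))) (BT.node (nat_lit 10410432) (BT.leaf (nat_lit 37050653)) (BT.leaf (nat_lit 35244577)))))) (BT.node (nat_lit 10411008) (BT.node (nat_lit 10410752) (BT.node (nat_lit 10410624) (BT.node (nat_lit 10410560) (BT.leaf (nat_lit 35361805)) (BT.leaf (nat_lit 35361809))) (BT.node (nat_lit 10410688) (BT.leaf (nat_lit 35361813)) (BT.leaf (nat_lit 35361817)))) (BT.node (nat_lit 10410880) (BT.node (nat_lit 10410816) (BT.leaf (nat_lit 35361821)) (BT.leaf (nat_lit 35361825))) (BT.node (nat_lit 10410944) (BT.leaf (nat_lit 35363861)) (BT.leaf (nat_lit 35363865))))) (BT.node (nat_lit 10411392) (BT.node (nat_lit 10411136) (BT.node (nat_lit 10411072) (BT.leaf (nat_lit 35363869)) (BT.leaf (nat_lit 35886101))) (BT.node (nat_lit 10411200) (BT.leaf (nat_lit 39537689)) (BT.leaf (nat_lit 35732493)))) (BT.node (nat_lit 10411520) (BT.node (nat_lit 10411456) (BT.leaf (nat_lit 35905297)) (BT.leaf (nat_lit 35245841))) (BT.node (nat_lit 10411584) (BT.leaf (nat_lit 35245845)) (BT.leaf (nat_lit 37250333)))))))) (BT.node (nat_lit 10413888) (BT.node (nat_lit 10412736) (BT.node (nat_lit 10412160) (BT.node (nat_lit 10411840) (BT.node (nat_lit 10411712) (BT.leaf (nat_lit 37251101)) (BT.node (nat_lit 10411776) (BT.leaf (nat_lit 37434117)) (BT.leaf (nat_lit 37434121)))) (BT.node (nat_lit 10411968) (BT.node (nat_lit 10411904) (BT.leaf (nat_lit 37434137)) (BT.leaf (nat_lit 37433861))) (BT.node (nat_lit 10412096) (BT.leaf (nat_lit 37433869)) (BT.leaf (nat_lit 37433877))))) (BT.node (nat_lit 10412480) (BT.node (nat_lit 10412352) (BT.node (nat_lit 10412288) (BT.leaf (nat_lit 37433881)) (BT.leaf (nat_lit 37433889))) (BT.node (nat_lit 10412416) (BT.leaf (nat_lit 35714845)) (BT.leaf (nat_lit 38735125)))) (BT.node (nat_lit 10412608) (BT.node (nat_lit 10412544) (BT.leaf (nat_lit 35247133)) (BT.leaf (nat_lit 35247901))) (BT.node (nat_lit 10412672) (BT.leaf (nat_lit 35246625)) (BT.leaf (nat_lit 35318289)))))) (BT.node (nat_lit 10413312) (BT.node (nat_lit 10413056) (BT.node (nat_lit 10412928) (BT.node (nat_lit 10412864) (BT.leaf (nat_lit 35318293)) (BT.leaf (nat_lit 34188057))) (BT.node (nat_lit 10412992) (BT.leaf (nat_lit 37325325)) (BT.leaf (nat_lit 35249177)))) (BT.node (nat_lit 10413184) (BT.node (nat_lit 10413120) (BT.leaf (nat_lit 36377365)) (BT.leaf (nat_lit 35061017))) (BT.node (nat_lit 10413248) (BT.leaf (nat_lit 41087237)) (BT.leaf (nat_lit 39468321))))) (BT.node (nat_lit 10413568) (BT.node (nat_lit 10413440) (BT.node (nat_lit 10413376) (BT.leaf (nat_lit 39392013)) (BT.leaf (nat_lit 35251205))) (BT.node (nat_lit 10413504) (BT.leaf (nat_lit 39425813)) (BT.leaf (nat_lit 39455001)))) (BT.node (nat_lit 10413760) (BT.node (nat_lit 10413696) (BT.leaf (nat_lit 35638537)) (BT.leaf (nat_lit 41087521))) (BT.node (nat_lit 10413824) (BT.leaf (nat_lit 40974609)) (BT.leaf (nat_lit 40974613))))))) (BT.node (nat_lit 10415168) (BT.node (nat_lit 10414528) (BT.node (nat_lit 10414080) (BT.node (nat_lit 10413952) (BT.leaf (nat_lit 40974621)) (BT.node (nat_lit 10414016) (BT.leaf (nat_lit 41087501)) (BT.leaf (nat_lit 41087505)))) (BT.node (nat_lit 10414400) (BT.node (nat_lit 10414272) (BT.leaf (nat_lit 41087509)) (BT.leaf (nat_lit 35250973))) (BT.node (nat_lit 10414464) (BT.leaf (nat_lit 39468293)) (BT.leaf (nat_lit 39468297))))) (BT.node (nat_lit 10414848) (BT.node (nat_lit 10414656) (BT.node (nat_lit 10414592) (BT.leaf (nat_lit 39468301)) (BT.leaf (nat_lit 39468309))) (BT.node (nat_lit 10414784) (BT.leaf (nat_lit 39513105)) (BT.leaf (nat_lit 39392009)))) (BT.node (nat_lit 10414976) (BT.node (nat_lit 10414912) (BT.leaf (nat_lit 35656721)) (BT.leaf (nat_lit 35249689))) (BT.node (nat_lit 10415104) (BT.leaf (nat_lit 39513109)) (BT.leaf (nat_lit 35250457)))))) (BT.node (nat_lit 10415808) (BT.node (nat_lit 10415488) (BT.node (nat_lit 10415296) (BT.node (nat_lit 10415232) (BT.leaf (nat_lit 39392021)) (BT.leaf (nat_lit 35250461))) (BT.node (nat_lit 10415360) (BT.leaf (nat_lit 39454737)) (BT.leaf (nat_lit 39454741)))) (BT.node (nat_lit 10415616) (BT.node (nat_lit 10415552) (BT.leaf (nat_lit 35251481)) (BT.leaf (nat_lit 35251737))) (BT.node (nat_lit 10415680) (BT.leaf (nat_lit 39649309)) (BT.leaf (nat_lit 35239193))))) (BT.node (nat_lit 10416256) (BT.node (nat_lit 10416000) (BT.node (nat_lit 10415872) (BT.leaf (nat_lit 35251485)) (BT.leaf (nat_lit 35251741))) (BT.node (nat_lit 10416128) (BT.leaf (nat_lit 35252505)) (BT.leaf (nat_lit 39391245)))) (BT.node (nat_lit 10416384) (BT.node (nat_lit 10416320) (BT.leaf (nat_lit 35253025)) (BT.leaf (nat_lit 39482641))) (BT.node (nat_lit 10416448) (BT.leaf (nat_lit 35253005)) (BT.leaf (nat_lit 35257629)))))))))) (BT.node (nat_lit 10427200) (BT.node (nat_lit 10420992) (BT.node (nat_lit 10418752) (BT.node (nat_lit 10417728) (BT.node (nat_lit 10417024) (BT.node (nat_lit 10416704) (BT.node (nat_lit 10416576) (BT.leaf (nat_lit 35257885)) (BT.node (nat_lit 10416640) (BT.leaf (nat_lit 35253269)) (BT.leaf (nat_lit 37323797)))) (BT.node (nat_lit 10416896) (BT.node (nat_lit 10416832) (BT.leaf (nat_lit 35255321)) (BT.leaf (nat_lit 37052441))) (BT.node (nat_lit 10416960) (BT.leaf (nat_lit 35593745)) (BT.leaf (nat_lit 35256349))))) (BT.node (nat_lit 10417344) (BT.node (nat_lit 10417216) (BT.node (nat_lit 10417088) (BT.leaf (nat_lit 35761165)) (BT.leaf (nat_lit 37052697))) (BT.node (nat_lit 10417280) (BT.leaf (nat_lit 36063261)) (BT.leaf (nat_lit 35257609)))) (BT.node (nat_lit 10417536) (BT.node (nat_lit 10417408) (BT.leaf (nat_lit 39439645)) (BT.leaf (nat_lit 35670041))) (BT.node (nat_lit 10417664) (BT.leaf (nat_lit 39481361)) (BT.leaf (nat_lit 35235097)))))) (BT.node (nat_lit 10418176) (BT.node (nat_lit 10417920) (BT.node (nat_lit 10417792) (BT.leaf (nat_lit 35258653)) (BT.node (nat_lit 10417856) (BT.leaf (nat_lit 39479045)) (BT.leaf (nat_lit 39479049)))) (BT.node (nat_lit 10418048) (BT.node (nat_lit 10417984) (BT.leaf (nat_lit 39479053)) (BT.leaf (nat_lit 35259161))) (BT.node (nat_lit 10418112) (BT.leaf (nat_lit 35536657)) (BT.leaf (nat_lit 35927573))))) (BT.node (nat_lit 10418496) (BT.node (nat_lit 10418368) (BT.node (nat_lit 10418304) (BT.leaf (nat_lit 35927581)) (BT.leaf (nat_lit 35649557))) (BT.node (nat_lit 10418432) (BT.leaf (nat_lit 36509457)) (BT.leaf (nat_lit 35254293)))) (BT.node (nat_lit 10418624) (BT.node (nat_lit 10418560) (BT.leaf (nat_lit 35682841)) (BT.leaf (nat_lit 37472537))) (BT.node (nat_lit 10418688) (BT.leaf (nat_lit 35259929)) (BT.leaf (nat_lit 35906069))))))) (BT.node (nat_lit 10419712) (BT.node (nat_lit 10419200) (BT.node (nat_lit 10418944) (BT.node (nat_lit 10418816) (BT.leaf (nat_lit 35906077)) (BT.node (nat_lit 10418880) (BT.leaf (nat_lit 39395849)) (BT.leaf (nat_lit 39395845)))) (BT.node (nat_lit 10419072) (BT.node (nat_lit 10419008) (BT.leaf (nat_lit 39470341)) (BT.leaf (nat_lit 39634201))) (BT.node (nat_lit 10419136) (BT.leaf (nat_lit 39407641)) (BT.leaf (nat_lit 39404805))))) (BT.node (nat_lit 10419456) (BT.node (nat_lit 10419328) (BT.node (nat_lit 10419264) (BT.leaf (nat_lit 39404809)) (BT.leaf (nat_lit 35261721))) (BT.node (nat_lit 10419392) (BT.leaf (nat_lit 39404821)) (BT.leaf (nat_lit 35261725)))) (BT.node (nat_lit 10419584) (BT.node (nat_lit 10419520) (BT.leaf (nat_lit 37064725)) (BT.leaf (nat_lit 35689241))) (BT.node (nat_lit 10419648) (BT.leaf (nat_lit 39262997)) (BT.leaf (nat_lit 39512581)))))) (BT.node (nat_lit 10420416) (BT.node (nat_lit 10420160) (BT.node (nat_lit 10420032) (BT.node (nat_lit 10419776) (BT.leaf (nat_lit 39512585)) (BT.leaf (nat_lit 39512593))) (BT.node (nat_lit 10420096) (BT.leaf (nat_lit 35651357)) (BT.leaf (nat_lit 35456529)))) (BT.node (nat_lit 10420288) (BT.node (nat_lit 10420224) (BT.leaf (nat_lit 39073305)) (BT.leaf (nat_lit 35242513))) (BT.node (nat_lit 10420352) (BT.leaf (nat_lit 38110493)) (BT.leaf (nat_lit 35774237))))) (BT.node (nat_lit 10420736) (BT.node (nat_lit 10420608) (BT.node (nat_lit 10420544) (BT.leaf (nat_lit 37176605)) (BT.leaf (nat_lit 35694857))) (BT.node (nat_lit 10420672) (BT.leaf (nat_lit 37171993)) (BT.leaf (nat_lit 35263513)))) (BT.node (nat_lit 10420864) (BT.node (nat_lit 10420800) (BT.leaf (nat_lit 35686421)) (BT.leaf (nat_lit 35664901))) (BT.node (nat_lit 10420928) (BT.leaf (nat_lit 35263517)) (BT.leaf (nat_lit 35664929)))))))) (BT.node (nat_lit 10423808) (BT.node (nat_lit 10422080) (BT.node (nat_lit 10421440) (BT.node (nat_lit 10421184) (BT.node (nat_lit 10421056) (BT.leaf (nat_lit 38110233)) (BT.node (nat_lit 10421120) (BT.leaf (nat_lit 35265301)) (BT.leaf (nat_lit 34621473)))) (BT.node (nat_lit 10421312) (BT.node (nat_lit 10421248) (BT.leaf (nat_lit 39074329)) (BT.leaf (nat_lit 35669529))) (BT.node (nat_lit 10421376) (BT.leaf (nat_lit 35765273)) (BT.leaf (nat_lit 39072533))))) (BT.node (nat_lit 10421760) (BT.node (nat_lit 10421568) (BT.node (nat_lit 10421504) (BT.leaf (nat_lit 39072541)) (BT.leaf (nat_lit 35688969))) (BT.node (nat_lit 10421632) (BT.leaf (nat_lit 37245717)) (BT.leaf (nat_lit 36071189)))) (BT.node (nat_lit 10421888) (BT.node (nat_lit 10421824) (BT.leaf (nat_lit 35916297)) (BT.leaf (nat_lit 39071505))) (BT.node (nat_lit 10421952) (BT.leaf (nat_lit 39071509)) (BT.leaf (nat_lit 39071517)))))) (BT.node (nat_lit 10422784) (BT.node (nat_lit 10422400) (BT.node (nat_lit 10422272) (BT.node (nat_lit 10422144) (BT.leaf (nat_lit 37889045)) (BT.leaf (nat_lit 37324821))) (BT.node (nat_lit 10422336) (BT.leaf (nat_lit 36759053)) (BT.leaf (nat_lit 37175825)))) (BT.node (nat_lit 10422656) (BT.node (nat_lit 10422528) (BT.leaf (nat_lit 35267601)) (BT.leaf (nat_lit 35267857))) (BT.node (nat_lit 10422720) (BT.leaf (nat_lit 34294801)) (BT.leaf (nat_lit 35268113))))) (BT.node (nat_lit 10423232) (BT.node (nat_lit 10422976) (BT.node (nat_lit 10422848) (BT.leaf (nat_lit 35268369)) (BT.leaf (nat_lit 35782925))) (BT.node (nat_lit 10423168) (BT.leaf (nat_lit 35782945)) (BT.leaf (nat_lit 36758793)))) (BT.node (nat_lit 10423616) (BT.node (nat_lit 10423296) (BT.leaf (nat_lit 39409669)) (BT.leaf (nat_lit 35269405))) (BT.node (nat_lit 10423744) (BT.leaf (nat_lit 35269917)) (BT.leaf (nat_lit 35270677))))))) (BT.node (nat_lit 10425536) (BT.node (nat_lit 10424960) (BT.node (nat_lit 10424192) (BT.node (nat_lit 10423936) (BT.leaf (nat_lit 34856733)) (BT.node (nat_lit 10424000) (BT.leaf (nat_lit 39673097)) (BT.leaf (nat_lit 39673109)))) (BT.node (nat_lit 10424576) (BT.node (nat_lit 10424384) (BT.leaf (nat_lit 36383753)) (BT.leaf (nat_lit 38427929))) (BT.node (nat_lit 10424768) (BT.leaf (nat_lit 35271185)) (BT.leaf (nat_lit 39945249))))) (BT.node (nat_lit 10425280) (BT.node (nat_lit 10425152) (BT.node (nat_lit 10425024) (BT.leaf (nat_lit 41234181)) (BT.leaf (nat_lit 41234185))) (BT.node (nat_lit 10425216) (BT.leaf (nat_lit 34904849)) (BT.leaf (nat_lit 38999557)))) (BT.node (nat_lit 10425408) (BT.node (nat_lit 10425344) (BT.leaf (nat_lit 38999561)) (BT.leaf (nat_lit 38999565))) (BT.node (nat_lit 10425472) (BT.leaf (nat_lit 35271697)) (BT.leaf (nat_lit 38999313)))))) (BT.node (nat_lit 10426432) (BT.node (nat_lit 10425792) (BT.node (nat_lit 10425664) (BT.node (nat_lit 10425600) (BT.leaf (nat_lit 35525381)) (BT.leaf (nat_lit 39097117))) (BT.node (nat_lit 10425728) (BT.leaf (nat_lit 35859997)) (BT.leaf (nat_lit 38999329)))) (BT.node (nat_lit 10426304) (BT.node (nat_lit 10425856) (BT.leaf (nat_lit 41414925)) (BT.leaf (nat_lit 35271969))) (BT.node (nat_lit 10426368) (BT.leaf (nat_lit 38865685)) (BT.leaf (nat_lit 38565657))))) (BT.node (nat_lit 10426880) (BT.node (nat_lit 10426560) (BT.node (nat_lit 10426496) (BT.leaf (nat_lit 35473685)) (BT.leaf (nat_lit 35272221))) (BT.node (nat_lit 10426624) (BT.leaf (nat_lit 35896605)) (BT.leaf (nat_lit 35432737)))) (BT.node (nat_lit 10427008) (BT.node (nat_lit 10426944) (BT.leaf (nat_lit 35473413)) (BT.leaf (nat_lit 35473417))) (BT.node (nat_lit 10427072) (BT.leaf (nat_lit 35883549)) (BT.leaf (nat_lit 35899925))))))))) (BT.node (nat_lit 10431744) (BT.node (nat_lit 10429504) (BT.node (nat_lit 10428288) (BT.node (nat_lit 10427712) (BT.node (nat_lit 10427392) (BT.node (nat_lit 10427264) (BT.leaf (nat_lit 39655957)) (BT.node (nat_lit 10427328) (BT.leaf (nat_lit 39655969)) (BT.leaf (nat_lit 37522721)))) (BT.node (nat_lit 10427584) (BT.node (nat_lit 10427456) (BT.leaf (nat_lit 37741845)) (BT.leaf (nat_lit 37741853))) (BT.node (nat_lit 10427648) (BT.leaf (nat_lit 35272465)) (BT.leaf (nat_lit 34228753))))) (BT.node (nat_lit 10428032) (BT.node (nat_lit 10427840) (BT.node (nat_lit 10427776) (BT.leaf (nat_lit 35273229)) (BT.leaf (nat_lit 38685973))) (BT.node (nat_lit 10427904) (BT.leaf (nat_lit 37744925)) (BT.leaf (nat_lit 34951449)))) (BT.node (nat_lit 10428160) (BT.node (nat_lit 10428096) (BT.leaf (nat_lit 39738645)) (BT.leaf (nat_lit 39738653))) (BT.node (nat_lit 10428224) (BT.leaf (nat_lit 37004061)) (BT.leaf (nat_lit 37407521)))))) (BT.node (nat_lit 10428800) (BT.node (nat_lit 10428544) (BT.node (nat_lit 10428416) (BT.node (nat_lit 10428352) (BT.leaf (nat_lit 39738905)) (BT.leaf (nat_lit 35273245))) (BT.node (nat_lit 10428480) (BT.leaf (nat_lit 39738137)) (BT.leaf (nat_lit 39738145)))) (BT.node (nat_lit 10428672) (BT.node (nat_lit 10428608) (BT.leaf (nat_lit 39738389)) (BT.leaf (nat_lit 36076565))) (BT.node (nat_lit 10428736) (BT.leaf (nat_lit 34385429)) (BT.leaf (nat_lit 34385685))))) (BT.node (nat_lit 10429248) (BT.node (nat_lit 10428928) (BT.node (nat_lit 10428864) (BT.leaf (nat_lit 38119957)) (BT.leaf (nat_lit 35274269))) (BT.node (nat_lit 10428992) (BT.leaf (nat_lit 40490525)) (BT.leaf (nat_lit 40600349)))) (BT.node (nat_lit 10429376) (BT.node (nat_lit 10429312) (BT.leaf (nat_lit 34935577)) (BT.leaf (nat_lit 37198365))) (BT.node (nat_lit 10429440) (BT.leaf (nat_lit 35620361)) (BT.leaf (nat_lit 35620357))))))) (BT.node (nat_lit 10430528) (BT.node (nat_lit 10429952) (BT.node (nat_lit 10429696) (BT.node (nat_lit 10429568) (BT.leaf (nat_lit 35620385)) (BT.node (nat_lit 10429632) (BT.leaf (nat_lit 35275537)) (BT.leaf (nat_lit 35639069)))) (BT.node (nat_lit 10429824) (BT.node (nat_lit 10429760) (BT.leaf (nat_lit 35938057)) (BT.leaf (nat_lit 39396101))) (BT.node (nat_lit 10429888) (BT.leaf (nat_lit 39396129)) (BT.leaf (nat_lit 39397145))))) (BT.node (nat_lit 10430208) (BT.node (nat_lit 10430080) (BT.node (nat_lit 10430016) (BT.leaf (nat_lit 35275781)) (BT.leaf (nat_lit 35400721))) (BT.node (nat_lit 10430144) (BT.leaf (nat_lit 37594393)) (BT.leaf (nat_lit 35363093)))) (BT.node (nat_lit 10430400) (BT.node (nat_lit 10430336) (BT.leaf (nat_lit 35200261)) (BT.leaf (nat_lit 37059353))) (BT.node (nat_lit 10430464) (BT.leaf (nat_lit 35982617)) (BT.leaf (nat_lit 35577605)))))) (BT.node (nat_lit 10431168) (BT.node (nat_lit 10430784) (BT.node (nat_lit 10430656) (BT.node (nat_lit 10430592) (BT.leaf (nat_lit 37504789)) (BT.leaf (nat_lit 41216273))) (BT.node (nat_lit 10430720) (BT.leaf (nat_lit 35938825)) (BT.leaf (nat_lit 35635725)))) (BT.node (nat_lit 10430976) (BT.node (nat_lit 10430912) (BT.leaf (nat_lit 35895321)) (BT.leaf (nat_lit 37758489))) (BT.node (nat_lit 10431040) (BT.leaf (nat_lit 35278609)) (BT.leaf (nat_lit 40621341))))) (BT.node (nat_lit 10431424) (BT.node (nat_lit 10431296) (BT.node (nat_lit 10431232) (BT.leaf (nat_lit 34381593)) (BT.leaf (nat_lit 35874585))) (BT.node (nat_lit 10431360) (BT.leaf (nat_lit 39964437)) (BT.leaf (nat_lit 39964445)))) (BT.node (nat_lit 10431552) (BT.node (nat_lit 10431488) (BT.leaf (nat_lit 35790601)) (BT.leaf (nat_lit 37189385))) (BT.node (nat_lit 10431680) (BT.leaf (nat_lit 35280149)) (BT.leaf (nat_lit 34281749)))))))) (BT.node (nat_lit 10434944) (BT.node (nat_lit 10433152) (BT.node (nat_lit 10432384) (BT.node (nat_lit 10432128) (BT.node (nat_lit 10431808) (BT.leaf (nat_lit 38615305)) (BT.node (nat_lit 10432064) (BT.leaf (nat_lit 38615301)) (BT.leaf (nat_lit 35452689)))) (BT.node (nat_lit 10432256) (BT.node (nat_lit 10432192) (BT.leaf (nat_lit 35452701)) (BT.leaf (nat_lit 35328773))) (BT.node (nat_lit 10432320) (BT.leaf (nat_lit 35328777)) (BT.leaf (nat_lit 35328781))))) (BT.node (nat_lit 10432640) (BT.node (nat_lit 10432512) (BT.node (nat_lit 10432448) (BT.leaf (nat_lit 35281681)) (BT.leaf (nat_lit 35282193))) (BT.node (nat_lit 10432576) (BT.leaf (nat_lit 38004241)) (BT.leaf (nat_lit 35434761)))) (BT.node (nat_lit 10433024) (BT.node (nat_lit 10432768) (BT.leaf (nat_lit 37118493)) (BT.leaf (nat_lit 35283477))) (BT.node (nat_lit 10433088) (BT.leaf (nat_lit 35283729)) (BT.leaf (nat_lit 35283985)))))) (BT.node (nat_lit 10434176) (BT.node (nat_lit 10433728) (BT.node (nat_lit 10433344) (BT.node (nat_lit 10433280) (BT.leaf (nat_lit 38622213)) (BT.leaf (nat_lit 37095441))) (BT.node (nat_lit 10433408) (BT.leaf (nat_lit 35284241)) (BT.leaf (nat_lit 35284497)))) (BT.node (nat_lit 10433920) (BT.node (nat_lit 10433856) (BT.leaf (nat_lit 39641357)) (BT.leaf (nat_lit 39641369))) (BT.node (nat_lit 10434112) (BT.leaf (nat_lit 39641373)) (BT.leaf (nat_lit 35474961))))) (BT.node (nat_lit 10434496) (BT.node (nat_lit 10434304) (BT.node (nat_lit 10434240) (BT.leaf (nat_lit 35474973)) (BT.leaf (nat_lit 37176849))) (BT.node (nat_lit 10434368) (BT.leaf (nat_lit 38617353)) (BT.leaf (nat_lit 38617349)))) (BT.node (nat_lit 10434816) (BT.node (nat_lit 10434688) (BT.leaf (nat_lit 35926277)) (BT.leaf (nat_lit 40804633))) (BT.node (nat_lit 10434880) (BT.leaf (nat_lit 37738265)) (BT.leaf (nat_lit 35286553))))))) (BT.node (nat_lit 10436544) (BT.node (nat_lit 10435456) (BT.node (nat_lit 10435136) (BT.node (nat_lit 10435008) (BT.leaf (nat_lit 38391301)) (BT.node (nat_lit 10435072) (BT.leaf (nat_lit 41133845)) (BT.leaf (nat_lit 38391305)))) (BT.node (nat_lit 10435264) (BT.node (nat_lit 10435200) (BT.leaf (nat_lit 36557073)) (BT.leaf (nat_lit 36556821))) (BT.node (nat_lit 10435328) (BT.leaf (nat_lit 39038233)) (BT.leaf (nat_lit 39040545))))) (BT.node (nat_lit 10435776) (BT.node (nat_lit 10435648) (BT.node (nat_lit 10435584) (BT.leaf (nat_lit 41011221)) (BT.leaf (nat_lit 41133837))) (BT.node (nat_lit 10435712) (BT.leaf (nat_lit 39899141)) (BT.leaf (nat_lit 39893789)))) (BT.node (nat_lit 10436416) (BT.node (nat_lit 10435840) (BT.leaf (nat_lit 36708373)) (BT.leaf (nat_lit 35286805))) (BT.node (nat_lit 10436480) (BT.leaf (nat_lit 40653841)) (BT.leaf (nat_lit 35436301)))))) (BT.node (nat_lit 10437312) (BT.node (nat_lit 10437056) (BT.node (nat_lit 10436928) (BT.node (nat_lit 10436800) (BT.leaf (nat_lit 36292641)) (BT.leaf (nat_lit 39265285))) (BT.node (nat_lit 10436992) (BT.leaf (nat_lit 39621649)) (BT.leaf (nat_lit 35287817)))) (BT.node (nat_lit 10437184) (BT.node (nat_lit 10437120) (BT.leaf (nat_lit 35287813)) (BT.leaf (nat_lit 39621653))) (BT.node (nat_lit 10437248) (BT.leaf (nat_lit 34090009)) (BT.leaf (nat_lit 38937881))))) (BT.node (nat_lit 10437696) (BT.node (nat_lit 10437568) (BT.node (nat_lit 10437376) (BT.leaf (nat_lit 39260945)) (BT.leaf (nat_lit 39275797))) (BT.node (nat_lit 10437632) (BT.leaf (nat_lit 38315789)) (BT.leaf (nat_lit 38076169)))) (BT.node (nat_lit 10437824) (BT.node (nat_lit 10437760) (BT.leaf (nat_lit 38076165)) (BT.leaf (nat_lit 38076173))) (BT.node (nat_lit 10438016) (BT.leaf (nat_lit 38076189)) (BT.leaf (nat_lit 37934345)))))))))))))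

end CF.Comp.ON
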