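import Cfsg.Agent.Comp.ON.E1D0
import Cfsg.Agent.Comp.ON.E1D1
import Cfsg.Agent.Comp.ON.E1D2

set_option autoImplicit false
set_option maxRecDepth 1000000
set_option maxHeartbeats 0
set_option Elab.async false

namespace CF.Comp.ON

noncomputable def e1_c0 : BT (Bx Nat) := (BT.node (nat_lit 256) e1_c0_0 (BT.node (nat_lit 512) e1_c0_256 e1_c0_512))
noncomputable def e1_c1 : BT (Bx Nat) := (BT.node (nat_lit 256) e1_c1_0 (BT.node (nat_lit 512) e1_c1_256 e1_c1_512))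
noncomputable def e1_c2 : BT (Bx Nat) := (BT.node (nat_lit 256) e1_c2_0 (BT.node (nat_lit 512) e1_c2_256 e1_c2_512))
noncomputable def e1_c3 : BT (Bx Nat) := (BT.node (nat_lit 256) e1_c3_0 (BT.node (nat_lit 512) e1_c3_256 e1_c3_512))
noncomputable def e1_c4 : BT (Bx Nat) := (BT.node (nat_lit 256) e1_c4_0 (BT.node (nat_lit 512) e1_c4_256 e1_c4_512))
noncomputable def e1_c5 : BT (Bx Nat) := (BT.node (nat_lit 256) e1_c5_0 (BT.node (nat_lit 512) e1_c5_256 e1_c5_512))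
noncomputable def e1_c6 : BT (Bx Nat) := (BT.node (nat_lit 256) e1_c6_0 (BT.node (nat_lit 512) e1_c6_256 e1_c6_512))
noncomputable def e1_c7 : BT (Bx Nat) := (BT.node (nat_lit 256) e1_c7_0 (BT.node (nat_lit 512) e1_c7_256 e1_c7_512))
noncomputable def e1_c8 : BT (Bx Nat) := (BT.node (nat_lit 256) e1_c8_0 (BT.node (nat_lit 512) e1_c8_256 e1_c8_512))
noncomputable def e1_p : BT (Bx Nat) := (BT.node (nat_lit 256) e1_p_0 (BT.node (nat_lit 512) e1_p_256 e1_p_512))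
noncomputable def e1_e : BT Nat := (BT.node (nat_lit 8163456) (BT.node (nat_lit 3720710) (BT.node (nat_lit 3026561) (BT.node (nat_lit 1847304) e1_e0 (BT.node (nat_lit 2920193) e1_e2048 e1_e4096)) (BT.node (nat_lit 3306564) (BT.node (nat_lit 3139074) e1_e6144 e1_e8192) (BT.node (nat_lit 3487746) e1_e10240 e1_e12288))) (BT.node (nat_lit 4363589) (BT.node (nat_lit 3992008) e1_e14336 (BT.node (nat_lit 4136001) e1_e16384 e1_e18432)) (BT.node (nat_lit 7860160) (BT.node (nat_lit 4650116) e1_e20480 e1_e22528) (BT.node (nat_lit 8012480) e1_e24576 e1_e26624)))) (BT.node (nat_lit 9137664) (BT.node (nat_lit 8593792) (BT.node (nat_lit 8287040) e1_e28672 (BT.node (nat_lit 8440000) e1_e30720 e1_e32768)) (BT.node (nat_lit 8867328) (BT.node (nat_lit 8734336) e1_e34816 e1_e36864) (BT.node (nat_lit 8998400) e1_e38912 e1_e40960))) (BT.node (nat_lit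 9757248) (BT.node (nat_lit 9456064) (BT.node (nat_lit 9292800) e1_e43008 e1_e45056) (BT.node (nat_lit 9607616) e1_e47104 e1_e49152)) (BT.node (nat_lit 10098176) (BT.node (nat_lit 9924742) e1_e51200 e1_e53248) (BT.node (nat_lit 10265664) e1_e55296 e1_e57344)))))
noncomputable def e1_cols : List (BT (Bx Nat)) := [e1_c0, e1_c1, e1_c2, e1_c3, e1_c4, e1_c5, e1_c6, e1_c7, e1_c8]
noncomputable def e1_ch (x j : Nat) : Bx Nat := chunkG e1_cols (nat_lit 638) x j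
noncomputable def e1_L (x : Nat) : Bx (Nat → Nat) := lookG e1_ch (nat_lit 8) (nat_lit 255) (nat_lit 39) (nat_lit 0x7fffffffff) x
noncomputable def e1_pc (_ j : Nat) : Bx Nat := e1_p.get j
noncomputable def e1_pb : Bx (Nat → Nat) := lookG e1_pc (nat_lit 8) (nat_lit 255) (nat_lit 29) (nat_lit 536870911) (nat_lit 0)
noncomputable def e1_rots : BT CW := (BT.node (nat_lit 347) (BT.node (nat_lit 173) (BT.node (nat_lit 86) (BT.node (nat_lit 43) (BT.node (nat_lit 21) (BT.node (nat_lit 10) (BT.node (nat_lit 5) (BT.node (nat_lit 2) (BT.node (nat_lit 1) (BT.leaf ⟨[], (nat_lit 1000000), (nat_lit 0), (nat_lit 0), (nat_lit 0)⟩) (BT.leaf ⟨[], (nat_lit 1000000), (nat_lit 0), (nat_lit 0), (nat_lit 1)⟩)) (BT.node (nat_lit 3) (BT.leaf ⟨[], (nat_lit 1000000), (nat_lit 0), (nat_lit 0), (nat_lit 2)⟩) (BT.node (nat_lit 4) (BT.leaf ⟨[(nat_lit 2), (nat_lit 1)], (nat_lit 34), (nat_lit 1), (nat_lit 0), (nat_lit 3)⟩) (BT.leaf ⟨[(nat_lit 4), (nat_lit 4)], (nat_lit 1), (nat_lit 0), (nat_lit 0), (nat_lit 3)⟩)))) (BT.node (nat_lit 7) (BT.node (nat_lit 6) (BT.leaf ⟨[(nat_lit 5), (nat_lit 5)], (nat_lit 2), (nat_lit 0), (nat_lit 0), (nat_lit 3)⟩) (BT.leaf ⟨[(nat_lit 6), (nat_lit 6)], (nat_lit 3), (nat_lit 0), (nat_lit 0), (nat_lit 3)⟩)) (BT.node (nat_lit 8) (BT.leaf ⟨[(nat_lit 7), (nat_lit 7)], (nat_lit 4), (nat_lit 0), (nat_lit 0), (nat_lit 3)⟩) (BT.node (nat_lit 9) (BT.leaf ⟨[(nat_lit 1), (nat_lit 2)], (nat_lit 34), (nat_lit 0), (nat_lit 0), (nat_lit 3)⟩) (BT.leaf ⟨[(nat_lit 3), (nat_lit 3)], (nat_lit 0), (nat_lit 0), (nat_lit 0), (nat_lit 3)⟩))))) (BT.node (nat_lit 15) (BT.node (nat_lit 12) (BT.node (nat_lit 11) (BT.leaf ⟨[(nat_lit 8), (nat_lit 8)], (nat_lit 5), (nat_lit 0), (nat_lit 0), (nat_lit 3)⟩) (BT.leaf ⟨[(nat_lit 4), (nat_lit 6), (nat_lit 4), (nat_lit 6)], (nat_lit 12), (nat_lit 0), (nat_lit 0), (nat_lit 3)⟩)) (BT.node (nat_lit 13) (BT.leaf ⟨[(nat_lit 4), (nat_lit 7), (nat_lit 4), (nat_lit 7)], (nat_lit 13), (nat_lit 0), (nat_lit 0), (nat_lit 3)⟩) (BT.node (nat_lit 14) (BT.leaf ⟨[(nat_lit 5), (nat_lit 7), (nat_lit 5), (nat_lit 7)], (nat_lit 16), (nat_lit 0), (nat_lit 0), (nat_lit 3)⟩) (BT.leaf ⟨[(nat_lit 3), (nat_lit 5), (nat_lit 3), (nat_lit 5)], (nat_lit 7), (nat_lit 0), (nat_lit 0), (nat_lit 3)⟩)))) (BT.node (nat_lit 18) (BT.node (nat_lit 16) (BT.leaf ⟨[(nat_lit 3), (nat_lit 6), (nat_lit 3), (nat_lit 6)], (nat_lit 8), (nat_lit 0), (nat_lit 0), (nat_lit 3)⟩) (BT.node (nat_lit 17) (BT.leaf ⟨[(nat_lit 3), (nat_lit 7), (nat_lit 3), (nat_lit 7)], (nat_lit 9), (nat_lit 0), (nat_lit 0), (nat_lit 3)⟩) (BT.leaf ⟨[(nat_lit 6), (nat_lit 8), (nat_lit 6), (nat_lit 8)], (nat_lit 19), (nat_lit 0), (nat_lit 0), (nat_lit 3)⟩))) (BT.node (nat_lit 19) (BT.leaf ⟨[(nat_lit 4), (nat_lit 8), (nat_lit 4), (nat_lit 8)], (nat_lit 14), (nat_lit 0), (nat_lit 0), (nat_lit 3)⟩) (BT.node (nat_lit 20) (BT.leaf ⟨[(nat_lit 5), (nat_lit 8), (nat_lit 5), (nat_lit 8)], (nat_lit 17), (nat_lit 0), (nat_lit 0), (nat_lit 3)⟩) (BT.leaf ⟨[(nat_lit 1), (nat_lit 8), (nat_lit 3), (nat_lit 1)], (nat_lit 56), (nat_lit 1), (nat_lit 0), (nat_lit 3)⟩)))))) (BT.node (nat_lit 32) (BT.node (nat_lit 26) (BT.node (nat_lit 23) (BT.node (nat_lit 22) (BT.leaf ⟨[(nat_lit 3), (nat_lit 8), (nat_lit 3), (nat_lit 8)], (nat_lit 10), (nat_lit 0), (nat_lit 0), (nat_lit 3)⟩) (BT.leaf ⟨[(nat_lit 2), (nat_lit 2), (nat_lit 3), (nat_lit 8)], (nat_lit 21), (nat_lit 2), (nat_lit 0), (nat_lit 3)⟩)) (BT.node (nat_lit 24) (BT.leaf ⟨[(nat_lit 1), (nat_lit 1), (nat_lit 8), (nat_lit 3)], (nat_lit 56), (nat_lit 0), (nat_lit 0), (nat_lit 3)⟩) (BT.node (nat_lit 25) (BT.leaf ⟨[(nat_lit 2), (nat_lit 3), (nat_lit 8), (nat_lit 2)], (nat_lit 21), (nat_lit 3), (nat_lit 0), (nat_lit 3)⟩) (BT.leaf ⟨[(nat_lit 8), (nat_lit 3), (nat_lit 1), (nat_lit 1)], (nat_lit 56), (nat_lit 2), (nat_lit 0), (nat_lit 3)⟩)))) (BT.node (nat_lit 29) (BT.node (nat_lit 27) (BT.leaf ⟨[(nat_lit 3), (nat_lit 1), (nat_lit 1), (nat_lit 8)], (nat_lit 56), (nat_lit 3), (nat_lit 0), (nat_lit 3)⟩) (BT.node (nat_lit 28) (BT.leaf ⟨[(nat_lit 8), (nat_lit 4), (nat_lit 8), (nat_lit 4)], (nat_lit 14), (nat_lit 1), (nat_lit 0), (nat_lit 3)⟩) (BT.leaf ⟨[(nat_lit 8), (nat_lit 5), (nat_lit 8), (nat_lit 5)], (nat_lit 17), (nat_lit 1), (nat_lit 0), (nat_lit 3)⟩))) (BT.node (nat_lit 30) (BT.leaf ⟨[(nat_lit 8), (nat_lit 6), (nat_lit 8), (nat_lit 6)], (nat_lit 19), (nat_lit 1), (nat_lit 0), (nat_lit 3)⟩) (BT.node (nat_lit 31) (BT.leaf ⟨[(nat_lit 8), (nat_lit 3), (nat_lit 8), (nat_lit 3)], (nat_lit 10), (nat_lit 1), (nat_lit 0), (nat_lit 3)⟩) (BT.leaf ⟨[(nat_lit 5), (nat_lit 4), (nat_lit 5), (nat_lit 4), (nat_lit 5), (nat_lit 4)], (nat_lit 11), (nat_lit 1), (nat_lit 0), (nat_lit 3)⟩))))) (BT.node (nat_lit 37) (BT.node (nat_lit 34) (BT.node (nat_lit 33) (BT.leaf ⟨[(nat_lit 7), (nat_lit 6), (nat_lit 7), (nat_lit 6), (nat_lit 7), (nat_lit 6)], (nat_lit 18), (nat_lit 1), (nat_lit 0), (nat_lit 3)⟩) (BT.leaf ⟨[(nat_lit 7), (nat_lit 4), (nat_lit 7), (nat_lit 4)], (nat_lit 13), (nat_lit 1), (nat_lit 0), (nat_lit 3)⟩)) (BT.node (nat_lit 35) (BT.leaf ⟨[(nat_lit 7), (nat_lit 5), (nat_lit 7), (nat_lit 5)], (nat_lit 16), (nat_lit 1), (nat_lit 0), (nat_lit 3)⟩) (BT.node (nat_lit 36) (BT.leaf ⟨[(nat_lit 7), (nat_lit 3), (nat_lit 7), (nat_lit 3)], (nat_lit 9), (nat_lit 1), (nat_lit 0), (nat_lit 3)⟩) (BT.leaf ⟨[(nat_lit 5), (nat_lit 3), (nat_lit 5), (nat_lit 3)], (nat_lit 7), (nat_lit 1), (nat_lit 0), (nat_lit 3)⟩)))) (BT.node (nat_lit 40) (BT.node (nat_lit 38) (BT.leaf ⟨[(nat_lit 8), (nat_lit 7), (nat_lit 8), (nat_lit 7), (nat_lit 8), (nat_lit 7)], (nat_lit 20), (nat_lit 1), (nat_lit 0), (nat_lit 3)⟩) (BT.node (nat_lit 39) (BT.leaf ⟨[(nat_lit 6), (nat_lit 7), (nat_lit 6), (nat_lit 7), (nat_lit 6), (nat_lit 7)], (nat_lit 18), (nat_lit 0), (nat_lit 0), (nat_lit 3)⟩) (BT.leaf ⟨[(nat_lit 6), (nat_lit 4), (nat_lit 6), (nat_lit 4)], (nat_lit 12), (nat_lit 1), (nat_lit 0), (nat_lit 3)⟩))) (BT.node (nat_lit 41) (BT.leaf ⟨[(nat_lit 6), (nat_lit 3), (nat_lit 6), (nat_lit 3)], (nat_lit 8), (nat_lit 1), (nat_lit 0), (nat_lit 3)⟩) (BT.node (nat_lit 42) (BT.leaf ⟨[(nat_lit 4), (nat_lit 3), (nat_lit 4), (nat_lit 3), (nat_lit 4), (nat_lit 3)], (nat_lit 6), (nat_lit 1), (nat_lit 0), (nat_lit 3)⟩) (BT.leaf ⟨[(nat_lit 7), (nat_lit 8), (nat_lit 7), (nat_lit 8), (nat_lit 7), (nat_lit 8)], (nat_lit 20), (nat_lit 0), (nat_lit 0), (nat_lit 3)⟩))))))) (BT.node (nat_lit 64) (BT.node (nat_lit 53) (BT.node (nat_lit 48) (BT.node (nat_lit 45) (BT.node (nat_lit 44) (BT.leaf ⟨[(nat_lit 6), (nat_lit 5), (nat_lit 6), (nat_lit 5), (nat_lit 3), (nat_lit 8), (nat_lit 6), (nat_lit 5), (nat_lit 6), (nat_lit 5)], (nat_lit 22), (nat_lit 6), (nat_lit 0), (nat_lit 3)⟩) (BT.leaf ⟨[(nat_lit 8), (nat_lit 6), (nat_lit 5), (nat_lit 6), (nat_lit 5), (nat_lit 6), (nat_lit 5), (nat_lit 6), (nat_lit 5), (nat_lit 3)], (nat_lit 22), (nat_lit 1), (nat_lit 0), (nat_lit 3)⟩)) (BT.node (nat_lit 46) (BT.leaf ⟨[(nat_lit 5), (nat_lit 6), (nat_lit 5), (nat_lit 6), (nat_lit 5), (nat_lit 6), (nat_lit 5), (nat_lit 3), (nat_lit 8), (nat_lit 6)], (nat_lit 22), (nat_lit 3), (nat_lit 0), (nat_lit 3)⟩) (BT.node (nat_lit 47) (BT.leaf ⟨[(nat_lit 3), (nat_lit 8), (nat_lit 6), (nat_lit 5), (nat_lit 6), (nat_lit 5), (nat_lit 6), (nat_lit 5), (nat_lit 6), (nat_lit 5)], (nat_lit 22), (nat_lit 0), (nat_lit 0), (nat_lit 3)⟩) (BT.leaf ⟨[(nat_lit 4), (nat_lit 5), (nat_lit 4), (nat_lit 5), (nat_lit 4), (nat_lit 5)], (nat_lit 11), (nat_lit 0), (nat_lit 0), (nat_lit 3)⟩)))) (BT.node (nat_lit 50) (BT.node (nat_lit 49) (BT.leaf ⟨[(nat_lit 1), (nat_lit 5), (nat_lit 1), (nat_lit 6), (nat_lit 2), (nat_lit 5), (nat_lit 2), (nat_lit 5), (nat_lit 6), (nat_lit 5)], (nat_lit 24), (nat_lit 7), (nat_lit 0), (nat_lit 3)⟩) (BT.leaf ⟨[(nat_lit 6), (nat_lit 5), (nat_lit 6), (nat_lit 5), (nat_lit 6), (nat_lit 5), (nat_lit 3), (nat_lit 8), (nat_lit 6), (nat_lit 5)], (nat_lit 22), (nat_lit 4), (nat_lit 0), (nat_lit 3)⟩)) (BT.node (nat_lit 51) (BT.leaf ⟨[(nat_lit 5), (nat_lit 6), (nat_lit 5), (nat_lit 6), (nat_lit 8), (nat_lit 3), (nat_lit 5), (nat_lit 6), (nat_lit 5), (nat_lit 6)], (nat_lit 57), (nat_lit 4), (nat_lit 0), (nat_lit 3)⟩) (BT.node (nat_lit 52) (BT.leaf ⟨[(nat_lit 1), (nat_lit 6), (nat_lit 2), (nat_lit 5), (nat_lit 2), (nat_lit 5), (nat_lit 6), (nat_lit 5), (nat_lit 1), (nat_lit 5)], (nat_lit 24), (nat_lit 9), (nat_lit 0), (nat_lit 3)⟩) (BT.leaf ⟨[(nat_lit 2), (nat_lit 5), (nat_lit 6), (nat_lit 5), (nat_lit 1), (nat_lit 5), (nat_lit 1), (nat_lit 6), (nat_lit 2), (nat_lit 5)], (nat_lit 24), (nat_lit 3), (nat_lit 0), (nat_lit 3)⟩))))) (BT.node (nat_lit 58) (BT.node (nat_lit 55) (BT.node (nat_lit 54) (BT.leaf ⟨[(nat_lit 6), (nat_lit 5), (nat_lit 6), (nat_lit 5), (nat_lit 6), (nat_lit 5), (nat_lit 6), (nat_lit 5), (nat_lit 3), (nat_lit 8)], (nat_lit 22), (nat_lit 2), (nat_lit 0), (nat_lit 3)⟩) (BT.leaf ⟨[(nat_lit 3), (nat_lit 5), (nat_lit 6), (nat_lit 5), (nat_lit 6), (nat_lit 5), (nat_lit 6), (nat_lit 5), (nat_lit 6), (nat_lit 8)], (nat_lit 57), (nat_lit 9), (nat_lit 0), (nat_lit 3)⟩)) (BT.node (nat_lit 56) (BT.leaf ⟨[(nat_lit 6), (nat_lit 1), (nat_lit 5), (nat_lit 2), (nat_lit 6), (nat_lit 2), (nat_lit 6), (nat_lit 5), (nat_lit 6), (nat_lit 1)], (nat_lit 23), (nat_lit 8), (nat_lit 0), (nat_lit 3)⟩) (BT.node (nat_lit 57) (BT.leaf ⟨[(nat_lit 5), (nat_lit 6), (nat_lit 5), (nat_lit 6), (nat_lit 5), (nat_lit 3), (nat_lit 8), (nat_lit 6), (nat_lit 5), (nat_lit 6)], (nat_lit 22), (nat_lit 5), (nat_lit 0), (nat_lit 3)⟩) (BT.leaf ⟨[(nat_lit 6), (nat_lit 5), (nat_lit 6), (nat_lit 5), (nat_lit 6), (nat_lit 8), (nat_lit 3), (nat_lit 5), (nat_lit 6), (nat_lit 5)], (nat_lit 57), (nat_lit 3), (nat_lit 0), (nat_lit 3)⟩)))) (BT.node (nat_lit 61) (BT.node (nat_lit 59) (BT.leaf ⟨[(nat_lit 5), (nat_lit 6), (nat_lit 5), (nat_lit 6), (nat_lit 5), (nat_lit 6), (nat_lit 8), (nat_lit 3), (nat_lit 5), (nat_lit 6)], (nat_lit 57), (nat_lit 2), (nat_lit 0), (nat_lit 3)⟩) (BT.node (nat_lit 60) (BT.leaf ⟨[(nat_lit 5), (nat_lit 6), (nat_lit 5), (nat_lit 1), (nat_lit 5), (nat_lit 1), (nat_lit 6), (nat_lit 2), (nat_lit 5), (nat_lit 2)], (nat_lit 24), (nat_lit 4), (nat_lit 0), (nat_lit 3)⟩) (BT.leaf ⟨[(nat_lit 5), (nat_lit 6), (nat_lit 1), (nat_lit 6), (nat_lit 1), (nat_lit 5), (nat_lit 2), (nat_lit 6), (nat_lit 2), (nat_lit 6)], (nat_lit 23), (nat_lit 5), (nat_lit 0), (nat_lit 3)⟩))) (BT.node (nat_lit 62) (BT.leaf ⟨[(nat_lit 2), (nat_lit 6), (nat_lit 2), (nat_lit 6), (nat_lit 5), (nat_lit 6), (nat_lit 1), (nat_lit 6), (nat_lit 1), (nat_lit 5)], (nat_lit 23), (nat_lit 1), (nat_lit 0), (nat_lit 3)⟩) (BT.node (nat_lit 63) (BT.leaf ⟨[(nat_lit 6), (nat_lit 2), (nat_lit 6), (nat_lit 5), (nat_lit 6), (nat_lit 1), (nat_lit 6), (nat_lit 1), (nat_lit 5), (nat_lit 2)], (nat_lit 23), (nat_lit 2), (nat_lit 0), (nat_lit 3)⟩) (BT.leaf ⟨[(nat_lit 5), (nat_lit 6), (nat_lit 5), (nat_lit 3), (nat_lit 8), (nat_lit 6), (nat_lit 5), (nat_lit 6), (nat_lit 5), (nat_lit 6)], (nat_lit 22), (nat_lit 7), (nat_lit 0), (nat_lit 3)⟩)))))) (BT.node (nat_lit 75) (BT.node (nat_lit 69) (BT.node (nat_lit 66) (BT.node (nat_lit 65) (BT.leaf ⟨[(nat_lit 2), (nat_lit 5), (nat_lit 2), (nat_lit 5), (nat_lit 6), (nat_lit 5), (nat_lit 1), (nat_lit 5), (nat_lit 1), (nat_lit 6)], (nat_lit 24), (nat_lit 1), (nat_lit 0), (nat_lit 3)⟩) (BT.leaf ⟨[(nat_lit 6), (nat_lit 2), (nat_lit 5), (nat_lit 2), (nat_lit 5), (nat_lit 6), (nat_lit 5), (nat_lit 1), (nat_lit 5), (nat_lit 1)], (nat_lit 24), (nat_lit 0), (nat_lit 0), (nat_lit 3)⟩)) (BT.node (nat_lit 67) (BT.leaf ⟨[(nat_lit 1), (nat_lit 5), (nat_lit 2), (nat_lit 6), (nat_lit 2), (nat_lit 6), (nat_lit 5), (nat_lit 6), (nat_lit 1), (nat_lit 6)], (nat_lit 23), (nat_lit 9), (nat_lit 0), (nat_lit 3)⟩) (BT.node (nat_lit 68) (BT.leaf ⟨[(nat_lit 6), (nat_lit 2), (nat_lit 6), (nat_lit 7), (nat_lit 2), (nat_lit 6), (nat_lit 2), (nat_lit 6), (nat_lit 7), (nat_lit 2), (nat_lit 7)], (nat_lit 62), (nat_lit 6), (nat_lit 0), (nat_lit 3)⟩) (BT.leaf ⟨[(nat_lit 2), (nat_lit 6), (nat_lit 7), (nat_lit 2), (nat_lit 7), (nat_lit 6), (nat_lit 2), (nat_lit 6), (nat_lit 7), (nat_lit 2), (nat_lit 6)], (nat_lit 62), (nat_lit 1), (nat_lit 0), (nat_lit 3)⟩)))) (BT.node (nat_lit 72) (BT.node (nat_lit 70) (BT.leaf ⟨[(nat_lit 5), (nat_lit 1), (nat_lit 5), (nat_lit 1), (nat_lit 4), (nat_lit 5), (nat_lit 1), (nat_lit 5), (nat_lit 4), (nat_lit 1), (nat_lit 4)], (nat_lit 26), (nat_lit 8), (nat_lit 0), (nat_lit 3)⟩) (BT.node (nat_lit 71) (BT.leaf ⟨[(nat_lit 5), (nat_lit 2), (nat_lit 5), (nat_lit 4), (nat_lit 2), (nat_lit 5), (nat_lit 2), (nat_lit 5), (nat_lit 4), (nat_lit 2), (nat_lit 4)], (nat_lit 61), (nat_lit 6), (nat_lit 0), (nat_lit 3)⟩) (BT.leaf ⟨[(nat_lit 7), (nat_lit 6), (nat_lit 1), (nat_lit 6), (nat_lit 7), (nat_lit 1), (nat_lit 7), (nat_lit 6), (nat_lit 1), (nat_lit 6), (nat_lit 1)], (nat_lit 27), (nat_lit 1), (nat_lit 0), (nat_lit 3)⟩))) (BT.node (nat_lit 73) (BT.leaf ⟨[(nat_lit 1), (nat_lit 6), (nat_lit 1), (nat_lit 5), (nat_lit 2), (nat_lit 6), (nat_lit 2), (nat_lit 6), (nat_lit 5), (nat_lit 6)], (nat_lit 23), (nat_lit 7), (nat_lit 0), (nat_lit 3)⟩) (BT.node (nat_lit 74) (BT.leaf ⟨[(nat_lit 2), (nat_lit 5), (nat_lit 4), (nat_lit 2), (nat_lit 4), (nat_lit 5), (nat_lit 2), (nat_lit 5), (nat_lit 4), (nat_lit 2), (nat_lit 5)], (nat_lit 61), (nat_lit 1), (nat_lit 0), (nat_lit 3)⟩) (BT.leaf ⟨[(nat_lit 1), (nat_lit 4), (nat_lit 5), (nat_lit 1), (nat_lit 5), (nat_lit 4), (nat_lit 1), (nat_lit 4), (nat_lit 5), (nat_lit 1), (nat_lit 5)], (nat_lit 26), (nat_lit 0), (nat_lit 0), (nat_lit 3)⟩))))) (BT.node (nat_lit 80) (BT.node (nat_lit 77) (BT.node (nat_lit 76) (BT.leaf ⟨[(nat_lit 1), (nat_lit 6), (nat_lit 7), (nat_lit 1), (nat_lit 7), (nat_lit 6), (nat_lit 1), (nat_lit 6), (nat_lit 1), (nat_lit 7), (nat_lit 6)], (nat_lit 27), (nat_lit 3), (nat_lit 0), (nat_lit 3)⟩) (BT.leaf ⟨[(nat_lit 7), (nat_lit 6), (nat_lit 2), (nat_lit 6), (nat_lit 7), (nat_lit 2), (nat_lit 6), (nat_lit 2), (nat_lit 6), (nat_lit 7), (nat_lit 2)], (nat_lit 62), (nat_lit 5), (nat_lit 0), (nat_lit 3)⟩)) (BT.node (nat_lit 78) (BT.leaf ⟨[(nat_lit 2), (nat_lit 4), (nat_lit 5), (nat_lit 2), (nat_lit 5), (nat_lit 4), (nat_lit 2), (nat_lit 5), (nat_lit 2), (nat_lit 5), (nat_lit 4)], (nat_lit 61), (nat_lit 4), (nat_lit 0), (nat_lit 3)⟩) (BT.node (nat_lit 79) (BT.leaf ⟨[(nat_lit 7), (nat_lit 2), (nat_lit 6), (nat_lit 2), (nat_lit 6), (nat_lit 7), (nat_lit 2), (nat_lit 7), (nat_lit 6), (nat_lit 2), (nat_lit 6)], (nat_lit 62), (nat_lit 9), (nat_lit 0), (nat_lit 3)⟩) (BT.leaf ⟨[(nat_lit 4), (nat_lit 2), (nat_lit 5), (nat_lit 2), (nat_lit 5), (nat_lit 4), (nat_lit 2), (nat_lit 4), (nat_lit 5), (nat_lit 2), (nat_lit 5)], (nat_lit 61), (nat_lit 9), (nat_lit 0), (nat_lit 3)⟩)))) (BT.node (nat_lit 83) (BT.node (nat_lit 81) (BT.leaf ⟨[(nat_lit 1), (nat_lit 6), (nat_lit 1), (nat_lit 7), (nat_lit 6), (nat_lit 1), (nat_lit 6), (nat_lit 7), (nat_lit 1), (nat_lit 7), (nat_lit 6)], (nat_lit 27), (nat_lit 9), (nat_lit 0), (nat_lit 3)⟩) (BT.node (nat_lit 82) (BT.leaf ⟨[(nat_lit 1), (nat_lit 7), (nat_lit 6), (nat_lit 1), (nat_lit 6), (nat_lit 7), (nat_lit 1), (nat_lit 7), (nat_lit 6), (nat_lit 1), (nat_lit 6)], (nat_lit 27), (nat_lit 0), (nat_lit 0), (nat_lit 3)⟩) (BT.leaf ⟨[(nat_lit 1), (nat_lit 5), (nat_lit 4), (nat_lit 1), (nat_lit 4), (nat_lit 5), (nat_lit 1), (nat_lit 5), (nat_lit 1), (nat_lit 4), (nat_lit 5)], (nat_lit 26), (nat_lit 3), (nat_lit 0), (nat_lit 3)⟩))) (BT.node (nat_lit 84) (BT.leaf ⟨[(nat_lit 5), (nat_lit 4), (nat_lit 2), (nat_lit 5), (nat_lit 2), (nat_lit 5), (nat_lit 4), (nat_lit 2), (nat_lit 4), (nat_lit 5), (nat_lit 2)], (nat_lit 61), (nat_lit 8), (nat_lit 0), (nat_lit 3)⟩) (BT.node (nat_lit 85) (BT.leaf ⟨[(nat_lit 6), (nat_lit 2), (nat_lit 6), (nat_lit 7), (nat_lit 2), (nat_lit 7), (nat_lit 6), (nat_lit 2), (nat_lit 6), (nat_lit 7), (nat_lit 2)], (nat_lit 62), (nat_lit 0), (nat_lit 0), (nat_lit 3)⟩) (BT.leaf ⟨[(nat_lit 1), (nat_lit 5), (nat_lit 1), (nat_lit 4), (nat_lit 5), (nat_lit 1), (nat_lit 5), (nat_lit 4), (nat_lit 1), (nat_lit 4), (nat_lit 5)], (nat_lit 26), (nat_lit 9), (nat_lit 0), (nat_lit 3)⟩)))))))) (BT.node (nat_lit 129) (BT.node (nat_lit 107) (BT.node (nat_lit 96) (BT.node (nat_lit 91) (BT.node (nat_lit 88) (BT.node (nat_lit 87) (BT.leaf ⟨[(nat_lit 4), (nat_lit 1), (nat_lit 4), (nat_lit 5), (nat_lit 1), (nat_lit 5), (nat_lit 1), (nat_lit 4), (nat_lit 5), (nat_lit 1), (nat_lit 5)], (nat_lit 26), (nat_lit 5), (nat_lit 0), (nat_lit 3)⟩) (BT.leaf ⟨[(nat_lit 6), (nat_lit 7), (nat_lit 2), (nat_lit 6), (nat_lit 2), (nat_lit 6), (nat_lit 7), (nat_lit 2), (nat_lit 7), (nat_lit 6), (nat_lit 2)], (nat_lit 62), (nat_lit 8), (nat_lit 0), (nat_lit 3)⟩)) (BT.node (nat_lit 89) (BT.leaf ⟨[(nat_lit 2), (nat_lit 7), (nat_lit 6), (nat_lit 2), (nat_lit 6), (nat_lit 7), (nat_lit 2), (nat_lit 6), (nat_lit 2), (nat_lit 6), (nat_lit 7)], (nat_lit 62), (nat_lit 4), (nat_lit 0), (nat_lit 3)⟩) (BT.node (nat_lit 90) (BT.leaf ⟨[(nat_lit 4), (nat_lit 5), (nat_lit 1), (nat_lit 5), (nat_lit 4), (nat_lit 1), (nat_lit 4), (nat_lit 5), (nat_lit 1), (nat_lit 5), (nat_lit 1)], (nat_lit 26), (nat_lit 1), (nat_lit 0), (nat_lit 3)⟩) (BT.leaf ⟨[(nat_lit 6), (nat_lit 7), (nat_lit 1), (nat_lit 7), (nat_lit 6), (nat_lit 1), (nat_lit 6), (nat_lit 1), (nat_lit 7), (nat_lit 6), (nat_lit 1)], (nat_lit 27), (nat_lit 4), (nat_lit 0), (nat_lit 3)⟩)))) (BT.node (nat_lit 93) (BT.node (nat_lit 92) (BT.leaf ⟨[(nat_lit 6), (nat_lit 1), (nat_lit 6), (nat_lit 1), (nat_lit 7), (nat_lit 6), (nat_lit 1), (nat_lit 6), (nat_lit 7), (nat_lit 1), (nat_lit 7)], (nat_lit 27), (nat_lit 8), (nat_lit 0), (nat_lit 3)⟩) (BT.leaf ⟨[(nat_lit 5), (nat_lit 2), (nat_lit 6), (nat_lit 2), (nat_lit 6), (nat_lit 5), (nat_lit 6), (nat_lit 1), (nat_lit 6), (nat_lit 1)], (nat_lit 23), (nat_lit 0), (nat_lit 0), (nat_lit 3)⟩)) (BT.node (nat_lit 94) (BT.leaf ⟨[(nat_lit 5), (nat_lit 1), (nat_lit 4), (nat_lit 5), (nat_lit 1), (nat_lit 5), (nat_lit 4), (nat_lit 1), (nat_lit 4), (nat_lit 5), (nat_lit 1)], (nat_lit 26), (nat_lit 10), (nat_lit 0), (nat_lit 3)⟩) (BT.node (nat_lit 95) (BT.leaf ⟨[(nat_lit 5), (nat_lit 1), (nat_lit 5), (nat_lit 4), (nat_lit 1), (nat_lit 4), (nat_lit 5), (nat_lit 1), (nat_lit 5), (nat_lit 1), (nat_lit 4)], (nat_lit 26), (nat_lit 2), (nat_lit 0), (nat_lit 3)⟩) (BT.leaf ⟨[(nat_lit 5), (nat_lit 2), (nat_lit 5), (nat_lit 6), (nat_lit 5), (nat_lit 1), (nat_lit 5), (nat_lit 1), (nat_lit 6), (nat_lit 2)], (nat_lit 24), (nat_lit 2), (nat_lit 0), (nat_lit 3)⟩))))) (BT.node (nat_lit 101) (BT.node (nat_lit 98) (BT.node (nat_lit 97) (BT.leaf ⟨[(nat_lit 6), (nat_lit 1), (nat_lit 7), (nat_lit 6), (nat_lit 1), (nat_lit 6), (nat_lit 7), (nat_lit 1), (nat_lit 7), (nat_lit 6), (nat_lit 1)], (nat_lit 27), (nat_lit 10), (nat_lit 0), (nat_lit 3)⟩) (BT.leaf ⟨[(nat_lit 6), (nat_lit 1), (nat_lit 6), (nat_lit 7), (nat_lit 1), (nat_lit 7), (nat_lit 6), (nat_lit 1), (nat_lit 6), (nat_lit 1), (nat_lit 7)], (nat_lit 27), (nat_lit 2), (nat_lit 0), (nat_lit 3)⟩)) (BT.node (nat_lit 99) (BT.leaf ⟨[(nat_lit 7), (nat_lit 1), (nat_lit 7), (nat_lit 6), (nat_lit 1), (nat_lit 6), (nat_lit 1), (nat_lit 7), (nat_lit 6), (nat_lit 1), (nat_lit 6)], (nat_lit 27), (nat_lit 5), (nat_lit 0), (nat_lit 3)⟩) (BT.node (nat_lit 100) (BT.leaf ⟨[(nat_lit 8), (nat_lit 2), (nat_lit 2), (nat_lit 3)], (nat_lit 21), (nat_lit 1), (nat_lit 0), (nat_lit 3)⟩) (BT.leaf ⟨[(nat_lit 8), (nat_lit 8)], (nat_lit 5), (nat_lit 0), (nat_lit 0), (nat_lit 5)⟩)))) (BT.node (nat_lit 104) (BT.node (nat_lit 102) (BT.leaf ⟨[(nat_lit 4), (nat_lit 8), (nat_lit 4), (nat_lit 8)], (nat_lit 14), (nat_lit 0), (nat_lit 0), (nat_lit 4)⟩) (BT.node (nat_lit 103) (BT.leaf ⟨[(nat_lit 4), (nat_lit 4)], (nat_lit 1), (nat_lit 0), (nat_lit 0), (nat_lit 4)⟩) (BT.leaf ⟨[(nat_lit 5), (nat_lit 3), (nat_lit 5), (nat_lit 3)], (nat_lit 7), (nat_lit 1), (nat_lit 0), (nat_lit 4)⟩))) (BT.node (nat_lit 105) (BT.leaf ⟨[(nat_lit 8), (nat_lit 5), (nat_lit 8), (nat_lit 5)], (nat_lit 17), (nat_lit 1), (nat_lit 0), (nat_lit 5)⟩) (BT.node (nat_lit 106) (BT.leaf ⟨[(nat_lit 0), (nat_lit 2), (nat_lit 3), (nat_lit 8), (nat_lit 2)], (nat_lit 21), (nat_lit 3), (nat_lit 1), (nat_lit 3)⟩) (BT.leaf ⟨[(nat_lit 4), (nat_lit 5), (nat_lit 2), (nat_lit 5), (nat_lit 4), (nat_lit 2), (nat_lit 5), (nat_lit 2), (nat_lit 5), (nat_lit 4), (nat_lit 2)], (nat_lit 61), (nat_lit 5), (nat_lit 0), (nat_lit 3)⟩)))))) (BT.node (nat_lit 118) (BT.node (nat_lit 112) (BT.node (nat_lit 109) (BT.node (nat_lit 108) (BT.leaf ⟨[(nat_lit 6), (nat_lit 3), (nat_lit 6), (nat_lit 3)], (nat_lit 8), (nat_lit 1), (nat_lit 0), (nat_lit 4)⟩) (BT.leaf ⟨[(nat_lit 6), (nat_lit 6)], (nat_lit 3), (nat_lit 0), (nat_lit 0), (nat_lit 4)⟩)) (BT.node (nat_lit 110) (BT.leaf ⟨[(nat_lit 7), (nat_lit 3), (nat_lit 7), (nat_lit 3)], (nat_lit 9), (nat_lit 1), (nat_lit 0), (nat_lit 4)⟩) (BT.node (nat_lit 111) (BT.leaf ⟨[(nat_lit 7), (nat_lit 7)], (nat_lit 4), (nat_lit 0), (nat_lit 0), (nat_lit 4)⟩) (BT.leaf ⟨[(nat_lit 3), (nat_lit 8), (nat_lit 3), (nat_lit 8)], (nat_lit 10), (nat_lit 0), (nat_lit 0), (nat_lit 4)⟩)))) (BT.node (nat_lit 115) (BT.node (nat_lit 113) (BT.leaf ⟨[(nat_lit 3), (nat_lit 3)], (nat_lit 0), (nat_lit 0), (nat_lit 0), (nat_lit 4)⟩) (BT.node (nat_lit 114) (BT.leaf ⟨[(nat_lit 2), (nat_lit 1)], (nat_lit 34), (nat_lit 1), (nat_lit 0), (nat_lit 5)⟩) (BT.leaf ⟨[(nat_lit 4), (nat_lit 4)], (nat_lit 1), (nat_lit 0), (nat_lit 0), (nat_lit 5)⟩))) (BT.node (nat_lit 116) (BT.leaf ⟨[(nat_lit 3), (nat_lit 3)], (nat_lit 0), (nat_lit 0), (nat_lit 0), (nat_lit 5)⟩) (BT.node (nat_lit 117) (BT.leaf ⟨[(nat_lit 2), (nat_lit 3), (nat_lit 8), (nat_lit 2)], (nat_lit 21), (nat_lit 3), (nat_lit 0), (nat_lit 4)⟩) (BT.leaf ⟨[(nat_lit 6), (nat_lit 8), (nat_lit 6), (nat_lit 8)], (nat_lit 19), (nat_lit 0), (nat_lit 0), (nat_lit 4)⟩))))) (BT.node (nat_lit 123) (BT.node (nat_lit 120) (BT.node (nat_lit 119) (BT.leaf ⟨[(nat_lit 8), (nat_lit 2), (nat_lit 2), (nat_lit 3)], (nat_lit 21), (nat_lit 1), (nat_lit 0), (nat_lit 5)⟩) (BT.leaf ⟨[(nat_lit 0), (nat_lit 8), (nat_lit 7), (nat_lit 8), (nat_lit 7), (nat_lit 8), (nat_lit 7)], (nat_lit 20), (nat_lit 1), (nat_lit 1), (nat_lit 3)⟩)) (BT.node (nat_lit 121) (BT.leaf ⟨[(nat_lit 8), (nat_lit 4), (nat_lit 8), (nat_lit 4)], (nat_lit 14), (nat_lit 1), (nat_lit 0), (nat_lit 5)⟩) (BT.node (nat_lit 122) (BT.leaf ⟨[(nat_lit 7), (nat_lit 5), (nat_lit 7), (nat_lit 5)], (nat_lit 16), (nat_lit 1), (nat_lit 0), (nat_lit 4)⟩) (BT.leaf ⟨[(nat_lit 6), (nat_lit 5), (nat_lit 1), (nat_lit 5), (nat_lit 1), (nat_lit 6), (nat_lit 2), (nat_lit 5), (nat_lit 2), (nat_lit 5)], (nat_lit 24), (nat_lit 5), (nat_lit 0), (nat_lit 5)⟩)))) (BT.node (nat_lit 126) (BT.node (nat_lit 124) (BT.leaf ⟨[(nat_lit 4), (nat_lit 5), (nat_lit 1), (nat_lit 5), (nat_lit 1), (nat_lit 4), (nat_lit 5), (nat_lit 1), (nat_lit 5), (nat_lit 4), (nat_lit 1)], (nat_lit 26), (nat_lit 7), (nat_lit 0), (nat_lit 4)⟩) (BT.node (nat_lit 125) (BT.leaf ⟨[(nat_lit 6), (nat_lit 4), (nat_lit 6), (nat_lit 4)], (nat_lit 12), (nat_lit 1), (nat_lit 0), (nat_lit 4)⟩) (BT.leaf ⟨[(nat_lit 7), (nat_lit 4), (nat_lit 7), (nat_lit 4)], (nat_lit 13), (nat_lit 1), (nat_lit 0), (nat_lit 4)⟩))) (BT.node (nat_lit 127) (BT.leaf ⟨[(nat_lit 8), (nat_lit 4), (nat_lit 8), (nat_lit 4)], (nat_lit 14), (nat_lit 1), (nat_lit 0), (nat_lit 4)⟩) (BT.node (nat_lit 128) (BT.leaf ⟨[(nat_lit 3), (nat_lit 8), (nat_lit 2), (nat_lit 2)], (nat_lit 21), (nat_lit 0), (nat_lit 0), (nat_lit 5)⟩) (BT.leaf ⟨[(nat_lit 3), (nat_lit 8), (nat_lit 2), (nat_lit 2)], (nat_lit 21), (nat_lit 0), (nat_lit 0), (nat_lit 3)⟩))))))) (BT.node (nat_lit 151) (BT.node (nat_lit 140) (BT.node (nat_lit 134) (BT.node (nat_lit 131) (BT.node (nat_lit 130) (BT.leaf ⟨[(nat_lit 0), (nat_lit 5), (nat_lit 3), (nat_lit 5), (nat_lit 3)], (nat_lit 7), (nat_lit 1), (nat_lit 1), (nat_lit 3)⟩) (BT.leaf ⟨[(nat_lit 4), (nat_lit 5), (nat_lit 4), (nat_lit 5), (nat_lit 4), (nat_lit 5)], (nat_lit 11), (nat_lit 0), (nat_lit 0), (nat_lit 5)⟩)) (BT.node (nat_lit 132) (BT.leaf ⟨[(nat_lit 3), (nat_lit 4), (nat_lit 3), (nat_lit 4), (nat_lit 3), (nat_lit 4)], (nat_lit 6), (nat_lit 0), (nat_lit 0), (nat_lit 3)⟩) (BT.node (nat_lit 133) (BT.leaf ⟨[(nat_lit 6), (nat_lit 5), (nat_lit 6), (nat_lit 5), (nat_lit 3), (nat_lit 8), (nat_lit 6), (nat_lit 5), (nat_lit 6), (nat_lit 5)], (nat_lit 22), (nat_lit 6), (nat_lit 0), (nat_lit 5)⟩) (BT.leaf ⟨[(nat_lit 5), (nat_lit 2), (nat_lit 6), (nat_lit 2), (nat_lit 6), (nat_lit 5), (nat_lit 6), (nat_lit 1), (nat_lit 6), (nat_lit 1)], (nat_lit 23), (nat_lit 0), (nat_lit 0), (nat_lit 5)⟩)))) (BT.node (nat_lit 137) (BT.node (nat_lit 135) (BT.leaf ⟨[(nat_lit 1), (nat_lit 6), (nat_lit 2), (nat_lit 5), (nat_lit 2), (nat_lit 5), (nat_lit 6), (nat_lit 5), (nat_lit 1), (nat_lit 5)], (nat_lit 24), (nat_lit 9), (nat_lit 0), (nat_lit 5)⟩) (BT.node (nat_lit 136) (BT.leaf ⟨[(nat_lit 6), (nat_lit 5), (nat_lit 3), (nat_lit 8), (nat_lit 6), (nat_lit 5), (nat_lit 6), (nat_lit 5), (nat_lit 6), (nat_lit 5)], (nat_lit 22), (nat_lit 8), (nat_lit 0), (nat_lit 3)⟩) (BT.leaf ⟨[(nat_lit 5), (nat_lit 2), (nat_lit 5), (nat_lit 4), (nat_lit 2), (nat_lit 4), (nat_lit 5), (nat_lit 2), (nat_lit 5), (nat_lit 4), (nat_lit 2)], (nat_lit 61), (nat_lit 0), (nat_lit 0), (nat_lit 3)⟩))) (BT.node (nat_lit 138) (BT.leaf ⟨[(nat_lit 4), (nat_lit 5), (nat_lit 1), (nat_lit 5), (nat_lit 1), (nat_lit 4), (nat_lit 5), (nat_lit 1), (nat_lit 5), (nat_lit 4), (nat_lit 1)], (nat_lit 26), (nat_lit 7), (nat_lit 0), (nat_lit 3)⟩) (BT.node (nat_lit 139) (BT.leaf ⟨[(nat_lit 0), (nat_lit 3), (nat_lit 4), (nat_lit 3), (nat_lit 4), (nat_lit 3), (nat_lit 4)], (nat_lit 6), (nat_lit 0), (nat_lit 1), (nat_lit 3)⟩) (BT.leaf ⟨[(nat_lit 3), (nat_lit 7), (nat_lit 3), (nat_lit 7)], (nat_lit 9), (nat_lit 0), (nat_lit 0), (nat_lit 5)⟩))))) (BT.node (nat_lit 145) (BT.node (nat_lit 142) (BT.node (nat_lit 141) (BT.leaf ⟨[(nat_lit 6), (nat_lit 7), (nat_lit 2), (nat_lit 7), (nat_lit 6), (nat_lit 2), (nat_lit 6), (nat_lit 7), (nat_lit 2), (nat_lit 6), (nat_lit 2)], (nat_lit 62), (nat_lit 2), (nat_lit 0), (nat_lit 3)⟩) (BT.leaf ⟨[(nat_lit 2), (nat_lit 5), (nat_lit 2), (nat_lit 5), (nat_lit 4), (nat_lit 2), (nat_lit 4), (nat_lit 5), (nat_lit 2), (nat_lit 5), (nat_lit 4)], (nat_lit 61), (nat_lit 10), (nat_lit 0), (nat_lit 3)⟩)) (BT.node (nat_lit 143) (BT.leaf ⟨[(nat_lit 1), (nat_lit 7), (nat_lit 6), (nat_lit 1), (nat_lit 6), (nat_lit 1), (nat_lit 7), (nat_lit 6), (nat_lit 1), (nat_lit 6), (nat_lit 7)], (nat_lit 27), (nat_lit 6), (nat_lit 0), (nat_lit 3)⟩) (BT.node (nat_lit 144) (BT.leaf ⟨[(nat_lit 8), (nat_lit 3), (nat_lit 1), (nat_lit 1)], (nat_lit 56), (nat_lit 2), (nat_lit 0), (nat_lit 4)⟩) (BT.leaf ⟨[(nat_lit 8), (nat_lit 8)], (nat_lit 5), (nat_lit 0), (nat_lit 0), (nat_lit 4)⟩)))) (BT.node (nat_lit 148) (BT.node (nat_lit 146) (BT.leaf ⟨[(nat_lit 3), (nat_lit 8), (nat_lit 3), (nat_lit 8)], (nat_lit 10), (nat_lit 0), (nat_lit 0), (nat_lit 5)⟩) (BT.node (nat_lit 147) (BT.leaf ⟨[(nat_lit 7), (nat_lit 8), (nat_lit 7), (nat_lit 8), (nat_lit 7), (nat_lit 8)], (nat_lit 20), (nat_lit 0), (nat_lit 0), (nat_lit 5)⟩) (BT.leaf ⟨[(nat_lit 1), (nat_lit 8), (nat_lit 3), (nat_lit 1)], (nat_lit 56), (nat_lit 1), (nat_lit 0), (nat_lit 4)⟩))) (BT.node (nat_lit 149) (BT.leaf ⟨[(nat_lit 2), (nat_lit 1)], (nat_lit 34), (nat_lit 1), (nat_lit 0), (nat_lit 4)⟩) (BT.node (nat_lit 150) (BT.leaf ⟨[(nat_lit 1), (nat_lit 2)], (nat_lit 34), (nat_lit 0), (nat_lit 0), (nat_lit 4)⟩) (BT.leaf ⟨[(nat_lit 4), (nat_lit 7), (nat_lit 4), (nat_lit 7)], (nat_lit 13), (nat_lit 0), (nat_lit 0), (nat_lit 4)⟩)))))) (BT.node (nat_lit 162) (BT.node (nat_lit 156) (BT.node (nat_lit 153) (BT.node (nat_lit 152) (BT.leaf ⟨[(nat_lit 5), (nat_lit 5)], (nat_lit 2), (nat_lit 0), (nat_lit 0), (nat_lit 4)⟩) (BT.leaf ⟨[(nat_lit 5), (nat_lit 7), (nat_lit 5), (nat_lit 7)], (nat_lit 16), (nat_lit 0), (nat_lit 0), (nat_lit 4)⟩)) (BT.node (nat_lit 154) (BT.leaf ⟨[(nat_lit 5), (nat_lit 8), (nat_lit 5), (nat_lit 8)], (nat_lit 17), (nat_lit 0), (nat_lit 0), (nat_lit 4)⟩) (BT.node (nat_lit 155) (BT.leaf ⟨[(nat_lit 1), (nat_lit 1), (nat_lit 8), (nat_lit 3)], (nat_lit 56), (nat_lit 0), (nat_lit 0), (nat_lit 5)⟩) (BT.leaf ⟨[(nat_lit 1), (nat_lit 2)], (nat_lit 34), (nat_lit 0), (nat_lit 0), (nat_lit 5)⟩)))) (BT.node (nat_lit 159) (BT.node (nat_lit 157) (BT.leaf ⟨[(nat_lit 1), (nat_lit 1), (nat_lit 8), (nat_lit 3)], (nat_lit 56), (nat_lit 0), (nat_lit 0), (nat_lit 4)⟩) (BT.node (nat_lit 158) (BT.leaf ⟨[(nat_lit 2), (nat_lit 3), (nat_lit 8), (nat_lit 2)], (nat_lit 21), (nat_lit 3), (nat_lit 0), (nat_lit 5)⟩) (BT.leaf ⟨[(nat_lit 5), (nat_lit 6), (nat_lit 1), (nat_lit 4), (nat_lit 5), (nat_lit 6), (nat_lit 1), (nat_lit 4), (nat_lit 5), (nat_lit 6), (nat_lit 1), (nat_lit 4), (nat_lit 5), (nat_lit 6), (nat_lit 1), (nat_lit 4), (nat_lit 5), (nat_lit 6), (nat_lit 1), (nat_lit 4)], (nat_lit 25), (nat_lit 1), (nat_lit 0), (nat_lit 3)⟩))) (BT.node (nat_lit 160) (BT.leaf ⟨[(nat_lit 3), (nat_lit 6), (nat_lit 3), (nat_lit 6)], (nat_lit 8), (nat_lit 0), (nat_lit 0), (nat_lit 4)⟩) (BT.node (nat_lit 161) (BT.leaf ⟨[(nat_lit 8), (nat_lit 6), (nat_lit 8), (nat_lit 6)], (nat_lit 19), (nat_lit 1), (nat_lit 0), (nat_lit 5)⟩) (BT.leaf ⟨[(nat_lit 5), (nat_lit 4), (nat_lit 1), (nat_lit 4), (nat_lit 5), (nat_lit 1), (nat_lit 5), (nat_lit 1), (nat_lit 4), (nat_lit 5), (nat_lit 1)], (nat_lit 26), (nat_lit 4), (nat_lit 0), (nat_lit 5)⟩))))) (BT.node (nat_lit 167) (BT.node (nat_lit 164) (BT.node (nat_lit 163) (BT.leaf ⟨[(nat_lit 0), (nat_lit 5), (nat_lit 2), (nat_lit 5), (nat_lit 4), (nat_lit 2), (nat_lit 4), (nat_lit 5), (nat_lit 2), (nat_lit 5), (nat_lit 4), (nat_lit 2)], (nat_lit 61), (nat_lit 0), (nat_lit 1), (nat_lit 5)⟩) (BT.leaf ⟨[(nat_lit 5), (nat_lit 5)], (nat_lit 2), (nat_lit 0), (nat_lit 0), (nat_lit 5)⟩)) (BT.node (nat_lit 165) (BT.leaf ⟨[(nat_lit 1), (nat_lit 8), (nat_lit 3), (nat_lit 1)], (nat_lit 56), (nat_lit 1), (nat_lit 0), (nat_lit 5)⟩) (BT.node (nat_lit 166) (BT.leaf ⟨[(nat_lit 8), (nat_lit 3), (nat_lit 1), (nat_lit 1)], (nat_lit 56), (nat_lit 2), (nat_lit 0), (nat_lit 5)⟩) (BT.leaf ⟨[(nat_lit 3), (nat_lit 1), (nat_lit 1), (nat_lit 8)], (nat_lit 56), (nat_lit 3), (nat_lit 0), (nat_lit 4)⟩)))) (BT.node (nat_lit 170) (BT.node (nat_lit 168) (BT.leaf ⟨[(nat_lit 0), (nat_lit 1), (nat_lit 5), (nat_lit 4), (nat_lit 1), (nat_lit 4), (nat_lit 5), (nat_lit 1), (nat_lit 5), (nat_lit 1), (nat_lit 4), (nat_lit 5)], (nat_lit 26), (nat_lit 3), (nat_lit 1), (nat_lit 3)⟩) (BT.node (nat_lit 169) (BT.leaf ⟨[(nat_lit 0), (nat_lit 2), (nat_lit 2), (nat_lit 3), (nat_lit 8)], (nat_lit 21), (nat_lit 2), (nat_lit 1), (nat_lit 4)⟩) (BT.leaf ⟨[(nat_lit 4), (nat_lit 8), (nat_lit 4), (nat_lit 8)], (nat_lit 14), (nat_lit 0), (nat_lit 0), (nat_lit 5)⟩))) (BT.node (nat_lit 171) (BT.leaf ⟨[(nat_lit 4), (nat_lit 6), (nat_lit 4), (nat_lit 6)], (nat_lit 12), (nat_lit 0), (nat_lit 0), (nat_lit 5)⟩) (BT.node (nat_lit 172) (BT.leaf ⟨[(nat_lit 4), (nat_lit 7), (nat_lit 4), (nat_lit 7)], (nat_lit 13), (nat_lit 0), (nat_lit 0), (nat_lit 5)⟩) (BT.leaf ⟨[(nat_lit 3), (nat_lit 6), (nat_lit 3), (nat_lit 6)], (nat_lit 8), (nat_lit 0), (nat_lit 0), (nat_lit 5)⟩))))))))) (BT.node (nat_lit 260) (BT.node (nat_lit 216) (BT.node (nat_lit 194) (BT.node (nat_lit 183) (BT.node (nat_lit 178) (BT.node (nat_lit 175) (BT.node (nat_lit 174) (BT.leaf ⟨[(nat_lit 2), (nat_lit 2), (nat_lit 3), (nat_lit 8)], (nat_lit 21), (nat_lit 2), (nat_lit 0), (nat_lit 5)⟩) (BT.leaf ⟨[(nat_lit 7), (nat_lit 3), (nat_lit 7), (nat_lit 3)], (nat_lit 9), (nat_lit 1), (nat_lit 0), (nat_lit 5)⟩)) (BT.node (nat_lit 176) (BT.leaf ⟨[(nat_lit 7), (nat_lit 5), (nat_lit 7), (nat_lit 5)], (nat_lit 16), (nat_lit 1), (nat_lit 0), (nat_lit 5)⟩) (BT.node (nat_lit 177) (BT.leaf ⟨[(nat_lit 3), (nat_lit 5), (nat_lit 3), (nat_lit 5)], (nat_lit 7), (nat_lit 0), (nat_lit 0), (nat_lit 5)⟩) (BT.leaf ⟨[(nat_lit 5), (nat_lit 4), (nat_lit 5), (nat_lit 4), (nat_lit 5), (nat_lit 4)], (nat_lit 11), (nat_lit 1), (nat_lit 0), (nat_lit 5)⟩)))) (BT.node (nat_lit 180) (BT.node (nat_lit 179) (BT.leaf ⟨[(nat_lit 0), (nat_lit 4), (nat_lit 3), (nat_lit 4), (nat_lit 3), (nat_lit 4), (nat_lit 3)], (nat_lit 6), (nat_lit 1), (nat_lit 1), (nat_lit 5)⟩) (BT.leaf ⟨[(nat_lit 6), (nat_lit 7), (nat_lit 6), (nat_lit 7), (nat_lit 6), (nat_lit 7)], (nat_lit 18), (nat_lit 0), (nat_lit 0), (nat_lit 5)⟩)) (BT.node (nat_lit 181) (BT.leaf ⟨[(nat_lit 4), (nat_lit 3), (nat_lit 4), (nat_lit 3), (nat_lit 4), (nat_lit 3)], (nat_lit 6), (nat_lit 1), (nat_lit 0), (nat_lit 5)⟩) (BT.node (nat_lit 182) (BT.leaf ⟨[(nat_lit 6), (nat_lit 5), (nat_lit 6), (nat_lit 1), (nat_lit 6), (nat_lit 1), (nat_lit 5), (nat_lit 2), (nat_lit 6), (nat_lit 2)], (nat_lit 23), (nat_lit 4), (nat_lit 0), (nat_lit 5)⟩) (BT.leaf ⟨[(nat_lit 1), (nat_lit 5), (nat_lit 1), (nat_lit 6), (nat_lit 2), (nat_lit 5), (nat_lit 2), (nat_lit 5), (nat_lit 6), (nat_lit 5)], (nat_lit 24), (nat_lit 7), (nat_lit 0), (nat_lit 5)⟩))))) (BT.node (nat_lit 188) (BT.node (nat_lit 185) (BT.node (nat_lit 184) (BT.leaf ⟨[(nat_lit 5), (nat_lit 1), (nat_lit 6), (nat_lit 2), (nat_lit 5), (nat_lit 2), (nat_lit 5), (nat_lit 6), (nat_lit 5), (nat_lit 1)], (nat_lit 24), (nat_lit 8), (nat_lit 0), (nat_lit 3)⟩) (BT.leaf ⟨[(nat_lit 1), (nat_lit 6), (nat_lit 1), (nat_lit 5), (nat_lit 2), (nat_lit 6), (nat_lit 2), (nat_lit 6), (nat_lit 5), (nat_lit 6)], (nat_lit 23), (nat_lit 7), (nat_lit 0), (nat_lit 5)⟩)) (BT.node (nat_lit 186) (BT.leaf ⟨[(nat_lit 5), (nat_lit 1), (nat_lit 6), (nat_lit 2), (nat_lit 5), (nat_lit 2), (nat_lit 5), (nat_lit 6), (nat_lit 5), (nat_lit 1)], (nat_lit 24), (nat_lit 8), (nat_lit 0), (nat_lit 5)⟩) (BT.node (nat_lit 187) (BT.leaf ⟨[(nat_lit 6), (nat_lit 1), (nat_lit 6), (nat_lit 1), (nat_lit 5), (nat_lit 2), (nat_lit 6), (nat_lit 2), (nat_lit 6), (nat_lit 5)], (nat_lit 23), (nat_lit 6), (nat_lit 0), (nat_lit 5)⟩) (BT.leaf ⟨[(nat_lit 6), (nat_lit 2), (nat_lit 6), (nat_lit 5), (nat_lit 6), (nat_lit 1), (nat_lit 6), (nat_lit 1), (nat_lit 5), (nat_lit 2)], (nat_lit 23), (nat_lit 2), (nat_lit 0), (nat_lit 5)⟩)))) (BT.node (nat_lit 191) (BT.node (nat_lit 189) (BT.leaf ⟨[(nat_lit 6), (nat_lit 5), (nat_lit 6), (nat_lit 5), (nat_lit 6), (nat_lit 8), (nat_lit 3), (nat_lit 5), (nat_lit 6), (nat_lit 5)], (nat_lit 57), (nat_lit 3), (nat_lit 0), (nat_lit 5)⟩) (BT.node (nat_lit 190) (BT.leaf ⟨[(nat_lit 1), (nat_lit 5), (nat_lit 2), (nat_lit 6), (nat_lit 2), (nat_lit 6), (nat_lit 5), (nat_lit 6), (nat_lit 1), (nat_lit 6)], (nat_lit 23), (nat_lit 9), (nat_lit 0), (nat_lit 5)⟩) (BT.leaf ⟨[(nat_lit 2), (nat_lit 5), (nat_lit 6), (nat_lit 5), (nat_lit 1), (nat_lit 5), (nat_lit 1), (nat_lit 6), (nat_lit 2), (nat_lit 5)], (nat_lit 24), (nat_lit 3), (nat_lit 0), (nat_lit 5)⟩))) (BT.node (nat_lit 192) (BT.leaf ⟨[(nat_lit 6), (nat_lit 5), (nat_lit 6), (nat_lit 5), (nat_lit 6), (nat_lit 5), (nat_lit 3), (nat_lit 8), (nat_lit 6), (nat_lit 5)], (nat_lit 22), (nat_lit 4), (nat_lit 0), (nat_lit 5)⟩) (BT.node (nat_lit 193) (BT.leaf ⟨[(nat_lit 5), (nat_lit 6), (nat_lit 5), (nat_lit 6), (nat_lit 5), (nat_lit 3), (nat_lit 8), (nat_lit 6), (nat_lit 5), (nat_lit 6)], (nat_lit 22), (nat_lit 5), (nat_lit 0), (nat_lit 5)⟩) (BT.leaf ⟨[(nat_lit 2), (nat_lit 6), (nat_lit 5), (nat_lit 6), (nat_lit 1), (nat_lit 6), (nat_lit 1), (nat_lit 5), (nat_lit 2), (nat_lit 6)], (nat_lit 23), (nat_lit 3), (nat_lit 0), (nat_lit 5)⟩)))))) (BT.node (nat_lit 205) (BT.node (nat_lit 199) (BT.node (nat_lit 196) (BT.node (nat_lit 195) (BT.leaf ⟨[(nat_lit 6), (nat_lit 5), (nat_lit 1), (nat_lit 5), (nat_lit 1), (nat_lit 6), (nat_lit 2), (nat_lit 5), (nat_lit 2), (nat_lit 5)], (nat_lit 24), (nat_lit 5), (nat_lit 0), (nat_lit 3)⟩) (BT.leaf ⟨[(nat_lit 5), (nat_lit 1), (nat_lit 5), (nat_lit 1), (nat_lit 6), (nat_lit 2), (nat_lit 5), (nat_lit 2), (nat_lit 5), (nat_lit 6)], (nat_lit 24), (nat_lit 6), (nat_lit 0), (nat_lit 3)⟩)) (BT.node (nat_lit 197) (BT.leaf ⟨[(nat_lit 6), (nat_lit 1), (nat_lit 6), (nat_lit 1), (nat_lit 5), (nat_lit 2), (nat_lit 6), (nat_lit 2), (nat_lit 6), (nat_lit 5)], (nat_lit 23), (nat_lit 6), (nat_lit 0), (nat_lit 3)⟩) (BT.node (nat_lit 198) (BT.leaf ⟨[(nat_lit 5), (nat_lit 3), (nat_lit 8), (nat_lit 6), (nat_lit 5), (nat_lit 6), (nat_lit 5), (nat_lit 6), (nat_lit 5), (nat_lit 6)], (nat_lit 22), (nat_lit 9), (nat_lit 0), (nat_lit 3)⟩) (BT.leaf ⟨[(nat_lit 6), (nat_lit 5), (nat_lit 6), (nat_lit 8), (nat_lit 3), (nat_lit 5), (nat_lit 6), (nat_lit 5), (nat_lit 6), (nat_lit 5)], (nat_lit 57), (nat_lit 5), (nat_lit 0), (nat_lit 3)⟩)))) (BT.node (nat_lit 202) (BT.node (nat_lit 200) (BT.leaf ⟨[(nat_lit 1), (nat_lit 5), (nat_lit 4), (nat_lit 1), (nat_lit 4), (nat_lit 5), (nat_lit 1), (nat_lit 5), (nat_lit 1), (nat_lit 4), (nat_lit 5)], (nat_lit 26), (nat_lit 3), (nat_lit 0), (nat_lit 5)⟩) (BT.node (nat_lit 201) (BT.leaf ⟨[(nat_lit 2), (nat_lit 5), (nat_lit 4), (nat_lit 2), (nat_lit 5), (nat_lit 2), (nat_lit 5), (nat_lit 4), (nat_lit 2), (nat_lit 4), (nat_lit 5)], (nat_lit 61), (nat_lit 7), (nat_lit 0), (nat_lit 5)⟩) (BT.leaf ⟨[(nat_lit 2), (nat_lit 4), (nat_lit 5), (nat_lit 2), (nat_lit 5), (nat_lit 4), (nat_lit 2), (nat_lit 5), (nat_lit 2), (nat_lit 5), (nat_lit 4)], (nat_lit 61), (nat_lit 4), (nat_lit 0), (nat_lit 5)⟩))) (BT.node (nat_lit 203) (BT.leaf ⟨[(nat_lit 2), (nat_lit 6), (nat_lit 5), (nat_lit 6), (nat_lit 1), (nat_lit 6), (nat_lit 1), (nat_lit 5), (nat_lit 2), (nat_lit 6)], (nat_lit 23), (nat_lit 3), (nat_lit 0), (nat_lit 3)⟩) (BT.node (nat_lit 204) (BT.leaf ⟨[(nat_lit 6), (nat_lit 2), (nat_lit 6), (nat_lit 7), (nat_lit 2), (nat_lit 6), (nat_lit 2), (nat_lit 6), (nat_lit 7), (nat_lit 2), (nat_lit 7)], (nat_lit 62), (nat_lit 6), (nat_lit 0), (nat_lit 5)⟩) (BT.leaf ⟨[(nat_lit 2), (nat_lit 6), (nat_lit 7), (nat_lit 2), (nat_lit 7), (nat_lit 6), (nat_lit 2), (nat_lit 6), (nat_lit 7), (nat_lit 2), (nat_lit 6)], (nat_lit 62), (nat_lit 1), (nat_lit 0), (nat_lit 5)⟩))))) (BT.node (nat_lit 210) (BT.node (nat_lit 207) (BT.node (nat_lit 206) (BT.leaf ⟨[(nat_lit 2), (nat_lit 6), (nat_lit 7), (nat_lit 2), (nat_lit 6), (nat_lit 2), (nat_lit 6), (nat_lit 7), (nat_lit 2), (nat_lit 7), (nat_lit 6)], (nat_lit 62), (nat_lit 7), (nat_lit 0), (nat_lit 5)⟩) (BT.leaf ⟨[(nat_lit 0), (nat_lit 1), (nat_lit 7), (nat_lit 6), (nat_lit 1), (nat_lit 6), (nat_lit 1), (nat_lit 7), (nat_lit 6), (nat_lit 1), (nat_lit 6), (nat_lit 7)], (nat_lit 27), (nat_lit 6), (nat_lit 1), (nat_lit 5)⟩)) (BT.node (nat_lit 208) (BT.leaf ⟨[(nat_lit 6), (nat_lit 1), (nat_lit 6), (nat_lit 7), (nat_lit 1), (nat_lit 7), (nat_lit 6), (nat_lit 1), (nat_lit 6), (nat_lit 1), (nat_lit 7)], (nat_lit 27), (nat_lit 2), (nat_lit 0), (nat_lit 5)⟩) (BT.node (nat_lit 209) (BT.leaf ⟨[(nat_lit 7), (nat_lit 1), (nat_lit 7), (nat_lit 6), (nat_lit 1), (nat_lit 6), (nat_lit 1), (nat_lit 7), (nat_lit 6), (nat_lit 1), (nat_lit 6)], (nat_lit 27), (nat_lit 5), (nat_lit 0), (nat_lit 5)⟩) (BT.leaf ⟨[(nat_lit 7), (nat_lit 4), (nat_lit 7), (nat_lit 4)], (nat_lit 13), (nat_lit 1), (nat_lit 0), (nat_lit 5)⟩)))) (BT.node (nat_lit 213) (BT.node (nat_lit 211) (BT.leaf ⟨[(nat_lit 6), (nat_lit 7), (nat_lit 2), (nat_lit 6), (nat_lit 2), (nat_lit 6), (nat_lit 7), (nat_lit 2), (nat_lit 7), (nat_lit 6), (nat_lit 2)], (nat_lit 62), (nat_lit 8), (nat_lit 0), (nat_lit 5)⟩) (BT.node (nat_lit 212) (BT.leaf ⟨[(nat_lit 6), (nat_lit 2), (nat_lit 6), (nat_lit 7), (nat_lit 2), (nat_lit 7), (nat_lit 6), (nat_lit 2), (nat_lit 6), (nat_lit 7), (nat_lit 2)], (nat_lit 62), (nat_lit 0), (nat_lit 0), (nat_lit 5)⟩) (BT.leaf ⟨[(nat_lit 2), (nat_lit 7), (nat_lit 6), (nat_lit 2), (nat_lit 6), (nat_lit 7), (nat_lit 2), (nat_lit 6), (nat_lit 2), (nat_lit 6), (nat_lit 7)], (nat_lit 62), (nat_lit 4), (nat_lit 0), (nat_lit 5)⟩))) (BT.node (nat_lit 214) (BT.leaf ⟨[(nat_lit 7), (nat_lit 6), (nat_lit 2), (nat_lit 6), (nat_lit 7), (nat_lit 2), (nat_lit 6), (nat_lit 2), (nat_lit 6), (nat_lit 7), (nat_lit 2)], (nat_lit 62), (nat_lit 5), (nat_lit 0), (nat_lit 5)⟩) (BT.node (nat_lit 215) (BT.leaf ⟨[(nat_lit 1), (nat_lit 6), (nat_lit 1), (nat_lit 7), (nat_lit 6), (nat_lit 1), (nat_lit 6), (nat_lit 7), (nat_lit 1), (nat_lit 7), (nat_lit 6)], (nat_lit 27), (nat_lit 9), (nat_lit 0), (nat_lit 5)⟩) (BT.leaf ⟨[(nat_lit 0), (nat_lit 7), (nat_lit 6), (nat_lit 1), (nat_lit 6), (nat_lit 1), (nat_lit 7), (nat_lit 6), (nat_lit 1), (nat_lit 6), (nat_lit 7), (nat_lit 1)], (nat_lit 27), (nat_lit 7), (nat_lit 1), (nat_lit 5)⟩))))))) (BT.node (nat_lit 238) (BT.node (nat_lit 227) (BT.node (nat_lit 221) (BT.node (nat_lit 218) (BT.node (nat_lit 217) (BT.leaf ⟨[(nat_lit 6), (nat_lit 7), (nat_lit 1), (nat_lit 7), (nat_lit 6), (nat_lit 1), (nat_lit 6), (nat_lit 1), (nat_lit 7), (nat_lit 6), (nat_lit 1)], (nat_lit 27), (nat_lit 4), (nat_lit 0), (nat_lit 5)⟩) (BT.leaf ⟨[(nat_lit 6), (nat_lit 5), (nat_lit 6), (nat_lit 1), (nat_lit 6), (nat_lit 1), (nat_lit 5), (nat_lit 2), (nat_lit 6), (nat_lit 2)], (nat_lit 23), (nat_lit 4), (nat_lit 0), (nat_lit 3)⟩)) (BT.node (nat_lit 219) (BT.leaf ⟨[(nat_lit 7), (nat_lit 6), (nat_lit 1), (nat_lit 6), (nat_lit 1), (nat_lit 7), (nat_lit 6), (nat_lit 1), (nat_lit 6), (nat_lit 7), (nat_lit 1)], (nat_lit 27), (nat_lit 7), (nat_lit 0), (nat_lit 3)⟩) (BT.node (nat_lit 220) (BT.leaf ⟨[(nat_lit 0), (nat_lit 5), (nat_lit 1), (nat_lit 5), (nat_lit 4), (nat_lit 1), (nat_lit 4), (nat_lit 5), (nat_lit 1), (nat_lit 5), (nat_lit 1), (nat_lit 4)], (nat_lit 26), (nat_lit 2), (nat_lit 1), (nat_lit 5)⟩) (BT.leaf ⟨[(nat_lit 1), (nat_lit 4), (nat_lit 5), (nat_lit 1), (nat_lit 5), (nat_lit 1), (nat_lit 4), (nat_lit 5), (nat_lit 1), (nat_lit 5), (nat_lit 4)], (nat_lit 26), (nat_lit 6), (nat_lit 0), (nat_lit 5)⟩)))) (BT.node (nat_lit 224) (BT.node (nat_lit 222) (BT.leaf ⟨[(nat_lit 0), (nat_lit 6), (nat_lit 1), (nat_lit 6), (nat_lit 7), (nat_lit 1), (nat_lit 7), (nat_lit 6), (nat_lit 1), (nat_lit 6), (nat_lit 1), (nat_lit 7)], (nat_lit 27), (nat_lit 2), (nat_lit 1), (nat_lit 5)⟩) (BT.node (nat_lit 223) (BT.leaf ⟨[(nat_lit 1), (nat_lit 6), (nat_lit 7), (nat_lit 1), (nat_lit 7), (nat_lit 6), (nat_lit 1), (nat_lit 6), (nat_lit 1), (nat_lit 7), (nat_lit 6)], (nat_lit 27), (nat_lit 3), (nat_lit 0), (nat_lit 5)⟩) (BT.leaf ⟨[(nat_lit 0), (nat_lit 2), (nat_lit 7), (nat_lit 6), (nat_lit 2), (nat_lit 6), (nat_lit 7), (nat_lit 2), (nat_lit 6), (nat_lit 2), (nat_lit 6), (nat_lit 7)], (nat_lit 62), (nat_lit 4), (nat_lit 1), (nat_lit 5)⟩))) (BT.node (nat_lit 225) (BT.leaf ⟨[(nat_lit 0), (nat_lit 1), (nat_lit 7), (nat_lit 6), (nat_lit 1), (nat_lit 6), (nat_lit 1), (nat_lit 7), (nat_lit 6), (nat_lit 1), (nat_lit 6), (nat_lit 7)], (nat_lit 27), (nat_lit 6), (nat_lit 1), (nat_lit 3)⟩) (BT.node (nat_lit 226) (BT.leaf ⟨[(nat_lit 0), (nat_lit 7), (nat_lit 8), (nat_lit 7), (nat_lit 8), (nat_lit 7), (nat_lit 8)], (nat_lit 20), (nat_lit 0), (nat_lit 1), (nat_lit 5)⟩) (BT.leaf ⟨[(nat_lit 0), (nat_lit 5), (nat_lit 2), (nat_lit 5), (nat_lit 4), (nat_lit 2), (nat_lit 5), (nat_lit 2), (nat_lit 5), (nat_lit 4), (nat_lit 2), (nat_lit 4)], (nat_lit 61), (nat_lit 6), (nat_lit 1), (nat_lit 5)⟩))))) (BT.node (nat_lit 232) (BT.node (nat_lit 229) (BT.node (nat_lit 228) (BT.leaf ⟨[(nat_lit 4), (nat_lit 5), (nat_lit 2), (nat_lit 5), (nat_lit 4), (nat_lit 2), (nat_lit 5), (nat_lit 2), (nat_lit 5), (nat_lit 4), (nat_lit 2)], (nat_lit 61), (nat_lit 5), (nat_lit 0), (nat_lit 5)⟩) (BT.leaf ⟨[(nat_lit 4), (nat_lit 1), (nat_lit 4), (nat_lit 5), (nat_lit 1), (nat_lit 5), (nat_lit 1), (nat_lit 4), (nat_lit 5), (nat_lit 1), (nat_lit 5)], (nat_lit 26), (nat_lit 5), (nat_lit 0), (nat_lit 5)⟩)) (BT.node (nat_lit 230) (BT.leaf ⟨[(nat_lit 4), (nat_lit 2), (nat_lit 5), (nat_lit 2), (nat_lit 5), (nat_lit 4), (nat_lit 2), (nat_lit 4), (nat_lit 5), (nat_lit 2), (nat_lit 5)], (nat_lit 61), (nat_lit 9), (nat_lit 0), (nat_lit 5)⟩) (BT.node (nat_lit 231) (BT.leaf ⟨[(nat_lit 4), (nat_lit 2), (nat_lit 4), (nat_lit 5), (nat_lit 2), (nat_lit 5), (nat_lit 4), (nat_lit 2), (nat_lit 5), (nat_lit 2), (nat_lit 5)], (nat_lit 61), (nat_lit 3), (nat_lit 0), (nat_lit 5)⟩) (BT.leaf ⟨[(nat_lit 1), (nat_lit 7), (nat_lit 6), (nat_lit 1), (nat_lit 6), (nat_lit 1), (nat_lit 7), (nat_lit 6), (nat_lit 1), (nat_lit 6), (nat_lit 7)], (nat_lit 27), (nat_lit 6), (nat_lit 0), (nat_lit 5)⟩)))) (BT.node (nat_lit 235) (BT.node (nat_lit 233) (BT.leaf ⟨[(nat_lit 5), (nat_lit 6), (nat_lit 5), (nat_lit 6), (nat_lit 5), (nat_lit 6), (nat_lit 5), (nat_lit 6), (nat_lit 8), (nat_lit 3)], (nat_lit 57), (nat_lit 0), (nat_lit 0), (nat_lit 3)⟩) (BT.node (nat_lit 234) (BT.leaf ⟨[(nat_lit 5), (nat_lit 6), (nat_lit 8), (nat_lit 3), (nat_lit 5), (nat_lit 6), (nat_lit 5), (nat_lit 6), (nat_lit 5), (nat_lit 6)], (nat_lit 57), (nat_lit 6), (nat_lit 0), (nat_lit 3)⟩) (BT.leaf ⟨[(nat_lit 0), (nat_lit 2), (nat_lit 4), (nat_lit 5), (nat_lit 2), (nat_lit 5), (nat_lit 4), (nat_lit 2), (nat_lit 5), (nat_lit 2), (nat_lit 5), (nat_lit 4)], (nat_lit 61), (nat_lit 4), (nat_lit 1), (nat_lit 3)⟩))) (BT.node (nat_lit 236) (BT.leaf ⟨[(nat_lit 0), (nat_lit 1), (nat_lit 4), (nat_lit 5), (nat_lit 1), (nat_lit 5), (nat_lit 1), (nat_lit 4), (nat_lit 5), (nat_lit 1), (nat_lit 5), (nat_lit 4)], (nat_lit 26), (nat_lit 6), (nat_lit 1), (nat_lit 3)⟩) (BT.node (nat_lit 237) (BT.leaf ⟨[(nat_lit 4), (nat_lit 2), (nat_lit 4), (nat_lit 5), (nat_lit 2), (nat_lit 5), (nat_lit 4), (nat_lit 2), (nat_lit 5), (nat_lit 2), (nat_lit 5)], (nat_lit 61), (nat_lit 3), (nat_lit 0), (nat_lit 3)⟩) (BT.leaf ⟨[(nat_lit 2), (nat_lit 6), (nat_lit 7), (nat_lit 2), (nat_lit 6), (nat_lit 2), (nat_lit 6), (nat_lit 7), (nat_lit 2), (nat_lit 7), (nat_lit 6)], (nat_lit 62), (nat_lit 7), (nat_lit 0), (nat_lit 3)⟩)))))) (BT.node (nat_lit 249) (BT.node (nat_lit 243) (BT.node (nat_lit 240) (BT.node (nat_lit 239) (BT.leaf ⟨[(nat_lit 2), (nat_lit 5), (nat_lit 4), (nat_lit 2), (nat_lit 5), (nat_lit 2), (nat_lit 5), (nat_lit 4), (nat_lit 2), (nat_lit 4), (nat_lit 5)], (nat_lit 61), (nat_lit 7), (nat_lit 0), (nat_lit 3)⟩) (BT.leaf ⟨[(nat_lit 6), (nat_lit 8), (nat_lit 3), (nat_lit 5), (nat_lit 6), (nat_lit 5), (nat_lit 6), (nat_lit 5), (nat_lit 6), (nat_lit 5)], (nat_lit 57), (nat_lit 7), (nat_lit 0), (nat_lit 3)⟩)) (BT.node (nat_lit 241) (BT.leaf ⟨[(nat_lit 7), (nat_lit 2), (nat_lit 7), (nat_lit 6), (nat_lit 2), (nat_lit 6), (nat_lit 7), (nat_lit 2), (nat_lit 6), (nat_lit 2), (nat_lit 6)], (nat_lit 62), (nat_lit 3), (nat_lit 0), (nat_lit 3)⟩) (BT.node (nat_lit 242) (BT.leaf ⟨[(nat_lit 1), (nat_lit 4), (nat_lit 5), (nat_lit 1), (nat_lit 5), (nat_lit 1), (nat_lit 4), (nat_lit 5), (nat_lit 1), (nat_lit 5), (nat_lit 4)], (nat_lit 26), (nat_lit 6), (nat_lit 0), (nat_lit 3)⟩) (BT.leaf ⟨[(nat_lit 8), (nat_lit 3), (nat_lit 5), (nat_lit 6), (nat_lit 5), (nat_lit 6), (nat_lit 5), (nat_lit 6), (nat_lit 5), (nat_lit 6)], (nat_lit 57), (nat_lit 8), (nat_lit 0), (nat_lit 3)⟩)))) (BT.node (nat_lit 246) (BT.node (nat_lit 244) (BT.leaf ⟨[(nat_lit 5), (nat_lit 4), (nat_lit 1), (nat_lit 4), (nat_lit 5), (nat_lit 1), (nat_lit 5), (nat_lit 1), (nat_lit 4), (nat_lit 5), (nat_lit 1)], (nat_lit 26), (nat_lit 4), (nat_lit 0), (nat_lit 3)⟩) (BT.node (nat_lit 245) (BT.leaf ⟨[(nat_lit 2), (nat_lit 6), (nat_lit 2), (nat_lit 6), (nat_lit 7), (nat_lit 2), (nat_lit 7), (nat_lit 6), (nat_lit 2), (nat_lit 6), (nat_lit 7)], (nat_lit 62), (nat_lit 10), (nat_lit 0), (nat_lit 3)⟩) (BT.leaf ⟨[(nat_lit 5), (nat_lit 4), (nat_lit 2), (nat_lit 4), (nat_lit 5), (nat_lit 2), (nat_lit 5), (nat_lit 4), (nat_lit 2), (nat_lit 5), (nat_lit 2)], (nat_lit 61), (nat_lit 2), (nat_lit 0), (nat_lit 3)⟩))) (BT.node (nat_lit 247) (BT.leaf ⟨[(nat_lit 6), (nat_lit 5), (nat_lit 6), (nat_lit 5), (nat_lit 6), (nat_lit 5), (nat_lit 6), (nat_lit 8), (nat_lit 3), (nat_lit 5)], (nat_lit 57), (nat_lit 1), (nat_lit 0), (nat_lit 3)⟩) (BT.node (nat_lit 248) (BT.leaf ⟨[(nat_lit 0), (nat_lit 6), (nat_lit 8), (nat_lit 6), (nat_lit 8)], (nat_lit 19), (nat_lit 0), (nat_lit 1), (nat_lit 3)⟩) (BT.leaf ⟨[(nat_lit 6), (nat_lit 5), (nat_lit 6), (nat_lit 5), (nat_lit 6), (nat_lit 5), (nat_lit 6), (nat_lit 5), (nat_lit 6), (nat_lit 5), (nat_lit 6), (nat_lit 5), (nat_lit 6), (nat_lit 5), (nat_lit 6), (nat_lit 5)], (nat_lit 15), (nat_lit 1), (nat_lit 0), (nat_lit 3)⟩))))) (BT.node (nat_lit 254) (BT.node (nat_lit 251) (BT.node (nat_lit 250) (BT.leaf ⟨[(nat_lit 6), (nat_lit 1), (nat_lit 4), (nat_lit 5), (nat_lit 6), (nat_lit 1), (nat_lit 4), (nat_lit 5), (nat_lit 6), (nat_lit 1), (nat_lit 4), (nat_lit 5), (nat_lit 6), (nat_lit 1), (nat_lit 4), (nat_lit 5), (nat_lit 6), (nat_lit 1), (nat_lit 4), (nat_lit 5)], (nat_lit 25), (nat_lit 2), (nat_lit 0), (nat_lit 3)⟩) (BT.leaf ⟨[(nat_lit 5), (nat_lit 4), (nat_lit 2), (nat_lit 6), (nat_lit 5), (nat_lit 4), (nat_lit 2), (nat_lit 6), (nat_lit 5), (nat_lit 4), (nat_lit 2), (nat_lit 6), (nat_lit 5), (nat_lit 4), (nat_lit 2), (nat_lit 6), (nat_lit 5), (nat_lit 4), (nat_lit 2), (nat_lit 6)], (nat_lit 60), (nat_lit 2), (nat_lit 0), (nat_lit 3)⟩)) (BT.node (nat_lit 252) (BT.leaf ⟨[(nat_lit 6), (nat_lit 5), (nat_lit 4), (nat_lit 2), (nat_lit 6), (nat_lit 5), (nat_lit 4), (nat_lit 2), (nat_lit 6), (nat_lit 5), (nat_lit 4), (nat_lit 2), (nat_lit 6), (nat_lit 5), (nat_lit 4), (nat_lit 2), (nat_lit 6), (nat_lit 5), (nat_lit 4), (nat_lit 2)], (nat_lit 60), (nat_lit 1), (nat_lit 0), (nat_lit 3)⟩) (BT.node (nat_lit 253) (BT.leaf ⟨[(nat_lit 5), (nat_lit 6), (nat_lit 5), (nat_lit 6), (nat_lit 5), (nat_lit 6), (nat_lit 5), (nat_lit 6), (nat_lit 5), (nat_lit 6), (nat_lit 5), (nat_lit 6), (nat_lit 5), (nat_lit 6), (nat_lit 5), (nat_lit 6)], (nat_lit 15), (nat_lit 0), (nat_lit 0), (nat_lit 3)⟩) (BT.leaf ⟨[(nat_lit 2), (nat_lit 6), (nat_lit 5), (nat_lit 4), (nat_lit 2), (nat_lit 6), (nat_lit 5), (nat_lit 4), (nat_lit 2), (nat_lit 6), (nat_lit 5), (nat_lit 4), (nat_lit 2), (nat_lit 6), (nat_lit 5), (nat_lit 4), (nat_lit 2), (nat_lit 6), (nat_lit 5), (nat_lit 4)], (nat_lit 60), (nat_lit 0), (nat_lit 0), (nat_lit 3)⟩)))) (BT.node (nat_lit 257) (BT.node (nat_lit 255) (BT.leaf ⟨[(nat_lit 1), (nat_lit 4), (nat_lit 5), (nat_lit 6), (nat_lit 1), (nat_lit 4), (nat_lit 5), (nat_lit 6), (nat_lit 1), (nat_lit 4), (nat_lit 5), (nat_lit 6), (nat_lit 1), (nat_lit 4), (nat_lit 5), (nat_lit 6), (nat_lit 1), (nat_lit 4), (nat_lit 5), (nat_lit 6)], (nat_lit 25), (nat_lit 3), (nat_lit 0), (nat_lit 3)⟩) (BT.node (nat_lit 256) (BT.leaf ⟨[(nat_lit 4), (nat_lit 2), (nat_lit 6), (nat_lit 5), (nat_lit 4), (nat_lit 2), (nat_lit 6), (nat_lit 5), (nat_lit 4), (nat_lit 2), (nat_lit 6), (nat_lit 5), (nat_lit 4), (nat_lit 2), (nat_lit 6), (nat_lit 5), (nat_lit 4), (nat_lit 2), (nat_lit 6), (nat_lit 5)], (nat_lit 60), (nat_lit 3), (nat_lit 0), (nat_lit 3)⟩) (BT.leaf ⟨[(nat_lit 4), (nat_lit 5), (nat_lit 6), (nat_lit 1), (nat_lit 4), (nat_lit 5), (nat_lit 6), (nat_lit 1), (nat_lit 4), (nat_lit 5), (nat_lit 6), (nat_lit 1), (nat_lit 4), (nat_lit 5), (nat_lit 6), (nat_lit 1), (nat_lit 4), (nat_lit 5), (nat_lit 6), (nat_lit 1)], (nat_lit 25), (nat_lit 0), (nat_lit 0), (nat_lit 3)⟩))) (BT.node (nat_lit 258) (BT.leaf ⟨[(nat_lit 3), (nat_lit 5), (nat_lit 3), (nat_lit 5)], (nat_lit 7), (nat_lit 0), (nat_lit 0), (nat_lit 4)⟩) (BT.node (nat_lit 259) (BT.leaf ⟨[(nat_lit 7), (nat_lit 7)], (nat_lit 4), (nat_lit 0), (nat_lit 0), (nat_lit 5)⟩) (BT.leaf ⟨[(nat_lit 8), (nat_lit 5), (nat_lit 8), (nat_lit 5)], (nat_lit 17), (nat_lit 1), (nat_lit 0), (nat_lit 4)⟩)))))))) (BT.node (nat_lit 303) (BT.node (nat_lit 281) (BT.node (nat_lit 270) (BT.node (nat_lit 265) (BT.node (nat_lit 262) (BT.node (nat_lit 261) (BT.leaf ⟨[(nat_lit 8), (nat_lit 6), (nat_lit 8), (nat_lit 6)], (nat_lit 19), (nat_lit 1), (nat_lit 0), (nat_lit 4)⟩) (BT.leaf ⟨[(nat_lit 3), (nat_lit 7), (nat_lit 3), (nat_lit 7)], (nat_lit 9), (nat_lit 0), (nat_lit 0), (nat_lit 4)⟩)) (BT.node (nat_lit 263) (BT.leaf ⟨[(nat_lit 6), (nat_lit 4), (nat_lit 6), (nat_lit 4)], (nat_lit 12), (nat_lit 1), (nat_lit 0), (nat_lit 5)⟩) (BT.node (nat_lit 264) (BT.leaf ⟨[(nat_lit 0), (nat_lit 6), (nat_lit 3), (nat_lit 6), (nat_lit 3)], (nat_lit 8), (nat_lit 1), (nat_lit 1), (nat_lit 3)⟩) (BT.leaf ⟨[(nat_lit 6), (nat_lit 8), (nat_lit 6), (nat_lit 8)], (nat_lit 19), (nat_lit 0), (nat_lit 0), (nat_lit 5)⟩)))) (BT.node (nat_lit 267) (BT.node (nat_lit 266) (BT.leaf ⟨[(nat_lit 6), (nat_lit 5), (nat_lit 6), (nat_lit 5), (nat_lit 6), (nat_lit 5), (nat_lit 3), (nat_lit 8), (nat_lit 6), (nat_lit 5)], (nat_lit 22), (nat_lit 4), (nat_lit 0), (nat_lit 4)⟩) (BT.leaf ⟨[(nat_lit 4), (nat_lit 6), (nat_lit 4), (nat_lit 6)], (nat_lit 12), (nat_lit 0), (nat_lit 0), (nat_lit 4)⟩)) (BT.node (nat_lit 268) (BT.leaf ⟨[(nat_lit 7), (nat_lit 6), (nat_lit 7), (nat_lit 6), (nat_lit 7), (nat_lit 6)], (nat_lit 18), (nat_lit 1), (nat_lit 0), (nat_lit 4)⟩) (BT.node (nat_lit 269) (BT.leaf ⟨[(nat_lit 2), (nat_lit 2), (nat_lit 3), (nat_lit 8)], (nat_lit 21), (nat_lit 2), (nat_lit 0), (nat_lit 4)⟩) (BT.leaf ⟨[(nat_lit 8), (nat_lit 2), (nat_lit 2), (nat_lit 3)], (nat_lit 21), (nat_lit 1), (nat_lit 0), (nat_lit 4)⟩))))) (BT.node (nat_lit 275) (BT.node (nat_lit 272) (BT.node (nat_lit 271) (BT.leaf ⟨[(nat_lit 5), (nat_lit 3), (nat_lit 5), (nat_lit 3)], (nat_lit 7), (nat_lit 1), (nat_lit 0), (nat_lit 5)⟩) (BT.leaf ⟨[(nat_lit 2), (nat_lit 6), (nat_lit 5), (nat_lit 6), (nat_lit 1), (nat_lit 6), (nat_lit 1), (nat_lit 5), (nat_lit 2), (nat_lit 6)], (nat_lit 23), (nat_lit 3), (nat_lit 0), (nat_lit 4)⟩)) (BT.node (nat_lit 273) (BT.leaf ⟨[(nat_lit 1), (nat_lit 6), (nat_lit 1), (nat_lit 5), (nat_lit 2), (nat_lit 6), (nat_lit 2), (nat_lit 6), (nat_lit 5), (nat_lit 6)], (nat_lit 23), (nat_lit 7), (nat_lit 0), (nat_lit 4)⟩) (BT.node (nat_lit 274) (BT.leaf ⟨[(nat_lit 6), (nat_lit 3), (nat_lit 6), (nat_lit 3)], (nat_lit 8), (nat_lit 1), (nat_lit 0), (nat_lit 5)⟩) (BT.leaf ⟨[(nat_lit 8), (nat_lit 3), (nat_lit 8), (nat_lit 3)], (nat_lit 10), (nat_lit 1), (nat_lit 0), (nat_lit 5)⟩)))) (BT.node (nat_lit 278) (BT.node (nat_lit 276) (BT.leaf ⟨[(nat_lit 0), (nat_lit 4), (nat_lit 8), (nat_lit 4), (nat_lit 8)], (nat_lit 14), (nat_lit 0), (nat_lit 1), (nat_lit 3)⟩) (BT.node (nat_lit 277) (BT.leaf ⟨[(nat_lit 0), (nat_lit 2), (nat_lit 2), (nat_lit 3), (nat_lit 8)], (nat_lit 21), (nat_lit 2), (nat_lit 1), (nat_lit 3)⟩) (BT.leaf ⟨[(nat_lit 8), (nat_lit 3), (nat_lit 8), (nat_lit 3)], (nat_lit 10), (nat_lit 1), (nat_lit 0), (nat_lit 4)⟩))) (BT.node (nat_lit 279) (BT.leaf ⟨[(nat_lit 6), (nat_lit 6)], (nat_lit 3), (nat_lit 0), (nat_lit 0), (nat_lit 5)⟩) (BT.node (nat_lit 280) (BT.leaf ⟨[(nat_lit 1), (nat_lit 5), (nat_lit 1), (nat_lit 6), (nat_lit 2), (nat_lit 5), (nat_lit 2), (nat_lit 5), (nat_lit 6), (nat_lit 5)], (nat_lit 24), (nat_lit 7), (nat_lit 0), (nat_lit 4)⟩) (BT.leaf ⟨[(nat_lit 6), (nat_lit 7), (nat_lit 6), (nat_lit 7), (nat_lit 6), (nat_lit 7)], (nat_lit 18), (nat_lit 0), (nat_lit 0), (nat_lit 4)⟩)))))) (BT.node (nat_lit 292) (BT.node (nat_lit 286) (BT.node (nat_lit 283) (BT.node (nat_lit 282) (BT.leaf ⟨[(nat_lit 5), (nat_lit 2), (nat_lit 6), (nat_lit 2), (nat_lit 6), (nat_lit 5), (nat_lit 6), (nat_lit 1), (nat_lit 6), (nat_lit 1)], (nat_lit 23), (nat_lit 0), (nat_lit 0), (nat_lit 4)⟩) (BT.leaf ⟨[(nat_lit 6), (nat_lit 2), (nat_lit 5), (nat_lit 2), (nat_lit 5), (nat_lit 6), (nat_lit 5), (nat_lit 1), (nat_lit 5), (nat_lit 1)], (nat_lit 24), (nat_lit 0), (nat_lit 0), (nat_lit 4)⟩)) (BT.node (nat_lit 284) (BT.leaf ⟨[(nat_lit 7), (nat_lit 6), (nat_lit 2), (nat_lit 6), (nat_lit 7), (nat_lit 2), (nat_lit 6), (nat_lit 2), (nat_lit 6), (nat_lit 7), (nat_lit 2)], (nat_lit 62), (nat_lit 5), (nat_lit 0), (nat_lit 4)⟩) (BT.node (nat_lit 285) (BT.leaf ⟨[(nat_lit 1), (nat_lit 6), (nat_lit 7), (nat_lit 1), (nat_lit 7), (nat_lit 6), (nat_lit 1), (nat_lit 6), (nat_lit 1), (nat_lit 7), (nat_lit 6)], (nat_lit 27), (nat_lit 3), (nat_lit 0), (nat_lit 4)⟩) (BT.leaf ⟨[(nat_lit 2), (nat_lit 6), (nat_lit 7), (nat_lit 2), (nat_lit 7), (nat_lit 6), (nat_lit 2), (nat_lit 6), (nat_lit 7), (nat_lit 2), (nat_lit 6)], (nat_lit 62), (nat_lit 1), (nat_lit 0), (nat_lit 4)⟩)))) (BT.node (nat_lit 289) (BT.node (nat_lit 287) (BT.leaf ⟨[(nat_lit 8), (nat_lit 7), (nat_lit 8), (nat_lit 7), (nat_lit 8), (nat_lit 7)], (nat_lit 20), (nat_lit 1), (nat_lit 0), (nat_lit 5)⟩) (BT.node (nat_lit 288) (BT.leaf ⟨[(nat_lit 1), (nat_lit 7), (nat_lit 6), (nat_lit 1), (nat_lit 6), (nat_lit 7), (nat_lit 1), (nat_lit 7), (nat_lit 6), (nat_lit 1), (nat_lit 6)], (nat_lit 27), (nat_lit 0), (nat_lit 0), (nat_lit 4)⟩) (BT.leaf ⟨[(nat_lit 6), (nat_lit 1), (nat_lit 6), (nat_lit 1), (nat_lit 7), (nat_lit 6), (nat_lit 1), (nat_lit 6), (nat_lit 7), (nat_lit 1), (nat_lit 7)], (nat_lit 27), (nat_lit 8), (nat_lit 0), (nat_lit 4)⟩))) (BT.node (nat_lit 290) (BT.leaf ⟨[(nat_lit 6), (nat_lit 7), (nat_lit 1), (nat_lit 7), (nat_lit 6), (nat_lit 1), (nat_lit 6), (nat_lit 1), (nat_lit 7), (nat_lit 6), (nat_lit 1)], (nat_lit 27), (nat_lit 4), (nat_lit 0), (nat_lit 4)⟩) (BT.node (nat_lit 291) (BT.leaf ⟨[(nat_lit 2), (nat_lit 5), (nat_lit 6), (nat_lit 5), (nat_lit 1), (nat_lit 5), (nat_lit 1), (nat_lit 6), (nat_lit 2), (nat_lit 5)], (nat_lit 24), (nat_lit 3), (nat_lit 0), (nat_lit 4)⟩) (BT.leaf ⟨[(nat_lit 5), (nat_lit 1), (nat_lit 6), (nat_lit 2), (nat_lit 5), (nat_lit 2), (nat_lit 5), (nat_lit 6), (nat_lit 5), (nat_lit 1)], (nat_lit 24), (nat_lit 8), (nat_lit 0), (nat_lit 4)⟩))))) (BT.node (nat_lit 297) (BT.node (nat_lit 294) (BT.node (nat_lit 293) (BT.leaf ⟨[(nat_lit 0), (nat_lit 6), (nat_lit 2), (nat_lit 6), (nat_lit 7), (nat_lit 2), (nat_lit 7), (nat_lit 6), (nat_lit 2), (nat_lit 6), (nat_lit 7), (nat_lit 2)], (nat_lit 62), (nat_lit 0), (nat_lit 1), (nat_lit 3)⟩) (BT.leaf ⟨[(nat_lit 6), (nat_lit 1), (nat_lit 6), (nat_lit 7), (nat_lit 1), (nat_lit 7), (nat_lit 6), (nat_lit 1), (nat_lit 6), (nat_lit 1), (nat_lit 7)], (nat_lit 27), (nat_lit 2), (nat_lit 0), (nat_lit 4)⟩)) (BT.node (nat_lit 295) (BT.leaf ⟨[(nat_lit 5), (nat_lit 8), (nat_lit 5), (nat_lit 8)], (nat_lit 17), (nat_lit 0), (nat_lit 0), (nat_lit 5)⟩) (BT.node (nat_lit 296) (BT.leaf ⟨[(nat_lit 3), (nat_lit 1), (nat_lit 1), (nat_lit 8)], (nat_lit 56), (nat_lit 3), (nat_lit 0), (nat_lit 5)⟩) (BT.leaf ⟨[(nat_lit 5), (nat_lit 7), (nat_lit 5), (nat_lit 7)], (nat_lit 16), (nat_lit 0), (nat_lit 0), (nat_lit 5)⟩)))) (BT.node (nat_lit 300) (BT.node (nat_lit 298) (BT.leaf ⟨[(nat_lit 5), (nat_lit 6), (nat_lit 5), (nat_lit 6), (nat_lit 5), (nat_lit 6), (nat_lit 5), (nat_lit 3), (nat_lit 8), (nat_lit 6)], (nat_lit 22), (nat_lit 3), (nat_lit 0), (nat_lit 4)⟩) (BT.node (nat_lit 299) (BT.leaf ⟨[(nat_lit 1), (nat_lit 7), (nat_lit 6), (nat_lit 1), (nat_lit 6), (nat_lit 1), (nat_lit 7), (nat_lit 6), (nat_lit 1), (nat_lit 6), (nat_lit 7)], (nat_lit 27), (nat_lit 6), (nat_lit 0), (nat_lit 4)⟩) (BT.leaf ⟨[(nat_lit 2), (nat_lit 4), (nat_lit 5), (nat_lit 2), (nat_lit 5), (nat_lit 4), (nat_lit 2), (nat_lit 5), (nat_lit 2), (nat_lit 5), (nat_lit 4)], (nat_lit 61), (nat_lit 4), (nat_lit 0), (nat_lit 4)⟩))) (BT.node (nat_lit 301) (BT.leaf ⟨[(nat_lit 3), (nat_lit 8), (nat_lit 2), (nat_lit 2)], (nat_lit 21), (nat_lit 0), (nat_lit 0), (nat_lit 4)⟩) (BT.node (nat_lit 302) (BT.leaf ⟨[(nat_lit 0), (nat_lit 8), (nat_lit 3), (nat_lit 8), (nat_lit 3)], (nat_lit 10), (nat_lit 1), (nat_lit 1), (nat_lit 3)⟩) (BT.leaf ⟨[(nat_lit 0), (nat_lit 1), (nat_lit 8), (nat_lit 3), (nat_lit 1)], (nat_lit 56), (nat_lit 1), (nat_lit 1), (nat_lit 3)⟩))))))) (BT.node (nat_lit 325) (BT.node (nat_lit 314) (BT.node (nat_lit 308) (BT.node (nat_lit 305) (BT.node (nat_lit 304) (BT.leaf ⟨[(nat_lit 6), (nat_lit 2), (nat_lit 5), (nat_lit 2), (nat_lit 5), (nat_lit 6), (nat_lit 5), (nat_lit 1), (nat_lit 5), (nat_lit 1)], (nat_lit 24), (nat_lit 0), (nat_lit 0), (nat_lit 5)⟩) (BT.leaf ⟨[(nat_lit 6), (nat_lit 1), (nat_lit 6), (nat_lit 1), (nat_lit 7), (nat_lit 6), (nat_lit 1), (nat_lit 6), (nat_lit 7), (nat_lit 1), (nat_lit 7)], (nat_lit 27), (nat_lit 8), (nat_lit 0), (nat_lit 5)⟩)) (BT.node (nat_lit 306) (BT.leaf ⟨[(nat_lit 2), (nat_lit 6), (nat_lit 2), (nat_lit 6), (nat_lit 7), (nat_lit 2), (nat_lit 7), (nat_lit 6), (nat_lit 2), (nat_lit 6), (nat_lit 7)], (nat_lit 62), (nat_lit 10), (nat_lit 0), (nat_lit 5)⟩) (BT.node (nat_lit 307) (BT.leaf ⟨[(nat_lit 1), (nat_lit 6), (nat_lit 1), (nat_lit 7), (nat_lit 6), (nat_lit 1), (nat_lit 6), (nat_lit 7), (nat_lit 1), (nat_lit 7), (nat_lit 6)], (nat_lit 27), (nat_lit 9), (nat_lit 0), (nat_lit 4)⟩) (BT.leaf ⟨[(nat_lit 0), (nat_lit 6), (nat_lit 2), (nat_lit 6), (nat_lit 7), (nat_lit 2), (nat_lit 7), (nat_lit 6), (nat_lit 2), (nat_lit 6), (nat_lit 7), (nat_lit 2)], (nat_lit 62), (nat_lit 0), (nat_lit 1), (nat_lit 4)⟩)))) (BT.node (nat_lit 311) (BT.node (nat_lit 309) (BT.leaf ⟨[(nat_lit 6), (nat_lit 2), (nat_lit 6), (nat_lit 7), (nat_lit 2), (nat_lit 7), (nat_lit 6), (nat_lit 2), (nat_lit 6), (nat_lit 7), (nat_lit 2)], (nat_lit 62), (nat_lit 0), (nat_lit 0), (nat_lit 4)⟩) (BT.node (nat_lit 310) (BT.leaf ⟨[(nat_lit 7), (nat_lit 6), (nat_lit 7), (nat_lit 6), (nat_lit 7), (nat_lit 6)], (nat_lit 18), (nat_lit 1), (nat_lit 0), (nat_lit 5)⟩) (BT.leaf ⟨[(nat_lit 4), (nat_lit 3), (nat_lit 4), (nat_lit 3), (nat_lit 4), (nat_lit 3)], (nat_lit 6), (nat_lit 1), (nat_lit 0), (nat_lit 4)⟩))) (BT.node (nat_lit 312) (BT.leaf ⟨[(nat_lit 0), (nat_lit 6), (nat_lit 1), (nat_lit 6), (nat_lit 1), (nat_lit 5), (nat_lit 2), (nat_lit 6), (nat_lit 2), (nat_lit 6), (nat_lit 5)], (nat_lit 23), (nat_lit 6), (nat_lit 1), (nat_lit 3)⟩) (BT.node (nat_lit 313) (BT.leaf ⟨[(nat_lit 0), (nat_lit 8), (nat_lit 5), (nat_lit 8), (nat_lit 5)], (nat_lit 17), (nat_lit 1), (nat_lit 1), (nat_lit 3)⟩) (BT.leaf ⟨[(nat_lit 5), (nat_lit 6), (nat_lit 1), (nat_lit 6), (nat_lit 1), (nat_lit 5), (nat_lit 2), (nat_lit 6), (nat_lit 2), (nat_lit 6)], (nat_lit 23), (nat_lit 5), (nat_lit 0), (nat_lit 5)⟩))))) (BT.node (nat_lit 319) (BT.node (nat_lit 316) (BT.node (nat_lit 315) (BT.leaf ⟨[(nat_lit 5), (nat_lit 2), (nat_lit 5), (nat_lit 6), (nat_lit 5), (nat_lit 1), (nat_lit 5), (nat_lit 1), (nat_lit 6), (nat_lit 2)], (nat_lit 24), (nat_lit 2), (nat_lit 0), (nat_lit 5)⟩) (BT.leaf ⟨[(nat_lit 0), (nat_lit 7), (nat_lit 5), (nat_lit 7), (nat_lit 5)], (nat_lit 16), (nat_lit 1), (nat_lit 1), (nat_lit 3)⟩)) (BT.node (nat_lit 317) (BT.leaf ⟨[(nat_lit 0), (nat_lit 2), (nat_lit 6), (nat_lit 2), (nat_lit 6), (nat_lit 5), (nat_lit 6), (nat_lit 1), (nat_lit 6), (nat_lit 1), (nat_lit 5)], (nat_lit 23), (nat_lit 1), (nat_lit 1), (nat_lit 4)⟩) (BT.node (nat_lit 318) (BT.leaf ⟨[(nat_lit 5), (nat_lit 2), (nat_lit 5), (nat_lit 4), (nat_lit 2), (nat_lit 5), (nat_lit 2), (nat_lit 5), (nat_lit 4), (nat_lit 2), (nat_lit 4)], (nat_lit 61), (nat_lit 6), (nat_lit 0), (nat_lit 5)⟩) (BT.leaf ⟨[(nat_lit 0), (nat_lit 7), (nat_lit 6), (nat_lit 2), (nat_lit 6), (nat_lit 7), (nat_lit 2), (nat_lit 6), (nat_lit 2), (nat_lit 6), (nat_lit 7), (nat_lit 2)], (nat_lit 62), (nat_lit 5), (nat_lit 1), (nat_lit 5)⟩)))) (BT.node (nat_lit 322) (BT.node (nat_lit 320) (BT.leaf ⟨[(nat_lit 0), (nat_lit 4), (nat_lit 5), (nat_lit 1), (nat_lit 5), (nat_lit 4), (nat_lit 1), (nat_lit 4), (nat_lit 5), (nat_lit 1), (nat_lit 5), (nat_lit 1)], (nat_lit 26), (nat_lit 1), (nat_lit 1), (nat_lit 5)⟩) (BT.node (nat_lit 321) (BT.leaf ⟨[(nat_lit 1), (nat_lit 5), (nat_lit 1), (nat_lit 4), (nat_lit 5), (nat_lit 1), (nat_lit 5), (nat_lit 4), (nat_lit 1), (nat_lit 4), (nat_lit 5)], (nat_lit 26), (nat_lit 9), (nat_lit 0), (nat_lit 5)⟩) (BT.leaf ⟨[(nat_lit 4), (nat_lit 5), (nat_lit 2), (nat_lit 5), (nat_lit 4), (nat_lit 2), (nat_lit 5), (nat_lit 2), (nat_lit 5), (nat_lit 4), (nat_lit 2)], (nat_lit 61), (nat_lit 5), (nat_lit 0), (nat_lit 4)⟩))) (BT.node (nat_lit 323) (BT.leaf ⟨[(nat_lit 4), (nat_lit 1), (nat_lit 4), (nat_lit 5), (nat_lit 1), (nat_lit 5), (nat_lit 1), (nat_lit 4), (nat_lit 5), (nat_lit 1), (nat_lit 5)], (nat_lit 26), (nat_lit 5), (nat_lit 0), (nat_lit 4)⟩) (BT.node (nat_lit 324) (BT.leaf ⟨[(nat_lit 2), (nat_lit 6), (nat_lit 2), (nat_lit 6), (nat_lit 7), (nat_lit 2), (nat_lit 7), (nat_lit 6), (nat_lit 2), (nat_lit 6), (nat_lit 7)], (nat_lit 62), (nat_lit 10), (nat_lit 0), (nat_lit 4)⟩) (BT.leaf ⟨[(nat_lit 7), (nat_lit 8), (nat_lit 7), (nat_lit 8), (nat_lit 7), (nat_lit 8)], (nat_lit 20), (nat_lit 0), (nat_lit 0), (nat_lit 4)⟩)))))) (BT.node (nat_lit 336) (BT.node (nat_lit 330) (BT.node (nat_lit 327) (BT.node (nat_lit 326) (BT.leaf ⟨[(nat_lit 0), (nat_lit 5), (nat_lit 7), (nat_lit 5), (nat_lit 7)], (nat_lit 16), (nat_lit 0), (nat_lit 1), (nat_lit 3)⟩) (BT.leaf ⟨[(nat_lit 0), (nat_lit 6), (nat_lit 2), (nat_lit 5), (nat_lit 2), (nat_lit 5), (nat_lit 6), (nat_lit 5), (nat_lit 1), (nat_lit 5), (nat_lit 1)], (nat_lit 24), (nat_lit 0), (nat_lit 1), (nat_lit 5)⟩)) (BT.node (nat_lit 328) (BT.leaf ⟨[(nat_lit 0), (nat_lit 2), (nat_lit 6), (nat_lit 2), (nat_lit 6), (nat_lit 5), (nat_lit 6), (nat_lit 1), (nat_lit 6), (nat_lit 1), (nat_lit 5)], (nat_lit 23), (nat_lit 1), (nat_lit 1), (nat_lit 3)⟩) (BT.node (nat_lit 329) (BT.leaf ⟨[(nat_lit 2), (nat_lit 5), (nat_lit 4), (nat_lit 2), (nat_lit 4), (nat_lit 5), (nat_lit 2), (nat_lit 5), (nat_lit 4), (nat_lit 2), (nat_lit 5)], (nat_lit 61), (nat_lit 1), (nat_lit 0), (nat_lit 5)⟩) (BT.leaf ⟨[(nat_lit 1), (nat_lit 7), (nat_lit 6), (nat_lit 1), (nat_lit 6), (nat_lit 7), (nat_lit 1), (nat_lit 7), (nat_lit 6), (nat_lit 1), (nat_lit 6)], (nat_lit 27), (nat_lit 0), (nat_lit 0), (nat_lit 5)⟩)))) (BT.node (nat_lit 333) (BT.node (nat_lit 331) (BT.leaf ⟨[(nat_lit 4), (nat_lit 2), (nat_lit 4), (nat_lit 5), (nat_lit 2), (nat_lit 5), (nat_lit 4), (nat_lit 2), (nat_lit 5), (nat_lit 2), (nat_lit 5)], (nat_lit 61), (nat_lit 3), (nat_lit 0), (nat_lit 4)⟩) (BT.node (nat_lit 332) (BT.leaf ⟨[(nat_lit 6), (nat_lit 2), (nat_lit 6), (nat_lit 5), (nat_lit 6), (nat_lit 1), (nat_lit 6), (nat_lit 1), (nat_lit 5), (nat_lit 2)], (nat_lit 23), (nat_lit 2), (nat_lit 0), (nat_lit 4)⟩) (BT.leaf ⟨[(nat_lit 0), (nat_lit 1), (nat_lit 4), (nat_lit 5), (nat_lit 1), (nat_lit 5), (nat_lit 4), (nat_lit 1), (nat_lit 4), (nat_lit 5), (nat_lit 1), (nat_lit 5)], (nat_lit 26), (nat_lit 0), (nat_lit 1), (nat_lit 3)⟩))) (BT.node (nat_lit 334) (BT.leaf ⟨[(nat_lit 0), (nat_lit 1), (nat_lit 6), (nat_lit 2), (nat_lit 5), (nat_lit 2), (nat_lit 5), (nat_lit 6), (nat_lit 5), (nat_lit 1), (nat_lit 5)], (nat_lit 24), (nat_lit 9), (nat_lit 1), (nat_lit 5)⟩) (BT.node (nat_lit 335) (BT.leaf ⟨[(nat_lit 5), (nat_lit 1), (nat_lit 5), (nat_lit 1), (nat_lit 6), (nat_lit 2), (nat_lit 5), (nat_lit 2), (nat_lit 5), (nat_lit 6)], (nat_lit 24), (nat_lit 6), (nat_lit 0), (nat_lit 5)⟩) (BT.leaf ⟨[(nat_lit 4), (nat_lit 5), (nat_lit 1), (nat_lit 5), (nat_lit 4), (nat_lit 1), (nat_lit 4), (nat_lit 5), (nat_lit 1), (nat_lit 5), (nat_lit 1)], (nat_lit 26), (nat_lit 1), (nat_lit 0), (nat_lit 5)⟩))))) (BT.node (nat_lit 341) (BT.node (nat_lit 338) (BT.node (nat_lit 337) (BT.leaf ⟨[(nat_lit 0), (nat_lit 4), (nat_lit 5), (nat_lit 1), (nat_lit 5), (nat_lit 1), (nat_lit 4), (nat_lit 5), (nat_lit 1), (nat_lit 5), (nat_lit 4), (nat_lit 1)], (nat_lit 26), (nat_lit 7), (nat_lit 1), (nat_lit 5)⟩) (BT.leaf ⟨[(nat_lit 5), (nat_lit 2), (nat_lit 5), (nat_lit 4), (nat_lit 2), (nat_lit 4), (nat_lit 5), (nat_lit 2), (nat_lit 5), (nat_lit 4), (nat_lit 2)], (nat_lit 61), (nat_lit 0), (nat_lit 0), (nat_lit 5)⟩)) (BT.node (nat_lit 339) (BT.leaf ⟨[(nat_lit 8), (nat_lit 7), (nat_lit 8), (nat_lit 7), (nat_lit 8), (nat_lit 7)], (nat_lit 20), (nat_lit 1), (nat_lit 0), (nat_lit 4)⟩) (BT.node (nat_lit 340) (BT.leaf ⟨[(nat_lit 0), (nat_lit 5), (nat_lit 8), (nat_lit 5), (nat_lit 8)], (nat_lit 17), (nat_lit 0), (nat_lit 1), (nat_lit 3)⟩) (BT.leaf ⟨[(nat_lit 0), (nat_lit 5), (nat_lit 6), (nat_lit 5), (nat_lit 1), (nat_lit 5), (nat_lit 1), (nat_lit 6), (nat_lit 2), (nat_lit 5), (nat_lit 2)], (nat_lit 24), (nat_lit 4), (nat_lit 1), (nat_lit 5)⟩)))) (BT.node (nat_lit 344) (BT.node (nat_lit 342) (BT.leaf ⟨[(nat_lit 0), (nat_lit 8), (nat_lit 3), (nat_lit 1), (nat_lit 1)], (nat_lit 56), (nat_lit 2), (nat_lit 1), (nat_lit 3)⟩) (BT.node (nat_lit 343) (BT.leaf ⟨[(nat_lit 0), (nat_lit 7), (nat_lit 3), (nat_lit 7), (nat_lit 3)], (nat_lit 9), (nat_lit 1), (nat_lit 1), (nat_lit 5)⟩) (BT.leaf ⟨[(nat_lit 2), (nat_lit 6), (nat_lit 7), (nat_lit 2), (nat_lit 6), (nat_lit 2), (nat_lit 6), (nat_lit 7), (nat_lit 2), (nat_lit 7), (nat_lit 6)], (nat_lit 62), (nat_lit 7), (nat_lit 0), (nat_lit 4)⟩))) (BT.node (nat_lit 345) (BT.leaf ⟨[(nat_lit 0), (nat_lit 7), (nat_lit 3), (nat_lit 7), (nat_lit 3)], (nat_lit 9), (nat_lit 1), (nat_lit 1), (nat_lit 3)⟩) (BT.node (nat_lit 346) (BT.leaf ⟨[(nat_lit 2), (nat_lit 7), (nat_lit 6), (nat_lit 2), (nat_lit 6), (nat_lit 7), (nat_lit 2), (nat_lit 6), (nat_lit 2), (nat_lit 6), (nat_lit 7)], (nat_lit 62), (nat_lit 4), (nat_lit 0), (nat_lit 4)⟩) (BT.leaf ⟨[(nat_lit 7), (nat_lit 6), (nat_lit 1), (nat_lit 6), (nat_lit 1), (nat_lit 7), (nat_lit 6), (nat_lit 1), (nat_lit 6), (nat_lit 7), (nat_lit 1)], (nat_lit 27), (nat_lit 7), (nat_lit 0), (nat_lit 4)⟩)))))))))) (BT.node (nat_lit 520) (BT.node (nat_lit 433) (BT.node (nat_lit 390) (BT.node (nat_lit 368) (BT.node (nat_lit 357) (BT.node (nat_lit 352) (BT.node (nat_lit 349) (BT.node (nat_lit 348) (BT.leaf ⟨[(nat_lit 0), (nat_lit 6), (nat_lit 8), (nat_lit 6), (nat_lit 8)], (nat_lit 19), (nat_lit 0), (nat_lit 1), (nat_lit 4)⟩) (BT.leaf ⟨[(nat_lit 0), (nat_lit 3), (nat_lit 7), (nat_lit 3), (nat_lit 7)], (nat_lit 9), (nat_lit 0), (nat_lit 1), (nat_lit 4)⟩)) (BT.node (nat_lit 350) (BT.leaf ⟨[(nat_lit 0), (nat_lit 7), (nat_lit 4), (nat_lit 7), (nat_lit 4)], (nat_lit 13), (nat_lit 1), (nat_lit 1), (nat_lit 3)⟩) (BT.node (nat_lit 351) (BT.leaf ⟨[(nat_lit 5), (nat_lit 1), (nat_lit 5), (nat_lit 4), (nat_lit 1), (nat_lit 4), (nat_lit 5), (nat_lit 1), (nat_lit 5), (nat_lit 1), (nat_lit 4)], (nat_lit 26), (nat_lit 2), (nat_lit 0), (nat_lit 5)⟩) (BT.leaf ⟨[(nat_lit 5), (nat_lit 1), (nat_lit 4), (nat_lit 5), (nat_lit 1), (nat_lit 5), (nat_lit 4), (nat_lit 1), (nat_lit 4), (nat_lit 5), (nat_lit 1)], (nat_lit 26), (nat_lit 10), (nat_lit 0), (nat_lit 5)⟩)))) (BT.node (nat_lit 354) (BT.node (nat_lit 353) (BT.leaf ⟨[(nat_lit 5), (nat_lit 4), (nat_lit 2), (nat_lit 5), (nat_lit 2), (nat_lit 5), (nat_lit 4), (nat_lit 2), (nat_lit 4), (nat_lit 5), (nat_lit 2)], (nat_lit 61), (nat_lit 8), (nat_lit 0), (nat_lit 4)⟩) (BT.leaf ⟨[(nat_lit 2), (nat_lit 5), (nat_lit 4), (nat_lit 2), (nat_lit 4), (nat_lit 5), (nat_lit 2), (nat_lit 5), (nat_lit 4), (nat_lit 2), (nat_lit 5)], (nat_lit 61), (nat_lit 1), (nat_lit 0), (nat_lit 4)⟩)) (BT.node (nat_lit 355) (BT.leaf ⟨[(nat_lit 5), (nat_lit 6), (nat_lit 5), (nat_lit 1), (nat_lit 5), (nat_lit 1), (nat_lit 6), (nat_lit 2), (nat_lit 5), (nat_lit 2)], (nat_lit 24), (nat_lit 4), (nat_lit 0), (nat_lit 4)⟩) (BT.node (nat_lit 356) (BT.leaf ⟨[(nat_lit 6), (nat_lit 1), (nat_lit 5), (nat_lit 2), (nat_lit 6), (nat_lit 2), (nat_lit 6), (nat_lit 5), (nat_lit 6), (nat_lit 1)], (nat_lit 23), (nat_lit 8), (nat_lit 0), (nat_lit 4)⟩) (BT.leaf ⟨[(nat_lit 6), (nat_lit 1), (nat_lit 5), (nat_lit 2), (nat_lit 6), (nat_lit 2), (nat_lit 6), (nat_lit 5), (nat_lit 6), (nat_lit 1)], (nat_lit 23), (nat_lit 8), (nat_lit 0), (nat_lit 5)⟩))))) (BT.node (nat_lit 362) (BT.node (nat_lit 359) (BT.node (nat_lit 358) (BT.leaf ⟨[(nat_lit 0), (nat_lit 4), (nat_lit 5), (nat_lit 2), (nat_lit 5), (nat_lit 4), (nat_lit 2), (nat_lit 5), (nat_lit 2), (nat_lit 5), (nat_lit 4), (nat_lit 2)], (nat_lit 61), (nat_lit 5), (nat_lit 1), (nat_lit 5)⟩) (BT.leaf ⟨[(nat_lit 5), (nat_lit 1), (nat_lit 5), (nat_lit 1), (nat_lit 4), (nat_lit 5), (nat_lit 1), (nat_lit 5), (nat_lit 4), (nat_lit 1), (nat_lit 4)], (nat_lit 26), (nat_lit 8), (nat_lit 0), (nat_lit 5)⟩)) (BT.node (nat_lit 360) (BT.leaf ⟨[(nat_lit 0), (nat_lit 5), (nat_lit 6), (nat_lit 5), (nat_lit 1), (nat_lit 5), (nat_lit 1), (nat_lit 6), (nat_lit 2), (nat_lit 5), (nat_lit 2)], (nat_lit 24), (nat_lit 4), (nat_lit 1), (nat_lit 3)⟩) (BT.node (nat_lit 361) (BT.leaf ⟨[(nat_lit 0), (nat_lit 5), (nat_lit 2), (nat_lit 5), (nat_lit 4), (nat_lit 2), (nat_lit 4), (nat_lit 5), (nat_lit 2), (nat_lit 5), (nat_lit 4), (nat_lit 2)], (nat_lit 61), (nat_lit 0), (nat_lit 1), (nat_lit 3)⟩) (BT.leaf ⟨[(nat_lit 5), (nat_lit 4), (nat_lit 2), (nat_lit 4), (nat_lit 5), (nat_lit 2), (nat_lit 5), (nat_lit 4), (nat_lit 2), (nat_lit 5), (nat_lit 2)], (nat_lit 61), (nat_lit 2), (nat_lit 0), (nat_lit 5)⟩)))) (BT.node (nat_lit 365) (BT.node (nat_lit 363) (BT.leaf ⟨[(nat_lit 5), (nat_lit 4), (nat_lit 2), (nat_lit 5), (nat_lit 2), (nat_lit 5), (nat_lit 4), (nat_lit 2), (nat_lit 4), (nat_lit 5), (nat_lit 2)], (nat_lit 61), (nat_lit 8), (nat_lit 0), (nat_lit 5)⟩) (BT.node (nat_lit 364) (BT.leaf ⟨[(nat_lit 1), (nat_lit 4), (nat_lit 5), (nat_lit 1), (nat_lit 5), (nat_lit 4), (nat_lit 1), (nat_lit 4), (nat_lit 5), (nat_lit 1), (nat_lit 5)], (nat_lit 26), (nat_lit 0), (nat_lit 0), (nat_lit 5)⟩) (BT.leaf ⟨[(nat_lit 0), (nat_lit 4), (nat_lit 8), (nat_lit 4), (nat_lit 8)], (nat_lit 14), (nat_lit 0), (nat_lit 1), (nat_lit 5)⟩))) (BT.node (nat_lit 366) (BT.leaf ⟨[(nat_lit 2), (nat_lit 6), (nat_lit 2), (nat_lit 6), (nat_lit 5), (nat_lit 6), (nat_lit 1), (nat_lit 6), (nat_lit 1), (nat_lit 5)], (nat_lit 23), (nat_lit 1), (nat_lit 0), (nat_lit 5)⟩) (BT.node (nat_lit 367) (BT.leaf ⟨[(nat_lit 5), (nat_lit 6), (nat_lit 5), (nat_lit 1), (nat_lit 5), (nat_lit 1), (nat_lit 6), (nat_lit 2), (nat_lit 5), (nat_lit 2)], (nat_lit 24), (nat_lit 4), (nat_lit 0), (nat_lit 5)⟩) (BT.leaf ⟨[(nat_lit 0), (nat_lit 5), (nat_lit 4), (nat_lit 2), (nat_lit 5), (nat_lit 2), (nat_lit 5), (nat_lit 4), (nat_lit 2), (nat_lit 4), (nat_lit 5), (nat_lit 2)], (nat_lit 61), (nat_lit 8), (nat_lit 1), (nat_lit 3)⟩)))))) (BT.node (nat_lit 379) (BT.node (nat_lit 373) (BT.node (nat_lit 370) (BT.node (nat_lit 369) (BT.leaf ⟨[(nat_lit 4), (nat_lit 5), (nat_lit 1), (nat_lit 5), (nat_lit 1), (nat_lit 4), (nat_lit 5), (nat_lit 1), (nat_lit 5), (nat_lit 4), (nat_lit 1)], (nat_lit 26), (nat_lit 7), (nat_lit 0), (nat_lit 5)⟩) (BT.leaf ⟨[(nat_lit 0), (nat_lit 4), (nat_lit 5), (nat_lit 1), (nat_lit 5), (nat_lit 1), (nat_lit 4), (nat_lit 5), (nat_lit 1), (nat_lit 5), (nat_lit 4), (nat_lit 1)], (nat_lit 26), (nat_lit 7), (nat_lit 1), (nat_lit 3)⟩)) (BT.node (nat_lit 371) (BT.leaf ⟨[(nat_lit 0), (nat_lit 4), (nat_lit 5), (nat_lit 1), (nat_lit 5), (nat_lit 4), (nat_lit 1), (nat_lit 4), (nat_lit 5), (nat_lit 1), (nat_lit 5), (nat_lit 1)], (nat_lit 26), (nat_lit 1), (nat_lit 1), (nat_lit 3)⟩) (BT.node (nat_lit 372) (BT.leaf ⟨[(nat_lit 7), (nat_lit 6), (nat_lit 1), (nat_lit 6), (nat_lit 7), (nat_lit 1), (nat_lit 7), (nat_lit 6), (nat_lit 1), (nat_lit 6), (nat_lit 1)], (nat_lit 27), (nat_lit 1), (nat_lit 0), (nat_lit 5)⟩) (BT.leaf ⟨[(nat_lit 0), (nat_lit 6), (nat_lit 7), (nat_lit 2), (nat_lit 6), (nat_lit 2), (nat_lit 6), (nat_lit 7), (nat_lit 2), (nat_lit 7), (nat_lit 6), (nat_lit 2)], (nat_lit 62), (nat_lit 8), (nat_lit 1), (nat_lit 5)⟩)))) (BT.node (nat_lit 376) (BT.node (nat_lit 374) (BT.leaf ⟨[(nat_lit 0), (nat_lit 5), (nat_lit 4), (nat_lit 1), (nat_lit 4), (nat_lit 5), (nat_lit 1), (nat_lit 5), (nat_lit 1), (nat_lit 4), (nat_lit 5), (nat_lit 1)], (nat_lit 26), (nat_lit 4), (nat_lit 1), (nat_lit 5)⟩) (BT.node (nat_lit 375) (BT.leaf ⟨[(nat_lit 0), (nat_lit 5), (nat_lit 2), (nat_lit 6), (nat_lit 2), (nat_lit 6), (nat_lit 5), (nat_lit 6), (nat_lit 1), (nat_lit 6), (nat_lit 1)], (nat_lit 23), (nat_lit 0), (nat_lit 1), (nat_lit 3)⟩) (BT.leaf ⟨[(nat_lit 1), (nat_lit 5), (nat_lit 2), (nat_lit 6), (nat_lit 2), (nat_lit 6), (nat_lit 5), (nat_lit 6), (nat_lit 1), (nat_lit 6)], (nat_lit 23), (nat_lit 9), (nat_lit 0), (nat_lit 4)⟩))) (BT.node (nat_lit 377) (BT.leaf ⟨[(nat_lit 7), (nat_lit 1), (nat_lit 7), (nat_lit 6), (nat_lit 1), (nat_lit 6), (nat_lit 1), (nat_lit 7), (nat_lit 6), (nat_lit 1), (nat_lit 6)], (nat_lit 27), (nat_lit 5), (nat_lit 0), (nat_lit 4)⟩) (BT.node (nat_lit 378) (BT.leaf ⟨[(nat_lit 5), (nat_lit 4), (nat_lit 5), (nat_lit 4), (nat_lit 5), (nat_lit 4)], (nat_lit 11), (nat_lit 1), (nat_lit 0), (nat_lit 4)⟩) (BT.leaf ⟨[(nat_lit 0), (nat_lit 2), (nat_lit 3), (nat_lit 8), (nat_lit 2)], (nat_lit 21), (nat_lit 3), (nat_lit 1), (nat_lit 4)⟩))))) (BT.node (nat_lit 384) (BT.node (nat_lit 381) (BT.node (nat_lit 380) (BT.leaf ⟨[(nat_lit 5), (nat_lit 6), (nat_lit 5), (nat_lit 6), (nat_lit 5), (nat_lit 3), (nat_lit 8), (nat_lit 6), (nat_lit 5), (nat_lit 6)], (nat_lit 22), (nat_lit 5), (nat_lit 0), (nat_lit 4)⟩) (BT.leaf ⟨[(nat_lit 8), (nat_lit 3), (nat_lit 5), (nat_lit 6), (nat_lit 5), (nat_lit 6), (nat_lit 5), (nat_lit 6), (nat_lit 5), (nat_lit 6)], (nat_lit 57), (nat_lit 8), (nat_lit 0), (nat_lit 4)⟩)) (BT.node (nat_lit 382) (BT.leaf ⟨[(nat_lit 5), (nat_lit 1), (nat_lit 5), (nat_lit 1), (nat_lit 6), (nat_lit 2), (nat_lit 5), (nat_lit 2), (nat_lit 5), (nat_lit 6)], (nat_lit 24), (nat_lit 6), (nat_lit 0), (nat_lit 4)⟩) (BT.node (nat_lit 383) (BT.leaf ⟨[(nat_lit 0), (nat_lit 7), (nat_lit 3), (nat_lit 7), (nat_lit 3)], (nat_lit 9), (nat_lit 1), (nat_lit 1), (nat_lit 4)⟩) (BT.leaf ⟨[(nat_lit 0), (nat_lit 7), (nat_lit 6), (nat_lit 1), (nat_lit 6), (nat_lit 1), (nat_lit 7), (nat_lit 6), (nat_lit 1), (nat_lit 6), (nat_lit 7), (nat_lit 1)], (nat_lit 27), (nat_lit 7), (nat_lit 1), (nat_lit 4)⟩)))) (BT.node (nat_lit 387) (BT.node (nat_lit 385) (BT.leaf ⟨[(nat_lit 5), (nat_lit 1), (nat_lit 5), (nat_lit 4), (nat_lit 1), (nat_lit 4), (nat_lit 5), (nat_lit 1), (nat_lit 5), (nat_lit 1), (nat_lit 4)], (nat_lit 26), (nat_lit 2), (nat_lit 0), (nat_lit 4)⟩) (BT.node (nat_lit 386) (BT.leaf ⟨[(nat_lit 6), (nat_lit 2), (nat_lit 6), (nat_lit 7), (nat_lit 2), (nat_lit 6), (nat_lit 2), (nat_lit 6), (nat_lit 7), (nat_lit 2), (nat_lit 7)], (nat_lit 62), (nat_lit 6), (nat_lit 0), (nat_lit 4)⟩) (BT.leaf ⟨[(nat_lit 5), (nat_lit 2), (nat_lit 5), (nat_lit 4), (nat_lit 2), (nat_lit 5), (nat_lit 2), (nat_lit 5), (nat_lit 4), (nat_lit 2), (nat_lit 4)], (nat_lit 61), (nat_lit 6), (nat_lit 0), (nat_lit 4)⟩))) (BT.node (nat_lit 388) (BT.leaf ⟨[(nat_lit 2), (nat_lit 6), (nat_lit 2), (nat_lit 6), (nat_lit 5), (nat_lit 6), (nat_lit 1), (nat_lit 6), (nat_lit 1), (nat_lit 5)], (nat_lit 23), (nat_lit 1), (nat_lit 0), (nat_lit 4)⟩) (BT.node (nat_lit 389) (BT.leaf ⟨[(nat_lit 1), (nat_lit 4), (nat_lit 5), (nat_lit 1), (nat_lit 5), (nat_lit 1), (nat_lit 4), (nat_lit 5), (nat_lit 1), (nat_lit 5), (nat_lit 4)], (nat_lit 26), (nat_lit 6), (nat_lit 0), (nat_lit 4)⟩) (BT.leaf ⟨[(nat_lit 0), (nat_lit 5), (nat_lit 4), (nat_lit 2), (nat_lit 4), (nat_lit 5), (nat_lit 2), (nat_lit 5), (nat_lit 4), (nat_lit 2), (nat_lit 5), (nat_lit 2)], (nat_lit 61), (nat_lit 2), (nat_lit 1), (nat_lit 3)⟩))))))) (BT.node (nat_lit 411) (BT.node (nat_lit 400) (BT.node (nat_lit 395) (BT.node (nat_lit 392) (BT.node (nat_lit 391) (BT.leaf ⟨[(nat_lit 0), (nat_lit 6), (nat_lit 2), (nat_lit 5), (nat_lit 2), (nat_lit 5), (nat_lit 6), (nat_lit 5), (nat_lit 1), (nat_lit 5), (nat_lit 1)], (nat_lit 24), (nat_lit 0), (nat_lit 1), (nat_lit 3)⟩) (BT.leaf ⟨[(nat_lit 0), (nat_lit 3), (nat_lit 5), (nat_lit 3), (nat_lit 5)], (nat_lit 7), (nat_lit 0), (nat_lit 1), (nat_lit 3)⟩)) (BT.node (nat_lit 393) (BT.leaf ⟨[(nat_lit 0), (nat_lit 5), (nat_lit 2), (nat_lit 6), (nat_lit 2), (nat_lit 6), (nat_lit 5), (nat_lit 6), (nat_lit 1), (nat_lit 6), (nat_lit 1)], (nat_lit 23), (nat_lit 0), (nat_lit 1), (nat_lit 4)⟩) (BT.node (nat_lit 394) (BT.leaf ⟨[(nat_lit 6), (nat_lit 1), (nat_lit 6), (nat_lit 1), (nat_lit 5), (nat_lit 2), (nat_lit 6), (nat_lit 2), (nat_lit 6), (nat_lit 5)], (nat_lit 23), (nat_lit 6), (nat_lit 0), (nat_lit 4)⟩) (BT.leaf ⟨[(nat_lit 3), (nat_lit 4), (nat_lit 3), (nat_lit 4), (nat_lit 3), (nat_lit 4)], (nat_lit 6), (nat_lit 0), (nat_lit 0), (nat_lit 4)⟩)))) (BT.node (nat_lit 397) (BT.node (nat_lit 396) (BT.leaf ⟨[(nat_lit 4), (nat_lit 5), (nat_lit 4), (nat_lit 5), (nat_lit 4), (nat_lit 5)], (nat_lit 11), (nat_lit 0), (nat_lit 0), (nat_lit 4)⟩) (BT.leaf ⟨[(nat_lit 0), (nat_lit 5), (nat_lit 3), (nat_lit 5), (nat_lit 3)], (nat_lit 7), (nat_lit 1), (nat_lit 1), (nat_lit 4)⟩)) (BT.node (nat_lit 398) (BT.leaf ⟨[(nat_lit 0), (nat_lit 1), (nat_lit 8), (nat_lit 3), (nat_lit 1)], (nat_lit 56), (nat_lit 1), (nat_lit 1), (nat_lit 4)⟩) (BT.node (nat_lit 399) (BT.leaf ⟨[(nat_lit 0), (nat_lit 6), (nat_lit 2), (nat_lit 6), (nat_lit 5), (nat_lit 6), (nat_lit 1), (nat_lit 6), (nat_lit 1), (nat_lit 5), (nat_lit 2)], (nat_lit 23), (nat_lit 2), (nat_lit 1), (nat_lit 5)⟩) (BT.leaf ⟨[(nat_lit 5), (nat_lit 2), (nat_lit 5), (nat_lit 6), (nat_lit 5), (nat_lit 1), (nat_lit 5), (nat_lit 1), (nat_lit 6), (nat_lit 2)], (nat_lit 24), (nat_lit 2), (nat_lit 0), (nat_lit 4)⟩))))) (BT.node (nat_lit 405) (BT.node (nat_lit 402) (BT.node (nat_lit 401) (BT.leaf ⟨[(nat_lit 2), (nat_lit 5), (nat_lit 2), (nat_lit 5), (nat_lit 6), (nat_lit 5), (nat_lit 1), (nat_lit 5), (nat_lit 1), (nat_lit 6)], (nat_lit 24), (nat_lit 1), (nat_lit 0), (nat_lit 4)⟩) (BT.leaf ⟨[(nat_lit 0), (nat_lit 2), (nat_lit 2), (nat_lit 3), (nat_lit 8)], (nat_lit 21), (nat_lit 2), (nat_lit 1), (nat_lit 5)⟩)) (BT.node (nat_lit 403) (BT.leaf ⟨[(nat_lit 2), (nat_lit 5), (nat_lit 2), (nat_lit 5), (nat_lit 6), (nat_lit 5), (nat_lit 1), (nat_lit 5), (nat_lit 1), (nat_lit 6)], (nat_lit 24), (nat_lit 1), (nat_lit 0), (nat_lit 5)⟩) (BT.node (nat_lit 404) (BT.leaf ⟨[(nat_lit 1), (nat_lit 4), (nat_lit 5), (nat_lit 1), (nat_lit 5), (nat_lit 4), (nat_lit 1), (nat_lit 4), (nat_lit 5), (nat_lit 1), (nat_lit 5)], (nat_lit 26), (nat_lit 0), (nat_lit 0), (nat_lit 4)⟩) (BT.leaf ⟨[(nat_lit 0), (nat_lit 4), (nat_lit 3), (nat_lit 4), (nat_lit 3), (nat_lit 4), (nat_lit 3)], (nat_lit 6), (nat_lit 1), (nat_lit 1), (nat_lit 3)⟩)))) (BT.node (nat_lit 408) (BT.node (nat_lit 406) (BT.leaf ⟨[(nat_lit 0), (nat_lit 1), (nat_lit 1), (nat_lit 8), (nat_lit 3)], (nat_lit 56), (nat_lit 0), (nat_lit 1), (nat_lit 5)⟩) (BT.node (nat_lit 407) (BT.leaf ⟨[(nat_lit 0), (nat_lit 6), (nat_lit 3), (nat_lit 6), (nat_lit 3)], (nat_lit 8), (nat_lit 1), (nat_lit 1), (nat_lit 4)⟩) (BT.leaf ⟨[(nat_lit 2), (nat_lit 5), (nat_lit 2), (nat_lit 5), (nat_lit 4), (nat_lit 2), (nat_lit 4), (nat_lit 5), (nat_lit 2), (nat_lit 5), (nat_lit 4)], (nat_lit 61), (nat_lit 10), (nat_lit 0), (nat_lit 5)⟩))) (BT.node (nat_lit 409) (BT.leaf ⟨[(nat_lit 4), (nat_lit 5), (nat_lit 1), (nat_lit 5), (nat_lit 4), (nat_lit 1), (nat_lit 4), (nat_lit 5), (nat_lit 1), (nat_lit 5), (nat_lit 1)], (nat_lit 26), (nat_lit 1), (nat_lit 0), (nat_lit 4)⟩) (BT.node (nat_lit 410) (BT.leaf ⟨[(nat_lit 0), (nat_lit 4), (nat_lit 8), (nat_lit 4), (nat_lit 8)], (nat_lit 14), (nat_lit 0), (nat_lit 1), (nat_lit 4)⟩) (BT.leaf ⟨[(nat_lit 0), (nat_lit 7), (nat_lit 6), (nat_lit 2), (nat_lit 6), (nat_lit 7), (nat_lit 2), (nat_lit 6), (nat_lit 2), (nat_lit 6), (nat_lit 7), (nat_lit 2)], (nat_lit 62), (nat_lit 5), (nat_lit 1), (nat_lit 3)⟩)))))) (BT.node (nat_lit 422) (BT.node (nat_lit 416) (BT.node (nat_lit 413) (BT.node (nat_lit 412) (BT.leaf ⟨[(nat_lit 6), (nat_lit 7), (nat_lit 2), (nat_lit 7), (nat_lit 6), (nat_lit 2), (nat_lit 6), (nat_lit 7), (nat_lit 2), (nat_lit 6), (nat_lit 2)], (nat_lit 62), (nat_lit 2), (nat_lit 0), (nat_lit 4)⟩) (BT.leaf ⟨[(nat_lit 5), (nat_lit 4), (nat_lit 1), (nat_lit 4), (nat_lit 5), (nat_lit 1), (nat_lit 5), (nat_lit 1), (nat_lit 4), (nat_lit 5), (nat_lit 1)], (nat_lit 26), (nat_lit 4), (nat_lit 0), (nat_lit 4)⟩)) (BT.node (nat_lit 414) (BT.leaf ⟨[(nat_lit 0), (nat_lit 7), (nat_lit 6), (nat_lit 1), (nat_lit 6), (nat_lit 7), (nat_lit 1), (nat_lit 7), (nat_lit 6), (nat_lit 1), (nat_lit 6), (nat_lit 1)], (nat_lit 27), (nat_lit 1), (nat_lit 1), (nat_lit 4)⟩) (BT.node (nat_lit 415) (BT.leaf ⟨[(nat_lit 0), (nat_lit 3), (nat_lit 8), (nat_lit 2), (nat_lit 2)], (nat_lit 21), (nat_lit 0), (nat_lit 1), (nat_lit 3)⟩) (BT.leaf ⟨[(nat_lit 0), (nat_lit 5), (nat_lit 1), (nat_lit 5), (nat_lit 4), (nat_lit 1), (nat_lit 4), (nat_lit 5), (nat_lit 1), (nat_lit 5), (nat_lit 1), (nat_lit 4)], (nat_lit 26), (nat_lit 2), (nat_lit 1), (nat_lit 3)⟩)))) (BT.node (nat_lit 419) (BT.node (nat_lit 417) (BT.leaf ⟨[(nat_lit 5), (nat_lit 1), (nat_lit 4), (nat_lit 5), (nat_lit 1), (nat_lit 5), (nat_lit 4), (nat_lit 1), (nat_lit 4), (nat_lit 5), (nat_lit 1)], (nat_lit 26), (nat_lit 10), (nat_lit 0), (nat_lit 4)⟩) (BT.node (nat_lit 418) (BT.leaf ⟨[(nat_lit 0), (nat_lit 5), (nat_lit 3), (nat_lit 5), (nat_lit 3)], (nat_lit 7), (nat_lit 1), (nat_lit 1), (nat_lit 5)⟩) (BT.leaf ⟨[(nat_lit 0), (nat_lit 5), (nat_lit 8), (nat_lit 5), (nat_lit 8)], (nat_lit 17), (nat_lit 0), (nat_lit 1), (nat_lit 5)⟩))) (BT.node (nat_lit 420) (BT.leaf ⟨[(nat_lit 0), (nat_lit 1), (nat_lit 1), (nat_lit 8), (nat_lit 3)], (nat_lit 56), (nat_lit 0), (nat_lit 1), (nat_lit 3)⟩) (BT.node (nat_lit 421) (BT.leaf ⟨[(nat_lit 0), (nat_lit 1), (nat_lit 4), (nat_lit 5), (nat_lit 1), (nat_lit 5), (nat_lit 4), (nat_lit 1), (nat_lit 4), (nat_lit 5), (nat_lit 1), (nat_lit 5)], (nat_lit 26), (nat_lit 0), (nat_lit 1), (nat_lit 4)⟩) (BT.leaf ⟨[(nat_lit 0), (nat_lit 8), (nat_lit 3), (nat_lit 1), (nat_lit 1)], (nat_lit 56), (nat_lit 2), (nat_lit 1), (nat_lit 4)⟩))))) (BT.node (nat_lit 427) (BT.node (nat_lit 424) (BT.node (nat_lit 423) (BT.leaf ⟨[(nat_lit 5), (nat_lit 1), (nat_lit 5), (nat_lit 1), (nat_lit 4), (nat_lit 5), (nat_lit 1), (nat_lit 5), (nat_lit 4), (nat_lit 1), (nat_lit 4)], (nat_lit 26), (nat_lit 8), (nat_lit 0), (nat_lit 4)⟩) (BT.leaf ⟨[(nat_lit 0), (nat_lit 1), (nat_lit 1), (nat_lit 8), (nat_lit 3)], (nat_lit 56), (nat_lit 0), (nat_lit 1), (nat_lit 4)⟩)) (BT.node (nat_lit 425) (BT.leaf ⟨[(nat_lit 6), (nat_lit 7), (nat_lit 2), (nat_lit 7), (nat_lit 6), (nat_lit 2), (nat_lit 6), (nat_lit 7), (nat_lit 2), (nat_lit 6), (nat_lit 2)], (nat_lit 62), (nat_lit 2), (nat_lit 0), (nat_lit 5)⟩) (BT.node (nat_lit 426) (BT.leaf ⟨[(nat_lit 0), (nat_lit 5), (nat_lit 4), (nat_lit 1), (nat_lit 4), (nat_lit 5), (nat_lit 1), (nat_lit 5), (nat_lit 1), (nat_lit 4), (nat_lit 5), (nat_lit 1)], (nat_lit 26), (nat_lit 4), (nat_lit 1), (nat_lit 3)⟩) (BT.leaf ⟨[(nat_lit 5), (nat_lit 6), (nat_lit 8), (nat_lit 3), (nat_lit 5), (nat_lit 6), (nat_lit 5), (nat_lit 6), (nat_lit 5), (nat_lit 6)], (nat_lit 57), (nat_lit 6), (nat_lit 0), (nat_lit 5)⟩)))) (BT.node (nat_lit 430) (BT.node (nat_lit 428) (BT.leaf ⟨[(nat_lit 0), (nat_lit 8), (nat_lit 5), (nat_lit 8), (nat_lit 5)], (nat_lit 17), (nat_lit 1), (nat_lit 1), (nat_lit 4)⟩) (BT.node (nat_lit 429) (BT.leaf ⟨[(nat_lit 1), (nat_lit 4), (nat_lit 5), (nat_lit 6), (nat_lit 1), (nat_lit 4), (nat_lit 5), (nat_lit 6), (nat_lit 1), (nat_lit 4), (nat_lit 5), (nat_lit 6), (nat_lit 1), (nat_lit 4), (nat_lit 5), (nat_lit 6), (nat_lit 1), (nat_lit 4), (nat_lit 5), (nat_lit 6)], (nat_lit 25), (nat_lit 3), (nat_lit 0), (nat_lit 4)⟩) (BT.leaf ⟨[(nat_lit 0), (nat_lit 6), (nat_lit 4), (nat_lit 6), (nat_lit 4)], (nat_lit 12), (nat_lit 1), (nat_lit 1), (nat_lit 5)⟩))) (BT.node (nat_lit 431) (BT.leaf ⟨[(nat_lit 0), (nat_lit 4), (nat_lit 7), (nat_lit 4), (nat_lit 7)], (nat_lit 13), (nat_lit 0), (nat_lit 1), (nat_lit 3)⟩) (BT.node (nat_lit 432) (BT.leaf ⟨[(nat_lit 0), (nat_lit 6), (nat_lit 4), (nat_lit 6), (nat_lit 4)], (nat_lit 12), (nat_lit 1), (nat_lit 1), (nat_lit 3)⟩) (BT.leaf ⟨[(nat_lit 0), (nat_lit 8), (nat_lit 4), (nat_lit 8), (nat_lit 4)], (nat_lit 14), (nat_lit 1), (nat_lit 1), (nat_lit 5)⟩)))))))) (BT.node (nat_lit 476) (BT.node (nat_lit 454) (BT.node (nat_lit 443) (BT.node (nat_lit 438) (BT.node (nat_lit 435) (BT.node (nat_lit 434) (BT.leaf ⟨[(nat_lit 0), (nat_lit 4), (nat_lit 7), (nat_lit 4), (nat_lit 7)], (nat_lit 13), (nat_lit 0), (nat_lit 1), (nat_lit 5)⟩) (BT.leaf ⟨[(nat_lit 0), (nat_lit 3), (nat_lit 8), (nat_lit 3), (nat_lit 8)], (nat_lit 10), (nat_lit 0), (nat_lit 1), (nat_lit 3)⟩)) (BT.node (nat_lit 436) (BT.leaf ⟨[(nat_lit 0), (nat_lit 3), (nat_lit 6), (nat_lit 3), (nat_lit 6)], (nat_lit 8), (nat_lit 0), (nat_lit 1), (nat_lit 5)⟩) (BT.node (nat_lit 437) (BT.leaf ⟨[(nat_lit 0), (nat_lit 1), (nat_lit 8), (nat_lit 3), (nat_lit 1)], (nat_lit 56), (nat_lit 1), (nat_lit 1), (nat_lit 5)⟩) (BT.leaf ⟨[(nat_lit 0), (nat_lit 3), (nat_lit 8), (nat_lit 3), (nat_lit 8)], (nat_lit 10), (nat_lit 0), (nat_lit 1), (nat_lit 4)⟩)))) (BT.node (nat_lit 440) (BT.node (nat_lit 439) (BT.leaf ⟨[(nat_lit 0), (nat_lit 3), (nat_lit 6), (nat_lit 3), (nat_lit 6)], (nat_lit 8), (nat_lit 0), (nat_lit 1), (nat_lit 3)⟩) (BT.leaf ⟨[(nat_lit 6), (nat_lit 5), (nat_lit 3), (nat_lit 8), (nat_lit 6), (nat_lit 5), (nat_lit 6), (nat_lit 5), (nat_lit 6), (nat_lit 5)], (nat_lit 22), (nat_lit 8), (nat_lit 0), (nat_lit 5)⟩)) (BT.node (nat_lit 441) (BT.leaf ⟨[(nat_lit 6), (nat_lit 5), (nat_lit 6), (nat_lit 5), (nat_lit 6), (nat_lit 5), (nat_lit 6), (nat_lit 5), (nat_lit 3), (nat_lit 8)], (nat_lit 22), (nat_lit 2), (nat_lit 0), (nat_lit 5)⟩) (BT.node (nat_lit 442) (BT.leaf ⟨[(nat_lit 0), (nat_lit 6), (nat_lit 5), (nat_lit 6), (nat_lit 1), (nat_lit 6), (nat_lit 1), (nat_lit 5), (nat_lit 2), (nat_lit 6), (nat_lit 2)], (nat_lit 23), (nat_lit 4), (nat_lit 1), (nat_lit 5)⟩) (BT.leaf ⟨[(nat_lit 0), (nat_lit 1), (nat_lit 5), (nat_lit 2), (nat_lit 6), (nat_lit 2), (nat_lit 6), (nat_lit 5), (nat_lit 6), (nat_lit 1), (nat_lit 6)], (nat_lit 23), (nat_lit 9), (nat_lit 1), (nat_lit 5)⟩))))) (BT.node (nat_lit 448) (BT.node (nat_lit 445) (BT.node (nat_lit 444) (BT.leaf ⟨[(nat_lit 5), (nat_lit 6), (nat_lit 5), (nat_lit 3), (nat_lit 8), (nat_lit 6), (nat_lit 5), (nat_lit 6), (nat_lit 5), (nat_lit 6)], (nat_lit 22), (nat_lit 7), (nat_lit 0), (nat_lit 5)⟩) (BT.leaf ⟨[(nat_lit 0), (nat_lit 8), (nat_lit 3), (nat_lit 1), (nat_lit 1)], (nat_lit 56), (nat_lit 2), (nat_lit 1), (nat_lit 5)⟩)) (BT.node (nat_lit 446) (BT.leaf ⟨[(nat_lit 0), (nat_lit 4), (nat_lit 5), (nat_lit 4), (nat_lit 5), (nat_lit 4), (nat_lit 5)], (nat_lit 11), (nat_lit 0), (nat_lit 1), (nat_lit 4)⟩) (BT.node (nat_lit 447) (BT.leaf ⟨[(nat_lit 0), (nat_lit 5), (nat_lit 1), (nat_lit 6), (nat_lit 2), (nat_lit 5), (nat_lit 2), (nat_lit 5), (nat_lit 6), (nat_lit 5), (nat_lit 1)], (nat_lit 24), (nat_lit 8), (nat_lit 1), (nat_lit 3)⟩) (BT.leaf ⟨[(nat_lit 0), (nat_lit 6), (nat_lit 2), (nat_lit 6), (nat_lit 5), (nat_lit 6), (nat_lit 1), (nat_lit 6), (nat_lit 1), (nat_lit 5), (nat_lit 2)], (nat_lit 23), (nat_lit 2), (nat_lit 1), (nat_lit 3)⟩)))) (BT.node (nat_lit 451) (BT.node (nat_lit 449) (BT.leaf ⟨[(nat_lit 0), (nat_lit 5), (nat_lit 4), (nat_lit 2), (nat_lit 5), (nat_lit 2), (nat_lit 5), (nat_lit 4), (nat_lit 2), (nat_lit 4), (nat_lit 5), (nat_lit 2)], (nat_lit 61), (nat_lit 8), (nat_lit 1), (nat_lit 5)⟩) (BT.node (nat_lit 450) (BT.leaf ⟨[(nat_lit 0), (nat_lit 5), (nat_lit 1), (nat_lit 5), (nat_lit 1), (nat_lit 4), (nat_lit 5), (nat_lit 1), (nat_lit 5), (nat_lit 4), (nat_lit 1), (nat_lit 4)], (nat_lit 26), (nat_lit 8), (nat_lit 1), (nat_lit 3)⟩) (BT.leaf ⟨[(nat_lit 0), (nat_lit 8), (nat_lit 4), (nat_lit 8), (nat_lit 4)], (nat_lit 14), (nat_lit 1), (nat_lit 1), (nat_lit 3)⟩))) (BT.node (nat_lit 452) (BT.leaf ⟨[(nat_lit 0), (nat_lit 3), (nat_lit 7), (nat_lit 3), (nat_lit 7)], (nat_lit 9), (nat_lit 0), (nat_lit 1), (nat_lit 3)⟩) (BT.node (nat_lit 453) (BT.leaf ⟨[(nat_lit 0), (nat_lit 1), (nat_lit 4), (nat_lit 5), (nat_lit 1), (nat_lit 5), (nat_lit 4), (nat_lit 1), (nat_lit 4), (nat_lit 5), (nat_lit 1), (nat_lit 5)], (nat_lit 26), (nat_lit 0), (nat_lit 1), (nat_lit 5)⟩) (BT.leaf ⟨[(nat_lit 7), (nat_lit 2), (nat_lit 7), (nat_lit 6), (nat_lit 2), (nat_lit 6), (nat_lit 7), (nat_lit 2), (nat_lit 6), (nat_lit 2), (nat_lit 6)], (nat_lit 62), (nat_lit 3), (nat_lit 0), (nat_lit 5)⟩)))))) (BT.node (nat_lit 465) (BT.node (nat_lit 459) (BT.node (nat_lit 456) (BT.node (nat_lit 455) (BT.leaf ⟨[(nat_lit 0), (nat_lit 7), (nat_lit 8), (nat_lit 7), (nat_lit 8), (nat_lit 7), (nat_lit 8)], (nat_lit 20), (nat_lit 0), (nat_lit 1), (nat_lit 4)⟩) (BT.leaf ⟨[(nat_lit 7), (nat_lit 6), (nat_lit 1), (nat_lit 6), (nat_lit 1), (nat_lit 7), (nat_lit 6), (nat_lit 1), (nat_lit 6), (nat_lit 7), (nat_lit 1)], (nat_lit 27), (nat_lit 7), (nat_lit 0), (nat_lit 5)⟩)) (BT.node (nat_lit 457) (BT.leaf ⟨[(nat_lit 0), (nat_lit 6), (nat_lit 5), (nat_lit 6), (nat_lit 1), (nat_lit 6), (nat_lit 1), (nat_lit 5), (nat_lit 2), (nat_lit 6), (nat_lit 2)], (nat_lit 23), (nat_lit 4), (nat_lit 1), (nat_lit 3)⟩) (BT.node (nat_lit 458) (BT.leaf ⟨[(nat_lit 0), (nat_lit 4), (nat_lit 6), (nat_lit 4), (nat_lit 6)], (nat_lit 12), (nat_lit 0), (nat_lit 1), (nat_lit 3)⟩) (BT.leaf ⟨[(nat_lit 5), (nat_lit 6), (nat_lit 5), (nat_lit 6), (nat_lit 5), (nat_lit 6), (nat_lit 5), (nat_lit 3), (nat_lit 8), (nat_lit 6)], (nat_lit 22), (nat_lit 3), (nat_lit 0), (nat_lit 5)⟩)))) (BT.node (nat_lit 462) (BT.node (nat_lit 460) (BT.leaf ⟨[(nat_lit 0), (nat_lit 6), (nat_lit 2), (nat_lit 6), (nat_lit 7), (nat_lit 2), (nat_lit 7), (nat_lit 6), (nat_lit 2), (nat_lit 6), (nat_lit 7), (nat_lit 2)], (nat_lit 62), (nat_lit 0), (nat_lit 1), (nat_lit 5)⟩) (BT.node (nat_lit 461) (BT.leaf ⟨[(nat_lit 0), (nat_lit 1), (nat_lit 6), (nat_lit 7), (nat_lit 1), (nat_lit 7), (nat_lit 6), (nat_lit 1), (nat_lit 6), (nat_lit 1), (nat_lit 7), (nat_lit 6)], (nat_lit 27), (nat_lit 3), (nat_lit 1), (nat_lit 5)⟩) (BT.leaf ⟨[(nat_lit 0), (nat_lit 4), (nat_lit 5), (nat_lit 2), (nat_lit 5), (nat_lit 4), (nat_lit 2), (nat_lit 5), (nat_lit 2), (nat_lit 5), (nat_lit 4), (nat_lit 2)], (nat_lit 61), (nat_lit 5), (nat_lit 1), (nat_lit 3)⟩))) (BT.node (nat_lit 463) (BT.leaf ⟨[(nat_lit 0), (nat_lit 2), (nat_lit 4), (nat_lit 5), (nat_lit 2), (nat_lit 5), (nat_lit 4), (nat_lit 2), (nat_lit 5), (nat_lit 2), (nat_lit 5), (nat_lit 4)], (nat_lit 61), (nat_lit 4), (nat_lit 1), (nat_lit 5)⟩) (BT.node (nat_lit 464) (BT.leaf ⟨[(nat_lit 0), (nat_lit 3), (nat_lit 8), (nat_lit 2), (nat_lit 2)], (nat_lit 21), (nat_lit 0), (nat_lit 1), (nat_lit 5)⟩) (BT.leaf ⟨[(nat_lit 6), (nat_lit 1), (nat_lit 7), (nat_lit 6), (nat_lit 1), (nat_lit 6), (nat_lit 7), (nat_lit 1), (nat_lit 7), (nat_lit 6), (nat_lit 1)], (nat_lit 27), (nat_lit 10), (nat_lit 0), (nat_lit 5)⟩))))) (BT.node (nat_lit 470) (BT.node (nat_lit 467) (BT.node (nat_lit 466) (BT.leaf ⟨[(nat_lit 0), (nat_lit 6), (nat_lit 2), (nat_lit 6), (nat_lit 7), (nat_lit 2), (nat_lit 6), (nat_lit 2), (nat_lit 6), (nat_lit 7), (nat_lit 2), (nat_lit 7)], (nat_lit 62), (nat_lit 6), (nat_lit 1), (nat_lit 5)⟩) (BT.leaf ⟨[(nat_lit 7), (nat_lit 2), (nat_lit 6), (nat_lit 2), (nat_lit 6), (nat_lit 7), (nat_lit 2), (nat_lit 7), (nat_lit 6), (nat_lit 2), (nat_lit 6)], (nat_lit 62), (nat_lit 9), (nat_lit 0), (nat_lit 5)⟩)) (BT.node (nat_lit 468) (BT.leaf ⟨[(nat_lit 5), (nat_lit 6), (nat_lit 1), (nat_lit 4), (nat_lit 5), (nat_lit 6), (nat_lit 1), (nat_lit 4), (nat_lit 5), (nat_lit 6), (nat_lit 1), (nat_lit 4), (nat_lit 5), (nat_lit 6), (nat_lit 1), (nat_lit 4), (nat_lit 5), (nat_lit 6), (nat_lit 1), (nat_lit 4)], (nat_lit 25), (nat_lit 1), (nat_lit 0), (nat_lit 5)⟩) (BT.node (nat_lit 469) (BT.leaf ⟨[(nat_lit 4), (nat_lit 2), (nat_lit 6), (nat_lit 5), (nat_lit 4), (nat_lit 2), (nat_lit 6), (nat_lit 5), (nat_lit 4), (nat_lit 2), (nat_lit 6), (nat_lit 5), (nat_lit 4), (nat_lit 2), (nat_lit 6), (nat_lit 5), (nat_lit 4), (nat_lit 2), (nat_lit 6), (nat_lit 5)], (nat_lit 60), (nat_lit 3), (nat_lit 0), (nat_lit 5)⟩) (BT.leaf ⟨[(nat_lit 1), (nat_lit 4), (nat_lit 5), (nat_lit 6), (nat_lit 1), (nat_lit 4), (nat_lit 5), (nat_lit 6), (nat_lit 1), (nat_lit 4), (nat_lit 5), (nat_lit 6), (nat_lit 1), (nat_lit 4), (nat_lit 5), (nat_lit 6), (nat_lit 1), (nat_lit 4), (nat_lit 5), (nat_lit 6)], (nat_lit 25), (nat_lit 3), (nat_lit 0), (nat_lit 5)⟩)))) (BT.node (nat_lit 473) (BT.node (nat_lit 471) (BT.leaf ⟨[(nat_lit 2), (nat_lit 6), (nat_lit 5), (nat_lit 4), (nat_lit 2), (nat_lit 6), (nat_lit 5), (nat_lit 4), (nat_lit 2), (nat_lit 6), (nat_lit 5), (nat_lit 4), (nat_lit 2), (nat_lit 6), (nat_lit 5), (nat_lit 4), (nat_lit 2), (nat_lit 6), (nat_lit 5), (nat_lit 4)], (nat_lit 60), (nat_lit 0), (nat_lit 0), (nat_lit 5)⟩) (BT.node (nat_lit 472) (BT.leaf ⟨[(nat_lit 5), (nat_lit 4), (nat_lit 2), (nat_lit 6), (nat_lit 5), (nat_lit 4), (nat_lit 2), (nat_lit 6), (nat_lit 5), (nat_lit 4), (nat_lit 2), (nat_lit 6), (nat_lit 5), (nat_lit 4), (nat_lit 2), (nat_lit 6), (nat_lit 5), (nat_lit 4), (nat_lit 2), (nat_lit 6)], (nat_lit 60), (nat_lit 2), (nat_lit 0), (nat_lit 5)⟩) (BT.leaf ⟨[(nat_lit 6), (nat_lit 5), (nat_lit 4), (nat_lit 2), (nat_lit 6), (nat_lit 5), (nat_lit 4), (nat_lit 2), (nat_lit 6), (nat_lit 5), (nat_lit 4), (nat_lit 2), (nat_lit 6), (nat_lit 5), (nat_lit 4), (nat_lit 2), (nat_lit 6), (nat_lit 5), (nat_lit 4), (nat_lit 2)], (nat_lit 60), (nat_lit 1), (nat_lit 0), (nat_lit 5)⟩))) (BT.node (nat_lit 474) (BT.leaf ⟨[(nat_lit 6), (nat_lit 1), (nat_lit 4), (nat_lit 5), (nat_lit 6), (nat_lit 1), (nat_lit 4), (nat_lit 5), (nat_lit 6), (nat_lit 1), (nat_lit 4), (nat_lit 5), (nat_lit 6), (nat_lit 1), (nat_lit 4), (nat_lit 5), (nat_lit 6), (nat_lit 1), (nat_lit 4), (nat_lit 5)], (nat_lit 25), (nat_lit 2), (nat_lit 0), (nat_lit 5)⟩) (BT.node (nat_lit 475) (BT.leaf ⟨[(nat_lit 6), (nat_lit 1), (nat_lit 7), (nat_lit 6), (nat_lit 1), (nat_lit 6), (nat_lit 7), (nat_lit 1), (nat_lit 7), (nat_lit 6), (nat_lit 1)], (nat_lit 27), (nat_lit 10), (nat_lit 0), (nat_lit 4)⟩) (BT.leaf ⟨[(nat_lit 0), (nat_lit 5), (nat_lit 1), (nat_lit 6), (nat_lit 2), (nat_lit 5), (nat_lit 2), (nat_lit 5), (nat_lit 6), (nat_lit 5), (nat_lit 1)], (nat_lit 24), (nat_lit 8), (nat_lit 1), (nat_lit 4)⟩))))))) (BT.node (nat_lit 498) (BT.node (nat_lit 487) (BT.node (nat_lit 481) (BT.node (nat_lit 478) (BT.node (nat_lit 477) (BT.leaf ⟨[(nat_lit 1), (nat_lit 5), (nat_lit 4), (nat_lit 1), (nat_lit 4), (nat_lit 5), (nat_lit 1), (nat_lit 5), (nat_lit 1), (nat_lit 4), (nat_lit 5)], (nat_lit 26), (nat_lit 3), (nat_lit 0), (nat_lit 4)⟩) (BT.leaf ⟨[(nat_lit 7), (nat_lit 2), (nat_lit 7), (nat_lit 6), (nat_lit 2), (nat_lit 6), (nat_lit 7), (nat_lit 2), (nat_lit 6), (nat_lit 2), (nat_lit 6)], (nat_lit 62), (nat_lit 3), (nat_lit 0), (nat_lit 4)⟩)) (BT.node (nat_lit 479) (BT.leaf ⟨[(nat_lit 6), (nat_lit 5), (nat_lit 6), (nat_lit 1), (nat_lit 6), (nat_lit 1), (nat_lit 5), (nat_lit 2), (nat_lit 6), (nat_lit 2)], (nat_lit 23), (nat_lit 4), (nat_lit 0), (nat_lit 4)⟩) (BT.node (nat_lit 480) (BT.leaf ⟨[(nat_lit 0), (nat_lit 6), (nat_lit 2), (nat_lit 6), (nat_lit 7), (nat_lit 2), (nat_lit 6), (nat_lit 2), (nat_lit 6), (nat_lit 7), (nat_lit 2), (nat_lit 7)], (nat_lit 62), (nat_lit 6), (nat_lit 1), (nat_lit 4)⟩) (BT.leaf ⟨[(nat_lit 0), (nat_lit 2), (nat_lit 5), (nat_lit 2), (nat_lit 5), (nat_lit 6), (nat_lit 5), (nat_lit 1), (nat_lit 5), (nat_lit 1), (nat_lit 6)], (nat_lit 24), (nat_lit 1), (nat_lit 1), (nat_lit 4)⟩)))) (BT.node (nat_lit 484) (BT.node (nat_lit 482) (BT.leaf ⟨[(nat_lit 0), (nat_lit 6), (nat_lit 7), (nat_lit 1), (nat_lit 7), (nat_lit 6), (nat_lit 1), (nat_lit 6), (nat_lit 1), (nat_lit 7), (nat_lit 6), (nat_lit 1)], (nat_lit 27), (nat_lit 4), (nat_lit 1), (nat_lit 3)⟩) (BT.node (nat_lit 483) (BT.leaf ⟨[(nat_lit 0), (nat_lit 8), (nat_lit 4), (nat_lit 8), (nat_lit 4)], (nat_lit 14), (nat_lit 1), (nat_lit 1), (nat_lit 4)⟩) (BT.leaf ⟨[(nat_lit 3), (nat_lit 4), (nat_lit 3), (nat_lit 4), (nat_lit 3), (nat_lit 4)], (nat_lit 6), (nat_lit 0), (nat_lit 0), (nat_lit 5)⟩))) (BT.node (nat_lit 485) (BT.leaf ⟨[(nat_lit 0), (nat_lit 4), (nat_lit 3), (nat_lit 4), (nat_lit 3), (nat_lit 4), (nat_lit 3)], (nat_lit 6), (nat_lit 1), (nat_lit 1), (nat_lit 4)⟩) (BT.node (nat_lit 486) (BT.leaf ⟨[(nat_lit 0), (nat_lit 5), (nat_lit 2), (nat_lit 5), (nat_lit 6), (nat_lit 5), (nat_lit 1), (nat_lit 5), (nat_lit 1), (nat_lit 6), (nat_lit 2)], (nat_lit 24), (nat_lit 2), (nat_lit 1), (nat_lit 3)⟩) (BT.leaf ⟨[(nat_lit 0), (nat_lit 7), (nat_lit 6), (nat_lit 1), (nat_lit 6), (nat_lit 1), (nat_lit 7), (nat_lit 6), (nat_lit 1), (nat_lit 6), (nat_lit 7), (nat_lit 1)], (nat_lit 27), (nat_lit 7), (nat_lit 1), (nat_lit 3)⟩))))) (BT.node (nat_lit 492) (BT.node (nat_lit 489) (BT.node (nat_lit 488) (BT.leaf ⟨[(nat_lit 7), (nat_lit 6), (nat_lit 1), (nat_lit 6), (nat_lit 7), (nat_lit 1), (nat_lit 7), (nat_lit 6), (nat_lit 1), (nat_lit 6), (nat_lit 1)], (nat_lit 27), (nat_lit 1), (nat_lit 0), (nat_lit 4)⟩) (BT.leaf ⟨[(nat_lit 0), (nat_lit 4), (nat_lit 5), (nat_lit 2), (nat_lit 5), (nat_lit 4), (nat_lit 2), (nat_lit 5), (nat_lit 2), (nat_lit 5), (nat_lit 4), (nat_lit 2)], (nat_lit 61), (nat_lit 5), (nat_lit 1), (nat_lit 4)⟩)) (BT.node (nat_lit 490) (BT.leaf ⟨[(nat_lit 0), (nat_lit 3), (nat_lit 4), (nat_lit 3), (nat_lit 4), (nat_lit 3), (nat_lit 4)], (nat_lit 6), (nat_lit 0), (nat_lit 1), (nat_lit 5)⟩) (BT.node (nat_lit 491) (BT.leaf ⟨[(nat_lit 0), (nat_lit 8), (nat_lit 6), (nat_lit 8), (nat_lit 6)], (nat_lit 19), (nat_lit 1), (nat_lit 1), (nat_lit 3)⟩) (BT.leaf ⟨[(nat_lit 6), (nat_lit 5), (nat_lit 1), (nat_lit 5), (nat_lit 1), (nat_lit 6), (nat_lit 2), (nat_lit 5), (nat_lit 2), (nat_lit 5)], (nat_lit 24), (nat_lit 5), (nat_lit 0), (nat_lit 4)⟩)))) (BT.node (nat_lit 495) (BT.node (nat_lit 493) (BT.leaf ⟨[(nat_lit 0), (nat_lit 1), (nat_lit 6), (nat_lit 7), (nat_lit 1), (nat_lit 7), (nat_lit 6), (nat_lit 1), (nat_lit 6), (nat_lit 1), (nat_lit 7), (nat_lit 6)], (nat_lit 27), (nat_lit 3), (nat_lit 1), (nat_lit 3)⟩) (BT.node (nat_lit 494) (BT.leaf ⟨[(nat_lit 0), (nat_lit 1), (nat_lit 7), (nat_lit 6), (nat_lit 1), (nat_lit 6), (nat_lit 1), (nat_lit 7), (nat_lit 6), (nat_lit 1), (nat_lit 6), (nat_lit 7)], (nat_lit 27), (nat_lit 6), (nat_lit 1), (nat_lit 4)⟩) (BT.leaf ⟨[(nat_lit 5), (nat_lit 2), (nat_lit 5), (nat_lit 4), (nat_lit 2), (nat_lit 4), (nat_lit 5), (nat_lit 2), (nat_lit 5), (nat_lit 4), (nat_lit 2)], (nat_lit 61), (nat_lit 0), (nat_lit 0), (nat_lit 4)⟩))) (BT.node (nat_lit 496) (BT.leaf ⟨[(nat_lit 0), (nat_lit 1), (nat_lit 4), (nat_lit 5), (nat_lit 1), (nat_lit 5), (nat_lit 1), (nat_lit 4), (nat_lit 5), (nat_lit 1), (nat_lit 5), (nat_lit 4)], (nat_lit 26), (nat_lit 6), (nat_lit 1), (nat_lit 4)⟩) (BT.node (nat_lit 497) (BT.leaf ⟨[(nat_lit 0), (nat_lit 1), (nat_lit 6), (nat_lit 1), (nat_lit 7), (nat_lit 6), (nat_lit 1), (nat_lit 6), (nat_lit 7), (nat_lit 1), (nat_lit 7), (nat_lit 6)], (nat_lit 27), (nat_lit 9), (nat_lit 1), (nat_lit 5)⟩) (BT.leaf ⟨[(nat_lit 0), (nat_lit 1), (nat_lit 7), (nat_lit 6), (nat_lit 1), (nat_lit 6), (nat_lit 7), (nat_lit 1), (nat_lit 7), (nat_lit 6), (nat_lit 1), (nat_lit 6)], (nat_lit 27), (nat_lit 0), (nat_lit 1), (nat_lit 4)⟩)))))) (BT.node (nat_lit 509) (BT.node (nat_lit 503) (BT.node (nat_lit 500) (BT.node (nat_lit 499) (BT.leaf ⟨[(nat_lit 5), (nat_lit 4), (nat_lit 2), (nat_lit 4), (nat_lit 5), (nat_lit 2), (nat_lit 5), (nat_lit 4), (nat_lit 2), (nat_lit 5), (nat_lit 2)], (nat_lit 61), (nat_lit 2), (nat_lit 0), (nat_lit 4)⟩) (BT.leaf ⟨[(nat_lit 1), (nat_lit 6), (nat_lit 2), (nat_lit 5), (nat_lit 2), (nat_lit 5), (nat_lit 6), (nat_lit 5), (nat_lit 1), (nat_lit 5)], (nat_lit 24), (nat_lit 9), (nat_lit 0), (nat_lit 4)⟩)) (BT.node (nat_lit 501) (BT.leaf ⟨[(nat_lit 2), (nat_lit 5), (nat_lit 4), (nat_lit 2), (nat_lit 5), (nat_lit 2), (nat_lit 5), (nat_lit 4), (nat_lit 2), (nat_lit 4), (nat_lit 5)], (nat_lit 61), (nat_lit 7), (nat_lit 0), (nat_lit 4)⟩) (BT.node (nat_lit 502) (BT.leaf ⟨[(nat_lit 0), (nat_lit 3), (nat_lit 8), (nat_lit 2), (nat_lit 2)], (nat_lit 21), (nat_lit 0), (nat_lit 1), (nat_lit 4)⟩) (BT.leaf ⟨[(nat_lit 0), (nat_lit 7), (nat_lit 1), (nat_lit 7), (nat_lit 6), (nat_lit 1), (nat_lit 6), (nat_lit 1), (nat_lit 7), (nat_lit 6), (nat_lit 1), (nat_lit 6)], (nat_lit 27), (nat_lit 5), (nat_lit 1), (nat_lit 5)⟩)))) (BT.node (nat_lit 506) (BT.node (nat_lit 504) (BT.leaf ⟨[(nat_lit 0), (nat_lit 6), (nat_lit 7), (nat_lit 1), (nat_lit 7), (nat_lit 6), (nat_lit 1), (nat_lit 6), (nat_lit 1), (nat_lit 7), (nat_lit 6), (nat_lit 1)], (nat_lit 27), (nat_lit 4), (nat_lit 1), (nat_lit 5)⟩) (BT.node (nat_lit 505) (BT.leaf ⟨[(nat_lit 0), (nat_lit 7), (nat_lit 6), (nat_lit 1), (nat_lit 6), (nat_lit 7), (nat_lit 1), (nat_lit 7), (nat_lit 6), (nat_lit 1), (nat_lit 6), (nat_lit 1)], (nat_lit 27), (nat_lit 1), (nat_lit 1), (nat_lit 5)⟩) (BT.leaf ⟨[(nat_lit 0), (nat_lit 6), (nat_lit 3), (nat_lit 6), (nat_lit 3)], (nat_lit 8), (nat_lit 1), (nat_lit 1), (nat_lit 5)⟩))) (BT.node (nat_lit 507) (BT.leaf ⟨[(nat_lit 0), (nat_lit 8), (nat_lit 3), (nat_lit 8), (nat_lit 3)], (nat_lit 10), (nat_lit 1), (nat_lit 1), (nat_lit 5)⟩) (BT.node (nat_lit 508) (BT.leaf ⟨[(nat_lit 0), (nat_lit 1), (nat_lit 6), (nat_lit 1), (nat_lit 7), (nat_lit 6), (nat_lit 1), (nat_lit 6), (nat_lit 7), (nat_lit 1), (nat_lit 7), (nat_lit 6)], (nat_lit 27), (nat_lit 9), (nat_lit 1), (nat_lit 3)⟩) (BT.leaf ⟨[(nat_lit 0), (nat_lit 4), (nat_lit 5), (nat_lit 1), (nat_lit 5), (nat_lit 4), (nat_lit 1), (nat_lit 4), (nat_lit 5), (nat_lit 1), (nat_lit 5), (nat_lit 1)], (nat_lit 26), (nat_lit 1), (nat_lit 1), (nat_lit 4)⟩))))) (BT.node (nat_lit 514) (BT.node (nat_lit 511) (BT.node (nat_lit 510) (BT.leaf ⟨[(nat_lit 0), (nat_lit 7), (nat_lit 2), (nat_lit 7), (nat_lit 6), (nat_lit 2), (nat_lit 6), (nat_lit 7), (nat_lit 2), (nat_lit 6), (nat_lit 2), (nat_lit 6)], (nat_lit 62), (nat_lit 3), (nat_lit 1), (nat_lit 5)⟩) (BT.leaf ⟨[(nat_lit 0), (nat_lit 2), (nat_lit 6), (nat_lit 2), (nat_lit 6), (nat_lit 7), (nat_lit 2), (nat_lit 7), (nat_lit 6), (nat_lit 2), (nat_lit 6), (nat_lit 7)], (nat_lit 62), (nat_lit 10), (nat_lit 1), (nat_lit 3)⟩)) (BT.node (nat_lit 512) (BT.leaf ⟨[(nat_lit 2), (nat_lit 5), (nat_lit 2), (nat_lit 5), (nat_lit 4), (nat_lit 2), (nat_lit 4), (nat_lit 5), (nat_lit 2), (nat_lit 5), (nat_lit 4)], (nat_lit 61), (nat_lit 10), (nat_lit 0), (nat_lit 4)⟩) (BT.node (nat_lit 513) (BT.leaf ⟨[(nat_lit 0), (nat_lit 1), (nat_lit 5), (nat_lit 1), (nat_lit 6), (nat_lit 2), (nat_lit 5), (nat_lit 2), (nat_lit 5), (nat_lit 6), (nat_lit 5)], (nat_lit 24), (nat_lit 7), (nat_lit 1), (nat_lit 4)⟩) (BT.leaf ⟨[(nat_lit 0), (nat_lit 5), (nat_lit 2), (nat_lit 5), (nat_lit 4), (nat_lit 2), (nat_lit 5), (nat_lit 2), (nat_lit 5), (nat_lit 4), (nat_lit 2), (nat_lit 4)], (nat_lit 61), (nat_lit 6), (nat_lit 1), (nat_lit 3)⟩)))) (BT.node (nat_lit 517) (BT.node (nat_lit 515) (BT.leaf ⟨[(nat_lit 0), (nat_lit 2), (nat_lit 7), (nat_lit 6), (nat_lit 2), (nat_lit 6), (nat_lit 7), (nat_lit 2), (nat_lit 6), (nat_lit 2), (nat_lit 6), (nat_lit 7)], (nat_lit 62), (nat_lit 4), (nat_lit 1), (nat_lit 4)⟩) (BT.node (nat_lit 516) (BT.leaf ⟨[(nat_lit 0), (nat_lit 8), (nat_lit 7), (nat_lit 8), (nat_lit 7), (nat_lit 8), (nat_lit 7)], (nat_lit 20), (nat_lit 1), (nat_lit 1), (nat_lit 4)⟩) (BT.leaf ⟨[(nat_lit 0), (nat_lit 7), (nat_lit 8), (nat_lit 7), (nat_lit 8), (nat_lit 7), (nat_lit 8)], (nat_lit 20), (nat_lit 0), (nat_lit 1), (nat_lit 3)⟩))) (BT.node (nat_lit 518) (BT.leaf ⟨[(nat_lit 0), (nat_lit 6), (nat_lit 8), (nat_lit 6), (nat_lit 8)], (nat_lit 19), (nat_lit 0), (nat_lit 1), (nat_lit 5)⟩) (BT.node (nat_lit 519) (BT.leaf ⟨[(nat_lit 0), (nat_lit 6), (nat_lit 7), (nat_lit 6), (nat_lit 7), (nat_lit 6), (nat_lit 7)], (nat_lit 18), (nat_lit 0), (nat_lit 1), (nat_lit 3)⟩) (BT.leaf ⟨[(nat_lit 0), (nat_lit 5), (nat_lit 8), (nat_lit 5), (nat_lit 8)], (nat_lit 17), (nat_lit 0), (nat_lit 1), (nat_lit 4)⟩))))))))) (BT.node (nat_lit 607) (BT.node (nat_lit 563) (BT.node (nat_lit 541) (BT.node (nat_lit 530) (BT.node (nat_lit 525) (BT.node (nat_lit 522) (BT.node (nat_lit 521) (BT.leaf ⟨[(nat_lit 0), (nat_lit 6), (nat_lit 4), (nat_lit 6), (nat_lit 4)], (nat_lit 12), (nat_lit 1), (nat_lit 1), (nat_lit 4)⟩) (BT.leaf ⟨[(nat_lit 0), (nat_lit 5), (nat_lit 2), (nat_lit 5), (nat_lit 6), (nat_lit 5), (nat_lit 1), (nat_lit 5), (nat_lit 1), (nat_lit 6), (nat_lit 2)], (nat_lit 24), (nat_lit 2), (nat_lit 1), (nat_lit 5)⟩)) (BT.node (nat_lit 523) (BT.leaf ⟨[(nat_lit 5), (nat_lit 6), (nat_lit 1), (nat_lit 6), (nat_lit 1), (nat_lit 5), (nat_lit 2), (nat_lit 6), (nat_lit 2), (nat_lit 6)], (nat_lit 23), (nat_lit 5), (nat_lit 0), (nat_lit 4)⟩) (BT.node (nat_lit 524) (BT.leaf ⟨[(nat_lit 0), (nat_lit 7), (nat_lit 5), (nat_lit 7), (nat_lit 5)], (nat_lit 16), (nat_lit 1), (nat_lit 1), (nat_lit 4)⟩) (BT.leaf ⟨[(nat_lit 0), (nat_lit 1), (nat_lit 5), (nat_lit 4), (nat_lit 1), (nat_lit 4), (nat_lit 5), (nat_lit 1), (nat_lit 5), (nat_lit 1), (nat_lit 4), (nat_lit 5)], (nat_lit 26), (nat_lit 3), (nat_lit 1), (nat_lit 4)⟩)))) (BT.node (nat_lit 527) (BT.node (nat_lit 526) (BT.leaf ⟨[(nat_lit 6), (nat_lit 7), (nat_lit 2), (nat_lit 6), (nat_lit 2), (nat_lit 6), (nat_lit 7), (nat_lit 2), (nat_lit 7), (nat_lit 6), (nat_lit 2)], (nat_lit 62), (nat_lit 8), (nat_lit 0), (nat_lit 4)⟩) (BT.leaf ⟨[(nat_lit 0), (nat_lit 6), (nat_lit 7), (nat_lit 6), (nat_lit 7), (nat_lit 6), (nat_lit 7)], (nat_lit 18), (nat_lit 0), (nat_lit 1), (nat_lit 4)⟩)) (BT.node (nat_lit 528) (BT.leaf ⟨[(nat_lit 0), (nat_lit 8), (nat_lit 6), (nat_lit 8), (nat_lit 6)], (nat_lit 19), (nat_lit 1), (nat_lit 1), (nat_lit 5)⟩) (BT.node (nat_lit 529) (BT.leaf ⟨[(nat_lit 0), (nat_lit 8), (nat_lit 6), (nat_lit 8), (nat_lit 6)], (nat_lit 19), (nat_lit 1), (nat_lit 1), (nat_lit 4)⟩) (BT.leaf ⟨[(nat_lit 1), (nat_lit 5), (nat_lit 1), (nat_lit 4), (nat_lit 5), (nat_lit 1), (nat_lit 5), (nat_lit 4), (nat_lit 1), (nat_lit 4), (nat_lit 5)], (nat_lit 26), (nat_lit 9), (nat_lit 0), (nat_lit 4)⟩))))) (BT.node (nat_lit 535) (BT.node (nat_lit 532) (BT.node (nat_lit 531) (BT.leaf ⟨[(nat_lit 0), (nat_lit 5), (nat_lit 4), (nat_lit 1), (nat_lit 4), (nat_lit 5), (nat_lit 1), (nat_lit 5), (nat_lit 1), (nat_lit 4), (nat_lit 5), (nat_lit 1)], (nat_lit 26), (nat_lit 4), (nat_lit 1), (nat_lit 4)⟩) (BT.leaf ⟨[(nat_lit 0), (nat_lit 2), (nat_lit 5), (nat_lit 6), (nat_lit 5), (nat_lit 1), (nat_lit 5), (nat_lit 1), (nat_lit 6), (nat_lit 2), (nat_lit 5)], (nat_lit 24), (nat_lit 3), (nat_lit 1), (nat_lit 4)⟩)) (BT.node (nat_lit 533) (BT.leaf ⟨[(nat_lit 0), (nat_lit 5), (nat_lit 1), (nat_lit 5), (nat_lit 1), (nat_lit 6), (nat_lit 2), (nat_lit 5), (nat_lit 2), (nat_lit 5), (nat_lit 6)], (nat_lit 24), (nat_lit 6), (nat_lit 1), (nat_lit 4)⟩) (BT.node (nat_lit 534) (BT.leaf ⟨[(nat_lit 0), (nat_lit 7), (nat_lit 2), (nat_lit 7), (nat_lit 6), (nat_lit 2), (nat_lit 6), (nat_lit 7), (nat_lit 2), (nat_lit 6), (nat_lit 2), (nat_lit 6)], (nat_lit 62), (nat_lit 3), (nat_lit 1), (nat_lit 4)⟩) (BT.leaf ⟨[(nat_lit 0), (nat_lit 4), (nat_lit 6), (nat_lit 4), (nat_lit 6)], (nat_lit 12), (nat_lit 0), (nat_lit 1), (nat_lit 4)⟩)))) (BT.node (nat_lit 538) (BT.node (nat_lit 536) (BT.leaf ⟨[(nat_lit 0), (nat_lit 3), (nat_lit 1), (nat_lit 1), (nat_lit 8)], (nat_lit 56), (nat_lit 3), (nat_lit 1), (nat_lit 4)⟩) (BT.node (nat_lit 537) (BT.leaf ⟨[(nat_lit 0), (nat_lit 4), (nat_lit 5), (nat_lit 1), (nat_lit 5), (nat_lit 1), (nat_lit 4), (nat_lit 5), (nat_lit 1), (nat_lit 5), (nat_lit 4), (nat_lit 1)], (nat_lit 26), (nat_lit 7), (nat_lit 1), (nat_lit 4)⟩) (BT.leaf ⟨[(nat_lit 0), (nat_lit 2), (nat_lit 5), (nat_lit 4), (nat_lit 2), (nat_lit 5), (nat_lit 2), (nat_lit 5), (nat_lit 4), (nat_lit 2), (nat_lit 4), (nat_lit 5)], (nat_lit 61), (nat_lit 7), (nat_lit 1), (nat_lit 3)⟩))) (BT.node (nat_lit 539) (BT.leaf ⟨[(nat_lit 0), (nat_lit 2), (nat_lit 6), (nat_lit 7), (nat_lit 2), (nat_lit 6), (nat_lit 2), (nat_lit 6), (nat_lit 7), (nat_lit 2), (nat_lit 7), (nat_lit 6)], (nat_lit 62), (nat_lit 7), (nat_lit 1), (nat_lit 5)⟩) (BT.node (nat_lit 540) (BT.leaf ⟨[(nat_lit 0), (nat_lit 7), (nat_lit 6), (nat_lit 1), (nat_lit 6), (nat_lit 7), (nat_lit 1), (nat_lit 7), (nat_lit 6), (nat_lit 1), (nat_lit 6), (nat_lit 1)], (nat_lit 27), (nat_lit 1), (nat_lit 1), (nat_lit 3)⟩) (BT.leaf ⟨[(nat_lit 0), (nat_lit 7), (nat_lit 6), (nat_lit 2), (nat_lit 6), (nat_lit 7), (nat_lit 2), (nat_lit 6), (nat_lit 2), (nat_lit 6), (nat_lit 7), (nat_lit 2)], (nat_lit 62), (nat_lit 5), (nat_lit 1), (nat_lit 4)⟩)))))) (BT.node (nat_lit 552) (BT.node (nat_lit 546) (BT.node (nat_lit 543) (BT.node (nat_lit 542) (BT.leaf ⟨[(nat_lit 2), (nat_lit 6), (nat_lit 5), (nat_lit 4), (nat_lit 2), (nat_lit 6), (nat_lit 5), (nat_lit 4), (nat_lit 2), (nat_lit 6), (nat_lit 5), (nat_lit 4), (nat_lit 2), (nat_lit 6), (nat_lit 5), (nat_lit 4), (nat_lit 2), (nat_lit 6), (nat_lit 5), (nat_lit 4)], (nat_lit 60), (nat_lit 0), (nat_lit 0), (nat_lit 4)⟩) (BT.leaf ⟨[(nat_lit 0), (nat_lit 1), (nat_lit 5), (nat_lit 2), (nat_lit 6), (nat_lit 2), (nat_lit 6), (nat_lit 5), (nat_lit 6), (nat_lit 1), (nat_lit 6)], (nat_lit 23), (nat_lit 9), (nat_lit 1), (nat_lit 3)⟩)) (BT.node (nat_lit 544) (BT.leaf ⟨[(nat_lit 0), (nat_lit 3), (nat_lit 5), (nat_lit 3), (nat_lit 5)], (nat_lit 7), (nat_lit 0), (nat_lit 1), (nat_lit 5)⟩) (BT.node (nat_lit 545) (BT.leaf ⟨[(nat_lit 6), (nat_lit 5), (nat_lit 6), (nat_lit 5), (nat_lit 6), (nat_lit 5), (nat_lit 6), (nat_lit 8), (nat_lit 3), (nat_lit 5)], (nat_lit 57), (nat_lit 1), (nat_lit 0), (nat_lit 5)⟩) (BT.leaf ⟨[(nat_lit 0), (nat_lit 2), (nat_lit 5), (nat_lit 6), (nat_lit 5), (nat_lit 1), (nat_lit 5), (nat_lit 1), (nat_lit 6), (nat_lit 2), (nat_lit 5)], (nat_lit 24), (nat_lit 3), (nat_lit 1), (nat_lit 5)⟩)))) (BT.node (nat_lit 549) (BT.node (nat_lit 547) (BT.leaf ⟨[(nat_lit 0), (nat_lit 1), (nat_lit 5), (nat_lit 1), (nat_lit 4), (nat_lit 5), (nat_lit 1), (nat_lit 5), (nat_lit 4), (nat_lit 1), (nat_lit 4), (nat_lit 5)], (nat_lit 26), (nat_lit 9), (nat_lit 1), (nat_lit 4)⟩) (BT.node (nat_lit 548) (BT.leaf ⟨[(nat_lit 0), (nat_lit 1), (nat_lit 7), (nat_lit 6), (nat_lit 1), (nat_lit 6), (nat_lit 7), (nat_lit 1), (nat_lit 7), (nat_lit 6), (nat_lit 1), (nat_lit 6)], (nat_lit 27), (nat_lit 0), (nat_lit 1), (nat_lit 3)⟩) (BT.leaf ⟨[(nat_lit 0), (nat_lit 1), (nat_lit 4), (nat_lit 5), (nat_lit 1), (nat_lit 5), (nat_lit 1), (nat_lit 4), (nat_lit 5), (nat_lit 1), (nat_lit 5), (nat_lit 4)], (nat_lit 26), (nat_lit 6), (nat_lit 1), (nat_lit 5)⟩))) (BT.node (nat_lit 550) (BT.leaf ⟨[(nat_lit 0), (nat_lit 1), (nat_lit 5), (nat_lit 4), (nat_lit 1), (nat_lit 4), (nat_lit 5), (nat_lit 1), (nat_lit 5), (nat_lit 1), (nat_lit 4), (nat_lit 5)], (nat_lit 26), (nat_lit 3), (nat_lit 1), (nat_lit 5)⟩) (BT.node (nat_lit 551) (BT.leaf ⟨[(nat_lit 0), (nat_lit 2), (nat_lit 5), (nat_lit 6), (nat_lit 5), (nat_lit 1), (nat_lit 5), (nat_lit 1), (nat_lit 6), (nat_lit 2), (nat_lit 5)], (nat_lit 24), (nat_lit 3), (nat_lit 1), (nat_lit 3)⟩) (BT.leaf ⟨[(nat_lit 0), (nat_lit 2), (nat_lit 6), (nat_lit 5), (nat_lit 6), (nat_lit 1), (nat_lit 6), (nat_lit 1), (nat_lit 5), (nat_lit 2), (nat_lit 6)], (nat_lit 23), (nat_lit 3), (nat_lit 1), (nat_lit 4)⟩))))) (BT.node (nat_lit 557) (BT.node (nat_lit 554) (BT.node (nat_lit 553) (BT.leaf ⟨[(nat_lit 0), (nat_lit 2), (nat_lit 6), (nat_lit 2), (nat_lit 6), (nat_lit 7), (nat_lit 2), (nat_lit 7), (nat_lit 6), (nat_lit 2), (nat_lit 6), (nat_lit 7)], (nat_lit 62), (nat_lit 10), (nat_lit 1), (nat_lit 4)⟩) (BT.leaf ⟨[(nat_lit 0), (nat_lit 5), (nat_lit 2), (nat_lit 5), (nat_lit 4), (nat_lit 2), (nat_lit 4), (nat_lit 5), (nat_lit 2), (nat_lit 5), (nat_lit 4), (nat_lit 2)], (nat_lit 61), (nat_lit 0), (nat_lit 1), (nat_lit 4)⟩)) (BT.node (nat_lit 555) (BT.leaf ⟨[(nat_lit 0), (nat_lit 6), (nat_lit 1), (nat_lit 6), (nat_lit 1), (nat_lit 7), (nat_lit 6), (nat_lit 1), (nat_lit 6), (nat_lit 7), (nat_lit 1), (nat_lit 7)], (nat_lit 27), (nat_lit 8), (nat_lit 1), (nat_lit 3)⟩) (BT.node (nat_lit 556) (BT.leaf ⟨[(nat_lit 0), (nat_lit 2), (nat_lit 7), (nat_lit 6), (nat_lit 2), (nat_lit 6), (nat_lit 7), (nat_lit 2), (nat_lit 6), (nat_lit 2), (nat_lit 6), (nat_lit 7)], (nat_lit 62), (nat_lit 4), (nat_lit 1), (nat_lit 3)⟩) (BT.leaf ⟨[(nat_lit 0), (nat_lit 4), (nat_lit 7), (nat_lit 4), (nat_lit 7)], (nat_lit 13), (nat_lit 0), (nat_lit 1), (nat_lit 4)⟩)))) (BT.node (nat_lit 560) (BT.node (nat_lit 558) (BT.leaf ⟨[(nat_lit 0), (nat_lit 2), (nat_lit 6), (nat_lit 7), (nat_lit 2), (nat_lit 6), (nat_lit 2), (nat_lit 6), (nat_lit 7), (nat_lit 2), (nat_lit 7), (nat_lit 6)], (nat_lit 62), (nat_lit 7), (nat_lit 1), (nat_lit 3)⟩) (BT.node (nat_lit 559) (BT.leaf ⟨[(nat_lit 0), (nat_lit 2), (nat_lit 6), (nat_lit 2), (nat_lit 6), (nat_lit 7), (nat_lit 2), (nat_lit 7), (nat_lit 6), (nat_lit 2), (nat_lit 6), (nat_lit 7)], (nat_lit 62), (nat_lit 10), (nat_lit 1), (nat_lit 5)⟩) (BT.leaf ⟨[(nat_lit 0), (nat_lit 6), (nat_lit 7), (nat_lit 2), (nat_lit 6), (nat_lit 2), (nat_lit 6), (nat_lit 7), (nat_lit 2), (nat_lit 7), (nat_lit 6), (nat_lit 2)], (nat_lit 62), (nat_lit 8), (nat_lit 1), (nat_lit 3)⟩))) (BT.node (nat_lit 561) (BT.leaf ⟨[(nat_lit 0), (nat_lit 7), (nat_lit 2), (nat_lit 7), (nat_lit 6), (nat_lit 2), (nat_lit 6), (nat_lit 7), (nat_lit 2), (nat_lit 6), (nat_lit 2), (nat_lit 6)], (nat_lit 62), (nat_lit 3), (nat_lit 1), (nat_lit 3)⟩) (BT.node (nat_lit 562) (BT.leaf ⟨[(nat_lit 0), (nat_lit 2), (nat_lit 5), (nat_lit 2), (nat_lit 5), (nat_lit 6), (nat_lit 5), (nat_lit 1), (nat_lit 5), (nat_lit 1), (nat_lit 6)], (nat_lit 24), (nat_lit 1), (nat_lit 1), (nat_lit 3)⟩) (BT.leaf ⟨[(nat_lit 0), (nat_lit 3), (nat_lit 7), (nat_lit 3), (nat_lit 7)], (nat_lit 9), (nat_lit 0), (nat_lit 1), (nat_lit 5)⟩))))))) (BT.node (nat_lit 585) (BT.node (nat_lit 574) (BT.node (nat_lit 568) (BT.node (nat_lit 565) (BT.node (nat_lit 564) (BT.leaf ⟨[(nat_lit 0), (nat_lit 6), (nat_lit 7), (nat_lit 2), (nat_lit 7), (nat_lit 6), (nat_lit 2), (nat_lit 6), (nat_lit 7), (nat_lit 2), (nat_lit 6), (nat_lit 2)], (nat_lit 62), (nat_lit 2), (nat_lit 1), (nat_lit 4)⟩) (BT.leaf ⟨[(nat_lit 0), (nat_lit 5), (nat_lit 1), (nat_lit 4), (nat_lit 5), (nat_lit 1), (nat_lit 5), (nat_lit 4), (nat_lit 1), (nat_lit 4), (nat_lit 5), (nat_lit 1)], (nat_lit 26), (nat_lit 10), (nat_lit 1), (nat_lit 5)⟩)) (BT.node (nat_lit 566) (BT.leaf ⟨[(nat_lit 0), (nat_lit 5), (nat_lit 7), (nat_lit 5), (nat_lit 7)], (nat_lit 16), (nat_lit 0), (nat_lit 1), (nat_lit 4)⟩) (BT.node (nat_lit 567) (BT.leaf ⟨[(nat_lit 0), (nat_lit 5), (nat_lit 1), (nat_lit 6), (nat_lit 2), (nat_lit 5), (nat_lit 2), (nat_lit 5), (nat_lit 6), (nat_lit 5), (nat_lit 1)], (nat_lit 24), (nat_lit 8), (nat_lit 1), (nat_lit 5)⟩) (BT.leaf ⟨[(nat_lit 0), (nat_lit 1), (nat_lit 5), (nat_lit 1), (nat_lit 6), (nat_lit 2), (nat_lit 5), (nat_lit 2), (nat_lit 5), (nat_lit 6), (nat_lit 5)], (nat_lit 24), (nat_lit 7), (nat_lit 1), (nat_lit 5)⟩)))) (BT.node (nat_lit 571) (BT.node (nat_lit 569) (BT.leaf ⟨[(nat_lit 0), (nat_lit 1), (nat_lit 6), (nat_lit 2), (nat_lit 5), (nat_lit 2), (nat_lit 5), (nat_lit 6), (nat_lit 5), (nat_lit 1), (nat_lit 5)], (nat_lit 24), (nat_lit 9), (nat_lit 1), (nat_lit 3)⟩) (BT.node (nat_lit 570) (BT.leaf ⟨[(nat_lit 0), (nat_lit 4), (nat_lit 2), (nat_lit 4), (nat_lit 5), (nat_lit 2), (nat_lit 5), (nat_lit 4), (nat_lit 2), (nat_lit 5), (nat_lit 2), (nat_lit 5)], (nat_lit 61), (nat_lit 3), (nat_lit 1), (nat_lit 5)⟩) (BT.leaf ⟨[(nat_lit 0), (nat_lit 2), (nat_lit 5), (nat_lit 4), (nat_lit 2), (nat_lit 4), (nat_lit 5), (nat_lit 2), (nat_lit 5), (nat_lit 4), (nat_lit 2), (nat_lit 5)], (nat_lit 61), (nat_lit 1), (nat_lit 1), (nat_lit 5)⟩))) (BT.node (nat_lit 572) (BT.leaf ⟨[(nat_lit 0), (nat_lit 2), (nat_lit 5), (nat_lit 4), (nat_lit 2), (nat_lit 5), (nat_lit 2), (nat_lit 5), (nat_lit 4), (nat_lit 2), (nat_lit 4), (nat_lit 5)], (nat_lit 61), (nat_lit 7), (nat_lit 1), (nat_lit 5)⟩) (BT.node (nat_lit 573) (BT.leaf ⟨[(nat_lit 0), (nat_lit 5), (nat_lit 4), (nat_lit 2), (nat_lit 4), (nat_lit 5), (nat_lit 2), (nat_lit 5), (nat_lit 4), (nat_lit 2), (nat_lit 5), (nat_lit 2)], (nat_lit 61), (nat_lit 2), (nat_lit 1), (nat_lit 5)⟩) (BT.leaf ⟨[(nat_lit 0), (nat_lit 6), (nat_lit 1), (nat_lit 7), (nat_lit 6), (nat_lit 1), (nat_lit 6), (nat_lit 7), (nat_lit 1), (nat_lit 7), (nat_lit 6), (nat_lit 1)], (nat_lit 27), (nat_lit 10), (nat_lit 1), (nat_lit 5)⟩))))) (BT.node (nat_lit 579) (BT.node (nat_lit 576) (BT.node (nat_lit 575) (BT.leaf ⟨[(nat_lit 0), (nat_lit 2), (nat_lit 5), (nat_lit 2), (nat_lit 5), (nat_lit 6), (nat_lit 5), (nat_lit 1), (nat_lit 5), (nat_lit 1), (nat_lit 6)], (nat_lit 24), (nat_lit 1), (nat_lit 1), (nat_lit 5)⟩) (BT.leaf ⟨[(nat_lit 0), (nat_lit 6), (nat_lit 2), (nat_lit 6), (nat_lit 7), (nat_lit 2), (nat_lit 6), (nat_lit 2), (nat_lit 6), (nat_lit 7), (nat_lit 2), (nat_lit 7)], (nat_lit 62), (nat_lit 6), (nat_lit 1), (nat_lit 3)⟩)) (BT.node (nat_lit 577) (BT.leaf ⟨[(nat_lit 0), (nat_lit 5), (nat_lit 1), (nat_lit 5), (nat_lit 1), (nat_lit 4), (nat_lit 5), (nat_lit 1), (nat_lit 5), (nat_lit 4), (nat_lit 1), (nat_lit 4)], (nat_lit 26), (nat_lit 8), (nat_lit 1), (nat_lit 5)⟩) (BT.node (nat_lit 578) (BT.leaf ⟨[(nat_lit 0), (nat_lit 3), (nat_lit 5), (nat_lit 3), (nat_lit 5)], (nat_lit 7), (nat_lit 0), (nat_lit 1), (nat_lit 4)⟩) (BT.leaf ⟨[(nat_lit 0), (nat_lit 5), (nat_lit 1), (nat_lit 4), (nat_lit 5), (nat_lit 1), (nat_lit 5), (nat_lit 4), (nat_lit 1), (nat_lit 4), (nat_lit 5), (nat_lit 1)], (nat_lit 26), (nat_lit 10), (nat_lit 1), (nat_lit 3)⟩)))) (BT.node (nat_lit 582) (BT.node (nat_lit 580) (BT.leaf ⟨[(nat_lit 4), (nat_lit 2), (nat_lit 5), (nat_lit 2), (nat_lit 5), (nat_lit 4), (nat_lit 2), (nat_lit 4), (nat_lit 5), (nat_lit 2), (nat_lit 5)], (nat_lit 61), (nat_lit 9), (nat_lit 0), (nat_lit 4)⟩) (BT.node (nat_lit 581) (BT.leaf ⟨[(nat_lit 5), (nat_lit 6), (nat_lit 5), (nat_lit 6), (nat_lit 8), (nat_lit 3), (nat_lit 5), (nat_lit 6), (nat_lit 5), (nat_lit 6)], (nat_lit 57), (nat_lit 4), (nat_lit 0), (nat_lit 5)⟩) (BT.leaf ⟨[(nat_lit 0), (nat_lit 5), (nat_lit 2), (nat_lit 6), (nat_lit 2), (nat_lit 6), (nat_lit 5), (nat_lit 6), (nat_lit 1), (nat_lit 6), (nat_lit 1)], (nat_lit 23), (nat_lit 0), (nat_lit 1), (nat_lit 5)⟩))) (BT.node (nat_lit 583) (BT.leaf ⟨[(nat_lit 0), (nat_lit 1), (nat_lit 5), (nat_lit 1), (nat_lit 4), (nat_lit 5), (nat_lit 1), (nat_lit 5), (nat_lit 4), (nat_lit 1), (nat_lit 4), (nat_lit 5)], (nat_lit 26), (nat_lit 9), (nat_lit 1), (nat_lit 5)⟩) (BT.node (nat_lit 584) (BT.leaf ⟨[(nat_lit 0), (nat_lit 4), (nat_lit 2), (nat_lit 5), (nat_lit 2), (nat_lit 5), (nat_lit 4), (nat_lit 2), (nat_lit 4), (nat_lit 5), (nat_lit 2), (nat_lit 5)], (nat_lit 61), (nat_lit 9), (nat_lit 1), (nat_lit 5)⟩) (BT.leaf ⟨[(nat_lit 0), (nat_lit 2), (nat_lit 6), (nat_lit 2), (nat_lit 6), (nat_lit 5), (nat_lit 6), (nat_lit 1), (nat_lit 6), (nat_lit 1), (nat_lit 5)], (nat_lit 23), (nat_lit 1), (nat_lit 1), (nat_lit 5)⟩)))))) (BT.node (nat_lit 596) (BT.node (nat_lit 590) (BT.node (nat_lit 587) (BT.node (nat_lit 586) (BT.leaf ⟨[(nat_lit 0), (nat_lit 2), (nat_lit 5), (nat_lit 4), (nat_lit 2), (nat_lit 4), (nat_lit 5), (nat_lit 2), (nat_lit 5), (nat_lit 4), (nat_lit 2), (nat_lit 5)], (nat_lit 61), (nat_lit 1), (nat_lit 1), (nat_lit 3)⟩) (BT.leaf ⟨[(nat_lit 0), (nat_lit 1), (nat_lit 5), (nat_lit 1), (nat_lit 4), (nat_lit 5), (nat_lit 1), (nat_lit 5), (nat_lit 4), (nat_lit 1), (nat_lit 4), (nat_lit 5)], (nat_lit 26), (nat_lit 9), (nat_lit 1), (nat_lit 3)⟩)) (BT.node (nat_lit 588) (BT.leaf ⟨[(nat_lit 0), (nat_lit 3), (nat_lit 6), (nat_lit 3), (nat_lit 6)], (nat_lit 8), (nat_lit 0), (nat_lit 1), (nat_lit 4)⟩) (BT.node (nat_lit 589) (BT.leaf ⟨[(nat_lit 0), (nat_lit 4), (nat_lit 1), (nat_lit 4), (nat_lit 5), (nat_lit 1), (nat_lit 5), (nat_lit 1), (nat_lit 4), (nat_lit 5), (nat_lit 1), (nat_lit 5)], (nat_lit 26), (nat_lit 5), (nat_lit 1), (nat_lit 5)⟩) (BT.leaf ⟨[(nat_lit 0), (nat_lit 5), (nat_lit 2), (nat_lit 5), (nat_lit 6), (nat_lit 5), (nat_lit 1), (nat_lit 5), (nat_lit 1), (nat_lit 6), (nat_lit 2)], (nat_lit 24), (nat_lit 2), (nat_lit 1), (nat_lit 4)⟩)))) (BT.node (nat_lit 593) (BT.node (nat_lit 591) (BT.leaf ⟨[(nat_lit 0), (nat_lit 5), (nat_lit 1), (nat_lit 4), (nat_lit 5), (nat_lit 1), (nat_lit 5), (nat_lit 4), (nat_lit 1), (nat_lit 4), (nat_lit 5), (nat_lit 1)], (nat_lit 26), (nat_lit 10), (nat_lit 1), (nat_lit 4)⟩) (BT.node (nat_lit 592) (BT.leaf ⟨[(nat_lit 0), (nat_lit 6), (nat_lit 7), (nat_lit 2), (nat_lit 6), (nat_lit 2), (nat_lit 6), (nat_lit 7), (nat_lit 2), (nat_lit 7), (nat_lit 6), (nat_lit 2)], (nat_lit 62), (nat_lit 8), (nat_lit 1), (nat_lit 4)⟩) (BT.leaf ⟨[(nat_lit 0), (nat_lit 2), (nat_lit 5), (nat_lit 2), (nat_lit 5), (nat_lit 4), (nat_lit 2), (nat_lit 4), (nat_lit 5), (nat_lit 2), (nat_lit 5), (nat_lit 4)], (nat_lit 61), (nat_lit 10), (nat_lit 1), (nat_lit 3)⟩))) (BT.node (nat_lit 594) (BT.leaf ⟨[(nat_lit 0), (nat_lit 2), (nat_lit 6), (nat_lit 7), (nat_lit 2), (nat_lit 7), (nat_lit 6), (nat_lit 2), (nat_lit 6), (nat_lit 7), (nat_lit 2), (nat_lit 6)], (nat_lit 62), (nat_lit 1), (nat_lit 1), (nat_lit 5)⟩) (BT.node (nat_lit 595) (BT.leaf ⟨[(nat_lit 0), (nat_lit 1), (nat_lit 7), (nat_lit 6), (nat_lit 1), (nat_lit 6), (nat_lit 7), (nat_lit 1), (nat_lit 7), (nat_lit 6), (nat_lit 1), (nat_lit 6)], (nat_lit 27), (nat_lit 0), (nat_lit 1), (nat_lit 5)⟩) (BT.leaf ⟨[(nat_lit 0), (nat_lit 2), (nat_lit 6), (nat_lit 7), (nat_lit 2), (nat_lit 7), (nat_lit 6), (nat_lit 2), (nat_lit 6), (nat_lit 7), (nat_lit 2), (nat_lit 6)], (nat_lit 62), (nat_lit 1), (nat_lit 1), (nat_lit 4)⟩))))) (BT.node (nat_lit 601) (BT.node (nat_lit 598) (BT.node (nat_lit 597) (BT.leaf ⟨[(nat_lit 0), (nat_lit 2), (nat_lit 5), (nat_lit 4), (nat_lit 2), (nat_lit 4), (nat_lit 5), (nat_lit 2), (nat_lit 5), (nat_lit 4), (nat_lit 2), (nat_lit 5)], (nat_lit 61), (nat_lit 1), (nat_lit 1), (nat_lit 4)⟩) (BT.leaf ⟨[(nat_lit 0), (nat_lit 4), (nat_lit 6), (nat_lit 4), (nat_lit 6)], (nat_lit 12), (nat_lit 0), (nat_lit 1), (nat_lit 5)⟩)) (BT.node (nat_lit 599) (BT.leaf ⟨[(nat_lit 0), (nat_lit 3), (nat_lit 4), (nat_lit 3), (nat_lit 4), (nat_lit 3), (nat_lit 4)], (nat_lit 6), (nat_lit 0), (nat_lit 1), (nat_lit 4)⟩) (BT.node (nat_lit 600) (BT.leaf ⟨[(nat_lit 0), (nat_lit 8), (nat_lit 7), (nat_lit 8), (nat_lit 7), (nat_lit 8), (nat_lit 7)], (nat_lit 20), (nat_lit 1), (nat_lit 1), (nat_lit 5)⟩) (BT.leaf ⟨[(nat_lit 0), (nat_lit 6), (nat_lit 1), (nat_lit 6), (nat_lit 1), (nat_lit 7), (nat_lit 6), (nat_lit 1), (nat_lit 6), (nat_lit 7), (nat_lit 1), (nat_lit 7)], (nat_lit 27), (nat_lit 8), (nat_lit 1), (nat_lit 5)⟩)))) (BT.node (nat_lit 604) (BT.node (nat_lit 602) (BT.leaf ⟨[(nat_lit 0), (nat_lit 2), (nat_lit 3), (nat_lit 8), (nat_lit 2)], (nat_lit 21), (nat_lit 3), (nat_lit 1), (nat_lit 5)⟩) (BT.node (nat_lit 603) (BT.leaf ⟨[(nat_lit 0), (nat_lit 2), (nat_lit 5), (nat_lit 2), (nat_lit 5), (nat_lit 4), (nat_lit 2), (nat_lit 4), (nat_lit 5), (nat_lit 2), (nat_lit 5), (nat_lit 4)], (nat_lit 61), (nat_lit 10), (nat_lit 1), (nat_lit 4)⟩) (BT.leaf ⟨[(nat_lit 0), (nat_lit 2), (nat_lit 6), (nat_lit 7), (nat_lit 2), (nat_lit 7), (nat_lit 6), (nat_lit 2), (nat_lit 6), (nat_lit 7), (nat_lit 2), (nat_lit 6)], (nat_lit 62), (nat_lit 1), (nat_lit 1), (nat_lit 3)⟩))) (BT.node (nat_lit 605) (BT.leaf ⟨[(nat_lit 0), (nat_lit 2), (nat_lit 5), (nat_lit 2), (nat_lit 5), (nat_lit 4), (nat_lit 2), (nat_lit 4), (nat_lit 5), (nat_lit 2), (nat_lit 5), (nat_lit 4)], (nat_lit 61), (nat_lit 10), (nat_lit 1), (nat_lit 5)⟩) (BT.node (nat_lit 606) (BT.leaf ⟨[(nat_lit 0), (nat_lit 6), (nat_lit 7), (nat_lit 2), (nat_lit 7), (nat_lit 6), (nat_lit 2), (nat_lit 6), (nat_lit 7), (nat_lit 2), (nat_lit 6), (nat_lit 2)], (nat_lit 62), (nat_lit 2), (nat_lit 1), (nat_lit 5)⟩) (BT.leaf ⟨[(nat_lit 0), (nat_lit 6), (nat_lit 7), (nat_lit 2), (nat_lit 7), (nat_lit 6), (nat_lit 2), (nat_lit 6), (nat_lit 7), (nat_lit 2), (nat_lit 6), (nat_lit 2)], (nat_lit 62), (nat_lit 2), (nat_lit 1), (nat_lit 3)⟩)))))))) (BT.node (nat_lit 650) (BT.node (nat_lit 628) (BT.node (nat_lit 617) (BT.node (nat_lit 612) (BT.node (nat_lit 609) (BT.node (nat_lit 608) (BT.leaf ⟨[(nat_lit 0), (nat_lit 6), (nat_lit 2), (nat_lit 5), (nat_lit 2), (nat_lit 5), (nat_lit 6), (nat_lit 5), (nat_lit 1), (nat_lit 5), (nat_lit 1)], (nat_lit 24), (nat_lit 0), (nat_lit 1), (nat_lit 4)⟩) (BT.leaf ⟨[(nat_lit 0), (nat_lit 2), (nat_lit 6), (nat_lit 7), (nat_lit 2), (nat_lit 6), (nat_lit 2), (nat_lit 6), (nat_lit 7), (nat_lit 2), (nat_lit 7), (nat_lit 6)], (nat_lit 62), (nat_lit 7), (nat_lit 1), (nat_lit 4)⟩)) (BT.node (nat_lit 610) (BT.leaf ⟨[(nat_lit 0), (nat_lit 1), (nat_lit 6), (nat_lit 1), (nat_lit 7), (nat_lit 6), (nat_lit 1), (nat_lit 6), (nat_lit 7), (nat_lit 1), (nat_lit 7), (nat_lit 6)], (nat_lit 27), (nat_lit 9), (nat_lit 1), (nat_lit 4)⟩) (BT.node (nat_lit 611) (BT.leaf ⟨[(nat_lit 0), (nat_lit 2), (nat_lit 4), (nat_lit 5), (nat_lit 2), (nat_lit 5), (nat_lit 4), (nat_lit 2), (nat_lit 5), (nat_lit 2), (nat_lit 5), (nat_lit 4)], (nat_lit 61), (nat_lit 4), (nat_lit 1), (nat_lit 4)⟩) (BT.leaf ⟨[(nat_lit 0), (nat_lit 7), (nat_lit 4), (nat_lit 7), (nat_lit 4)], (nat_lit 13), (nat_lit 1), (nat_lit 1), (nat_lit 5)⟩)))) (BT.node (nat_lit 614) (BT.node (nat_lit 613) (BT.leaf ⟨[(nat_lit 0), (nat_lit 5), (nat_lit 1), (nat_lit 5), (nat_lit 1), (nat_lit 4), (nat_lit 5), (nat_lit 1), (nat_lit 5), (nat_lit 4), (nat_lit 1), (nat_lit 4)], (nat_lit 26), (nat_lit 8), (nat_lit 1), (nat_lit 4)⟩) (BT.leaf ⟨[(nat_lit 0), (nat_lit 2), (nat_lit 6), (nat_lit 5), (nat_lit 6), (nat_lit 1), (nat_lit 6), (nat_lit 1), (nat_lit 5), (nat_lit 2), (nat_lit 6)], (nat_lit 23), (nat_lit 3), (nat_lit 1), (nat_lit 5)⟩)) (BT.node (nat_lit 615) (BT.leaf ⟨[(nat_lit 6), (nat_lit 8), (nat_lit 3), (nat_lit 5), (nat_lit 6), (nat_lit 5), (nat_lit 6), (nat_lit 5), (nat_lit 6), (nat_lit 5)], (nat_lit 57), (nat_lit 7), (nat_lit 0), (nat_lit 4)⟩) (BT.node (nat_lit 616) (BT.leaf ⟨[(nat_lit 5), (nat_lit 6), (nat_lit 5), (nat_lit 6), (nat_lit 5), (nat_lit 6), (nat_lit 8), (nat_lit 3), (nat_lit 5), (nat_lit 6)], (nat_lit 57), (nat_lit 2), (nat_lit 0), (nat_lit 5)⟩) (BT.leaf ⟨[(nat_lit 0), (nat_lit 2), (nat_lit 6), (nat_lit 5), (nat_lit 6), (nat_lit 1), (nat_lit 6), (nat_lit 1), (nat_lit 5), (nat_lit 2), (nat_lit 6)], (nat_lit 23), (nat_lit 3), (nat_lit 1), (nat_lit 3)⟩))))) (BT.node (nat_lit 622) (BT.node (nat_lit 619) (BT.node (nat_lit 618) (BT.leaf ⟨[(nat_lit 0), (nat_lit 5), (nat_lit 4), (nat_lit 5), (nat_lit 4), (nat_lit 5), (nat_lit 4)], (nat_lit 11), (nat_lit 1), (nat_lit 1), (nat_lit 3)⟩) (BT.leaf ⟨[(nat_lit 0), (nat_lit 6), (nat_lit 5), (nat_lit 1), (nat_lit 5), (nat_lit 1), (nat_lit 6), (nat_lit 2), (nat_lit 5), (nat_lit 2), (nat_lit 5)], (nat_lit 24), (nat_lit 5), (nat_lit 1), (nat_lit 5)⟩)) (BT.node (nat_lit 620) (BT.leaf ⟨[(nat_lit 0), (nat_lit 6), (nat_lit 1), (nat_lit 5), (nat_lit 2), (nat_lit 6), (nat_lit 2), (nat_lit 6), (nat_lit 5), (nat_lit 6), (nat_lit 1)], (nat_lit 23), (nat_lit 8), (nat_lit 1), (nat_lit 4)⟩) (BT.node (nat_lit 621) (BT.leaf ⟨[(nat_lit 0), (nat_lit 5), (nat_lit 4), (nat_lit 2), (nat_lit 5), (nat_lit 2), (nat_lit 5), (nat_lit 4), (nat_lit 2), (nat_lit 4), (nat_lit 5), (nat_lit 2)], (nat_lit 61), (nat_lit 8), (nat_lit 1), (nat_lit 4)⟩) (BT.leaf ⟨[(nat_lit 0), (nat_lit 4), (nat_lit 1), (nat_lit 4), (nat_lit 5), (nat_lit 1), (nat_lit 5), (nat_lit 1), (nat_lit 4), (nat_lit 5), (nat_lit 1), (nat_lit 5)], (nat_lit 26), (nat_lit 5), (nat_lit 1), (nat_lit 4)⟩)))) (BT.node (nat_lit 625) (BT.node (nat_lit 623) (BT.leaf ⟨[(nat_lit 0), (nat_lit 2), (nat_lit 5), (nat_lit 4), (nat_lit 2), (nat_lit 5), (nat_lit 2), (nat_lit 5), (nat_lit 4), (nat_lit 2), (nat_lit 4), (nat_lit 5)], (nat_lit 61), (nat_lit 7), (nat_lit 1), (nat_lit 4)⟩) (BT.node (nat_lit 624) (BT.leaf ⟨[(nat_lit 5), (nat_lit 3), (nat_lit 8), (nat_lit 6), (nat_lit 5), (nat_lit 6), (nat_lit 5), (nat_lit 6), (nat_lit 5), (nat_lit 6)], (nat_lit 22), (nat_lit 9), (nat_lit 0), (nat_lit 5)⟩) (BT.leaf ⟨[(nat_lit 0), (nat_lit 5), (nat_lit 1), (nat_lit 5), (nat_lit 4), (nat_lit 1), (nat_lit 4), (nat_lit 5), (nat_lit 1), (nat_lit 5), (nat_lit 1), (nat_lit 4)], (nat_lit 26), (nat_lit 2), (nat_lit 1), (nat_lit 4)⟩))) (BT.node (nat_lit 626) (BT.leaf ⟨[(nat_lit 0), (nat_lit 5), (nat_lit 4), (nat_lit 2), (nat_lit 4), (nat_lit 5), (nat_lit 2), (nat_lit 5), (nat_lit 4), (nat_lit 2), (nat_lit 5), (nat_lit 2)], (nat_lit 61), (nat_lit 2), (nat_lit 1), (nat_lit 4)⟩) (BT.node (nat_lit 627) (BT.leaf ⟨[(nat_lit 0), (nat_lit 6), (nat_lit 5), (nat_lit 1), (nat_lit 5), (nat_lit 1), (nat_lit 6), (nat_lit 2), (nat_lit 5), (nat_lit 2), (nat_lit 5)], (nat_lit 24), (nat_lit 5), (nat_lit 1), (nat_lit 4)⟩) (BT.leaf ⟨[(nat_lit 6), (nat_lit 5), (nat_lit 4), (nat_lit 2), (nat_lit 6), (nat_lit 5), (nat_lit 4), (nat_lit 2), (nat_lit 6), (nat_lit 5), (nat_lit 4), (nat_lit 2), (nat_lit 6), (nat_lit 5), (nat_lit 4), (nat_lit 2), (nat_lit 6), (nat_lit 5), (nat_lit 4), (nat_lit 2)], (nat_lit 60), (nat_lit 1), (nat_lit 0), (nat_lit 4)⟩)))))) (BT.node (nat_lit 639) (BT.node (nat_lit 633) (BT.node (nat_lit 630) (BT.node (nat_lit 629) (BT.leaf ⟨[(nat_lit 0), (nat_lit 7), (nat_lit 4), (nat_lit 7), (nat_lit 4)], (nat_lit 13), (nat_lit 1), (nat_lit 1), (nat_lit 4)⟩) (BT.leaf ⟨[(nat_lit 0), (nat_lit 6), (nat_lit 2), (nat_lit 6), (nat_lit 5), (nat_lit 6), (nat_lit 1), (nat_lit 6), (nat_lit 1), (nat_lit 5), (nat_lit 2)], (nat_lit 23), (nat_lit 2), (nat_lit 1), (nat_lit 4)⟩)) (BT.node (nat_lit 631) (BT.leaf ⟨[(nat_lit 0), (nat_lit 6), (nat_lit 7), (nat_lit 1), (nat_lit 7), (nat_lit 6), (nat_lit 1), (nat_lit 6), (nat_lit 1), (nat_lit 7), (nat_lit 6), (nat_lit 1)], (nat_lit 27), (nat_lit 4), (nat_lit 1), (nat_lit 4)⟩) (BT.node (nat_lit 632) (BT.leaf ⟨[(nat_lit 6), (nat_lit 1), (nat_lit 4), (nat_lit 5), (nat_lit 6), (nat_lit 1), (nat_lit 4), (nat_lit 5), (nat_lit 6), (nat_lit 1), (nat_lit 4), (nat_lit 5), (nat_lit 6), (nat_lit 1), (nat_lit 4), (nat_lit 5), (nat_lit 6), (nat_lit 1), (nat_lit 4), (nat_lit 5)], (nat_lit 25), (nat_lit 2), (nat_lit 0), (nat_lit 4)⟩) (BT.leaf ⟨[(nat_lit 5), (nat_lit 4), (nat_lit 2), (nat_lit 6), (nat_lit 5), (nat_lit 4), (nat_lit 2), (nat_lit 6), (nat_lit 5), (nat_lit 4), (nat_lit 2), (nat_lit 6), (nat_lit 5), (nat_lit 4), (nat_lit 2), (nat_lit 6), (nat_lit 5), (nat_lit 4), (nat_lit 2), (nat_lit 6)], (nat_lit 60), (nat_lit 2), (nat_lit 0), (nat_lit 4)⟩)))) (BT.node (nat_lit 636) (BT.node (nat_lit 634) (BT.leaf ⟨[(nat_lit 0), (nat_lit 1), (nat_lit 6), (nat_lit 1), (nat_lit 5), (nat_lit 2), (nat_lit 6), (nat_lit 2), (nat_lit 6), (nat_lit 5), (nat_lit 6)], (nat_lit 23), (nat_lit 7), (nat_lit 1), (nat_lit 4)⟩) (BT.node (nat_lit 635) (BT.leaf ⟨[(nat_lit 0), (nat_lit 4), (nat_lit 5), (nat_lit 4), (nat_lit 5), (nat_lit 4), (nat_lit 5)], (nat_lit 11), (nat_lit 0), (nat_lit 1), (nat_lit 3)⟩) (BT.leaf ⟨[(nat_lit 7), (nat_lit 2), (nat_lit 6), (nat_lit 2), (nat_lit 6), (nat_lit 7), (nat_lit 2), (nat_lit 7), (nat_lit 6), (nat_lit 2), (nat_lit 6)], (nat_lit 62), (nat_lit 9), (nat_lit 0), (nat_lit 4)⟩))) (BT.node (nat_lit 637) (BT.leaf ⟨[(nat_lit 0), (nat_lit 5), (nat_lit 1), (nat_lit 5), (nat_lit 1), (nat_lit 6), (nat_lit 2), (nat_lit 5), (nat_lit 2), (nat_lit 5), (nat_lit 6)], (nat_lit 24), (nat_lit 6), (nat_lit 1), (nat_lit 3)⟩) (BT.node (nat_lit 638) (BT.leaf ⟨[(nat_lit 0), (nat_lit 6), (nat_lit 5), (nat_lit 6), (nat_lit 1), (nat_lit 6), (nat_lit 1), (nat_lit 5), (nat_lit 2), (nat_lit 6), (nat_lit 2)], (nat_lit 23), (nat_lit 4), (nat_lit 1), (nat_lit 4)⟩) (BT.leaf ⟨[(nat_lit 0), (nat_lit 1), (nat_lit 6), (nat_lit 2), (nat_lit 5), (nat_lit 2), (nat_lit 5), (nat_lit 6), (nat_lit 5), (nat_lit 1), (nat_lit 5)], (nat_lit 24), (nat_lit 9), (nat_lit 1), (nat_lit 4)⟩))))) (BT.node (nat_lit 644) (BT.node (nat_lit 641) (BT.node (nat_lit 640) (BT.leaf ⟨[(nat_lit 0), (nat_lit 8), (nat_lit 5), (nat_lit 8), (nat_lit 5)], (nat_lit 17), (nat_lit 1), (nat_lit 1), (nat_lit 5)⟩) (BT.leaf ⟨[(nat_lit 0), (nat_lit 8), (nat_lit 2), (nat_lit 2), (nat_lit 3)], (nat_lit 21), (nat_lit 1), (nat_lit 1), (nat_lit 3)⟩)) (BT.node (nat_lit 642) (BT.leaf ⟨[(nat_lit 0), (nat_lit 1), (nat_lit 5), (nat_lit 2), (nat_lit 6), (nat_lit 2), (nat_lit 6), (nat_lit 5), (nat_lit 6), (nat_lit 1), (nat_lit 6)], (nat_lit 23), (nat_lit 9), (nat_lit 1), (nat_lit 4)⟩) (BT.node (nat_lit 643) (BT.leaf ⟨[(nat_lit 0), (nat_lit 1), (nat_lit 6), (nat_lit 7), (nat_lit 1), (nat_lit 7), (nat_lit 6), (nat_lit 1), (nat_lit 6), (nat_lit 1), (nat_lit 7), (nat_lit 6)], (nat_lit 27), (nat_lit 3), (nat_lit 1), (nat_lit 4)⟩) (BT.leaf ⟨[(nat_lit 5), (nat_lit 6), (nat_lit 1), (nat_lit 4), (nat_lit 5), (nat_lit 6), (nat_lit 1), (nat_lit 4), (nat_lit 5), (nat_lit 6), (nat_lit 1), (nat_lit 4), (nat_lit 5), (nat_lit 6), (nat_lit 1), (nat_lit 4), (nat_lit 5), (nat_lit 6), (nat_lit 1), (nat_lit 4)], (nat_lit 25), (nat_lit 1), (nat_lit 0), (nat_lit 4)⟩)))) (BT.node (nat_lit 647) (BT.node (nat_lit 645) (BT.leaf ⟨[(nat_lit 0), (nat_lit 6), (nat_lit 1), (nat_lit 7), (nat_lit 6), (nat_lit 1), (nat_lit 6), (nat_lit 7), (nat_lit 1), (nat_lit 7), (nat_lit 6), (nat_lit 1)], (nat_lit 27), (nat_lit 10), (nat_lit 1), (nat_lit 3)⟩) (BT.node (nat_lit 646) (BT.leaf ⟨[(nat_lit 6), (nat_lit 5), (nat_lit 6), (nat_lit 5), (nat_lit 3), (nat_lit 8), (nat_lit 6), (nat_lit 5), (nat_lit 6), (nat_lit 5)], (nat_lit 22), (nat_lit 6), (nat_lit 0), (nat_lit 4)⟩) (BT.leaf ⟨[(nat_lit 6), (nat_lit 5), (nat_lit 6), (nat_lit 5), (nat_lit 6), (nat_lit 5), (nat_lit 6), (nat_lit 5), (nat_lit 3), (nat_lit 8)], (nat_lit 22), (nat_lit 2), (nat_lit 0), (nat_lit 4)⟩))) (BT.node (nat_lit 648) (BT.leaf ⟨[(nat_lit 0), (nat_lit 6), (nat_lit 1), (nat_lit 7), (nat_lit 6), (nat_lit 1), (nat_lit 6), (nat_lit 7), (nat_lit 1), (nat_lit 7), (nat_lit 6), (nat_lit 1)], (nat_lit 27), (nat_lit 10), (nat_lit 1), (nat_lit 4)⟩) (BT.node (nat_lit 649) (BT.leaf ⟨[(nat_lit 0), (nat_lit 1), (nat_lit 6), (nat_lit 1), (nat_lit 5), (nat_lit 2), (nat_lit 6), (nat_lit 2), (nat_lit 6), (nat_lit 5), (nat_lit 6)], (nat_lit 23), (nat_lit 7), (nat_lit 1), (nat_lit 3)⟩) (BT.leaf ⟨[(nat_lit 0), (nat_lit 1), (nat_lit 4), (nat_lit 5), (nat_lit 6), (nat_lit 1), (nat_lit 4), (nat_lit 5), (nat_lit 6), (nat_lit 1), (nat_lit 4), (nat_lit 5), (nat_lit 6), (nat_lit 1), (nat_lit 4), (nat_lit 5), (nat_lit 6), (nat_lit 1), (nat_lit 4), (nat_lit 5), (nat_lit 6)], (nat_lit 25), (nat_lit 3), (nat_lit 1), (nat_lit 5)⟩))))))) (BT.node (nat_lit 672) (BT.node (nat_lit 661) (BT.node (nat_lit 655) (BT.node (nat_lit 652) (BT.node (nat_lit 651) (BT.leaf ⟨[(nat_lit 0), (nat_lit 7), (nat_lit 5), (nat_lit 7), (nat_lit 5)], (nat_lit 16), (nat_lit 1), (nat_lit 1), (nat_lit 5)⟩) (BT.leaf ⟨[(nat_lit 0), (nat_lit 5), (nat_lit 7), (nat_lit 5), (nat_lit 7)], (nat_lit 16), (nat_lit 0), (nat_lit 1), (nat_lit 5)⟩)) (BT.node (nat_lit 653) (BT.leaf ⟨[(nat_lit 0), (nat_lit 8), (nat_lit 2), (nat_lit 2), (nat_lit 3)], (nat_lit 21), (nat_lit 1), (nat_lit 1), (nat_lit 5)⟩) (BT.node (nat_lit 654) (BT.leaf ⟨[(nat_lit 0), (nat_lit 3), (nat_lit 8), (nat_lit 3), (nat_lit 8)], (nat_lit 10), (nat_lit 0), (nat_lit 1), (nat_lit 5)⟩) (BT.leaf ⟨[(nat_lit 0), (nat_lit 8), (nat_lit 3), (nat_lit 8), (nat_lit 3)], (nat_lit 10), (nat_lit 1), (nat_lit 1), (nat_lit 4)⟩)))) (BT.node (nat_lit 658) (BT.node (nat_lit 656) (BT.leaf ⟨[(nat_lit 0), (nat_lit 3), (nat_lit 1), (nat_lit 1), (nat_lit 8)], (nat_lit 56), (nat_lit 3), (nat_lit 1), (nat_lit 3)⟩) (BT.node (nat_lit 657) (BT.leaf ⟨[(nat_lit 0), (nat_lit 4), (nat_lit 5), (nat_lit 4), (nat_lit 5), (nat_lit 4), (nat_lit 5)], (nat_lit 11), (nat_lit 0), (nat_lit 1), (nat_lit 5)⟩) (BT.leaf ⟨[(nat_lit 0), (nat_lit 7), (nat_lit 6), (nat_lit 7), (nat_lit 6), (nat_lit 7), (nat_lit 6)], (nat_lit 18), (nat_lit 1), (nat_lit 1), (nat_lit 5)⟩))) (BT.node (nat_lit 659) (BT.leaf ⟨[(nat_lit 0), (nat_lit 6), (nat_lit 7), (nat_lit 6), (nat_lit 7), (nat_lit 6), (nat_lit 7)], (nat_lit 18), (nat_lit 0), (nat_lit 1), (nat_lit 5)⟩) (BT.node (nat_lit 660) (BT.leaf ⟨[(nat_lit 0), (nat_lit 5), (nat_lit 4), (nat_lit 5), (nat_lit 4), (nat_lit 5), (nat_lit 4)], (nat_lit 11), (nat_lit 1), (nat_lit 1), (nat_lit 5)⟩) (BT.leaf ⟨[(nat_lit 0), (nat_lit 7), (nat_lit 6), (nat_lit 7), (nat_lit 6), (nat_lit 7), (nat_lit 6)], (nat_lit 18), (nat_lit 1), (nat_lit 1), (nat_lit 3)⟩))))) (BT.node (nat_lit 666) (BT.node (nat_lit 663) (BT.node (nat_lit 662) (BT.leaf ⟨[(nat_lit 0), (nat_lit 6), (nat_lit 5), (nat_lit 1), (nat_lit 5), (nat_lit 1), (nat_lit 6), (nat_lit 2), (nat_lit 5), (nat_lit 2), (nat_lit 5)], (nat_lit 24), (nat_lit 5), (nat_lit 1), (nat_lit 3)⟩) (BT.leaf ⟨[(nat_lit 0), (nat_lit 5), (nat_lit 6), (nat_lit 5), (nat_lit 6), (nat_lit 8), (nat_lit 3), (nat_lit 5), (nat_lit 6), (nat_lit 5), (nat_lit 6)], (nat_lit 57), (nat_lit 4), (nat_lit 1), (nat_lit 5)⟩)) (BT.node (nat_lit 664) (BT.leaf ⟨[(nat_lit 0), (nat_lit 6), (nat_lit 1), (nat_lit 6), (nat_lit 1), (nat_lit 5), (nat_lit 2), (nat_lit 6), (nat_lit 2), (nat_lit 6), (nat_lit 5)], (nat_lit 23), (nat_lit 6), (nat_lit 1), (nat_lit 5)⟩) (BT.node (nat_lit 665) (BT.leaf ⟨[(nat_lit 0), (nat_lit 6), (nat_lit 5), (nat_lit 6), (nat_lit 5), (nat_lit 6), (nat_lit 5), (nat_lit 3), (nat_lit 8), (nat_lit 6), (nat_lit 5)], (nat_lit 22), (nat_lit 4), (nat_lit 1), (nat_lit 3)⟩) (BT.leaf ⟨[(nat_lit 3), (nat_lit 8), (nat_lit 6), (nat_lit 5), (nat_lit 6), (nat_lit 5), (nat_lit 6), (nat_lit 5), (nat_lit 6), (nat_lit 5)], (nat_lit 22), (nat_lit 0), (nat_lit 0), (nat_lit 5)⟩)))) (BT.node (nat_lit 669) (BT.node (nat_lit 667) (BT.leaf ⟨[(nat_lit 0), (nat_lit 5), (nat_lit 6), (nat_lit 5), (nat_lit 6), (nat_lit 5), (nat_lit 6), (nat_lit 5), (nat_lit 3), (nat_lit 8), (nat_lit 6)], (nat_lit 22), (nat_lit 3), (nat_lit 1), (nat_lit 5)⟩) (BT.node (nat_lit 668) (BT.leaf ⟨[(nat_lit 6), (nat_lit 5), (nat_lit 6), (nat_lit 8), (nat_lit 3), (nat_lit 5), (nat_lit 6), (nat_lit 5), (nat_lit 6), (nat_lit 5)], (nat_lit 57), (nat_lit 5), (nat_lit 0), (nat_lit 5)⟩) (BT.leaf ⟨[(nat_lit 0), (nat_lit 6), (nat_lit 5), (nat_lit 6), (nat_lit 5), (nat_lit 3), (nat_lit 8), (nat_lit 6), (nat_lit 5), (nat_lit 6), (nat_lit 5)], (nat_lit 22), (nat_lit 6), (nat_lit 1), (nat_lit 5)⟩))) (BT.node (nat_lit 670) (BT.leaf ⟨[(nat_lit 6), (nat_lit 8), (nat_lit 3), (nat_lit 5), (nat_lit 6), (nat_lit 5), (nat_lit 6), (nat_lit 5), (nat_lit 6), (nat_lit 5)], (nat_lit 57), (nat_lit 7), (nat_lit 0), (nat_lit 5)⟩) (BT.node (nat_lit 671) (BT.leaf ⟨[(nat_lit 3), (nat_lit 5), (nat_lit 6), (nat_lit 5), (nat_lit 6), (nat_lit 5), (nat_lit 6), (nat_lit 5), (nat_lit 6), (nat_lit 8)], (nat_lit 57), (nat_lit 9), (nat_lit 0), (nat_lit 5)⟩) (BT.leaf ⟨[(nat_lit 8), (nat_lit 3), (nat_lit 5), (nat_lit 6), (nat_lit 5), (nat_lit 6), (nat_lit 5), (nat_lit 6), (nat_lit 5), (nat_lit 6)], (nat_lit 57), (nat_lit 8), (nat_lit 0), (nat_lit 5)⟩)))))) (BT.node (nat_lit 683) (BT.node (nat_lit 677) (BT.node (nat_lit 674) (BT.node (nat_lit 673) (BT.leaf ⟨[(nat_lit 0), (nat_lit 6), (nat_lit 1), (nat_lit 5), (nat_lit 2), (nat_lit 6), (nat_lit 2), (nat_lit 6), (nat_lit 5), (nat_lit 6), (nat_lit 1)], (nat_lit 23), (nat_lit 8), (nat_lit 1), (nat_lit 5)⟩) (BT.leaf ⟨[(nat_lit 8), (nat_lit 6), (nat_lit 5), (nat_lit 6), (nat_lit 5), (nat_lit 6), (nat_lit 5), (nat_lit 6), (nat_lit 5), (nat_lit 3)], (nat_lit 22), (nat_lit 1), (nat_lit 0), (nat_lit 5)⟩)) (BT.node (nat_lit 675) (BT.leaf ⟨[(nat_lit 0), (nat_lit 5), (nat_lit 1), (nat_lit 5), (nat_lit 1), (nat_lit 6), (nat_lit 2), (nat_lit 5), (nat_lit 2), (nat_lit 5), (nat_lit 6)], (nat_lit 24), (nat_lit 6), (nat_lit 1), (nat_lit 5)⟩) (BT.node (nat_lit 676) (BT.leaf ⟨[(nat_lit 0), (nat_lit 5), (nat_lit 6), (nat_lit 1), (nat_lit 6), (nat_lit 1), (nat_lit 5), (nat_lit 2), (nat_lit 6), (nat_lit 2), (nat_lit 6)], (nat_lit 23), (nat_lit 5), (nat_lit 1), (nat_lit 5)⟩) (BT.leaf ⟨[(nat_lit 0), (nat_lit 1), (nat_lit 6), (nat_lit 1), (nat_lit 5), (nat_lit 2), (nat_lit 6), (nat_lit 2), (nat_lit 6), (nat_lit 5), (nat_lit 6)], (nat_lit 23), (nat_lit 7), (nat_lit 1), (nat_lit 5)⟩)))) (BT.node (nat_lit 680) (BT.node (nat_lit 678) (BT.leaf ⟨[(nat_lit 0), (nat_lit 5), (nat_lit 6), (nat_lit 5), (nat_lit 6), (nat_lit 5), (nat_lit 6), (nat_lit 5), (nat_lit 3), (nat_lit 8), (nat_lit 6)], (nat_lit 22), (nat_lit 3), (nat_lit 1), (nat_lit 3)⟩) (BT.node (nat_lit 679) (BT.leaf ⟨[(nat_lit 0), (nat_lit 5), (nat_lit 6), (nat_lit 5), (nat_lit 3), (nat_lit 8), (nat_lit 6), (nat_lit 5), (nat_lit 6), (nat_lit 5), (nat_lit 6)], (nat_lit 22), (nat_lit 7), (nat_lit 1), (nat_lit 3)⟩) (BT.leaf ⟨[(nat_lit 0), (nat_lit 3), (nat_lit 8), (nat_lit 6), (nat_lit 5), (nat_lit 6), (nat_lit 5), (nat_lit 6), (nat_lit 5), (nat_lit 6), (nat_lit 5)], (nat_lit 22), (nat_lit 0), (nat_lit 1), (nat_lit 5)⟩))) (BT.node (nat_lit 681) (BT.leaf ⟨[(nat_lit 0), (nat_lit 5), (nat_lit 6), (nat_lit 8), (nat_lit 3), (nat_lit 5), (nat_lit 6), (nat_lit 5), (nat_lit 6), (nat_lit 5), (nat_lit 6)], (nat_lit 57), (nat_lit 6), (nat_lit 1), (nat_lit 5)⟩) (BT.node (nat_lit 682) (BT.leaf ⟨[(nat_lit 0), (nat_lit 5), (nat_lit 3), (nat_lit 8), (nat_lit 6), (nat_lit 5), (nat_lit 6), (nat_lit 5), (nat_lit 6), (nat_lit 5), (nat_lit 6)], (nat_lit 22), (nat_lit 9), (nat_lit 1), (nat_lit 5)⟩) (BT.leaf ⟨[(nat_lit 0), (nat_lit 6), (nat_lit 1), (nat_lit 5), (nat_lit 2), (nat_lit 6), (nat_lit 2), (nat_lit 6), (nat_lit 5), (nat_lit 6), (nat_lit 1)], (nat_lit 23), (nat_lit 8), (nat_lit 1), (nat_lit 3)⟩))))) (BT.node (nat_lit 688) (BT.node (nat_lit 685) (BT.node (nat_lit 684) (BT.leaf ⟨[(nat_lit 0), (nat_lit 6), (nat_lit 5), (nat_lit 6), (nat_lit 5), (nat_lit 6), (nat_lit 8), (nat_lit 3), (nat_lit 5), (nat_lit 6), (nat_lit 5)], (nat_lit 57), (nat_lit 3), (nat_lit 1), (nat_lit 5)⟩) (BT.leaf ⟨[(nat_lit 0), (nat_lit 5), (nat_lit 6), (nat_lit 5), (nat_lit 6), (nat_lit 5), (nat_lit 6), (nat_lit 8), (nat_lit 3), (nat_lit 5), (nat_lit 6)], (nat_lit 57), (nat_lit 2), (nat_lit 1), (nat_lit 5)⟩)) (BT.node (nat_lit 686) (BT.leaf ⟨[(nat_lit 0), (nat_lit 5), (nat_lit 6), (nat_lit 5), (nat_lit 3), (nat_lit 8), (nat_lit 6), (nat_lit 5), (nat_lit 6), (nat_lit 5), (nat_lit 6)], (nat_lit 22), (nat_lit 7), (nat_lit 1), (nat_lit 5)⟩) (BT.node (nat_lit 687) (BT.leaf ⟨[(nat_lit 0), (nat_lit 6), (nat_lit 8), (nat_lit 3), (nat_lit 5), (nat_lit 6), (nat_lit 5), (nat_lit 6), (nat_lit 5), (nat_lit 6), (nat_lit 5)], (nat_lit 57), (nat_lit 7), (nat_lit 1), (nat_lit 5)⟩) (BT.leaf ⟨[(nat_lit 0), (nat_lit 5), (nat_lit 6), (nat_lit 5), (nat_lit 6), (nat_lit 5), (nat_lit 3), (nat_lit 8), (nat_lit 6), (nat_lit 5), (nat_lit 6)], (nat_lit 22), (nat_lit 5), (nat_lit 1), (nat_lit 5)⟩)))) (BT.node (nat_lit 691) (BT.node (nat_lit 689) (BT.leaf ⟨[(nat_lit 0), (nat_lit 6), (nat_lit 5), (nat_lit 6), (nat_lit 5), (nat_lit 6), (nat_lit 5), (nat_lit 3), (nat_lit 8), (nat_lit 6), (nat_lit 5)], (nat_lit 22), (nat_lit 4), (nat_lit 1), (nat_lit 5)⟩) (BT.node (nat_lit 690) (BT.leaf ⟨[(nat_lit 0), (nat_lit 7), (nat_lit 6), (nat_lit 7), (nat_lit 6), (nat_lit 7), (nat_lit 6)], (nat_lit 18), (nat_lit 1), (nat_lit 1), (nat_lit 4)⟩) (BT.leaf ⟨[(nat_lit 0), (nat_lit 1), (nat_lit 5), (nat_lit 1), (nat_lit 6), (nat_lit 2), (nat_lit 5), (nat_lit 2), (nat_lit 5), (nat_lit 6), (nat_lit 5)], (nat_lit 24), (nat_lit 7), (nat_lit 1), (nat_lit 3)⟩))) (BT.node (nat_lit 692) (BT.leaf ⟨[(nat_lit 0), (nat_lit 6), (nat_lit 5), (nat_lit 6), (nat_lit 5), (nat_lit 6), (nat_lit 5), (nat_lit 6), (nat_lit 5), (nat_lit 3), (nat_lit 8)], (nat_lit 22), (nat_lit 2), (nat_lit 1), (nat_lit 5)⟩) (BT.node (nat_lit 693) (BT.leaf ⟨[(nat_lit 0), (nat_lit 6), (nat_lit 5), (nat_lit 3), (nat_lit 8), (nat_lit 6), (nat_lit 5), (nat_lit 6), (nat_lit 5), (nat_lit 6), (nat_lit 5)], (nat_lit 22), (nat_lit 8), (nat_lit 1), (nat_lit 3)⟩) (BT.leaf ⟨[(nat_lit 0), (nat_lit 5), (nat_lit 6), (nat_lit 1), (nat_lit 6), (nat_lit 1), (nat_lit 5), (nat_lit 2), (nat_lit 6), (nat_lit 2), (nat_lit 6)], (nat_lit 23), (nat_lit 5), (nat_lit 1), (nat_lit 3)⟩)))))))))))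
noncomputable def e1_hcs : List CW := [⟨[(nat_lit 3)], (nat_lit 0), (nat_lit 0), (nat_lit 0), (nat_lit 0)⟩, ⟨[(nat_lit 4)], (nat_lit 1), (nat_lit 0), (nat_lit 0), (nat_lit 0)⟩, ⟨[(nat_lit 5)], (nat_lit 2), (nat_lit 0), (nat_lit 0), (nat_lit 0)⟩, ⟨[(nat_lit 6)], (nat_lit 3), (nat_lit 0), (nat_lit 0), (nat_lit 0)⟩, ⟨[(nat_lit 7)], (nat_lit 4), (nat_lit 0), (nat_lit 0), (nat_lit 0)⟩, ⟨[(nat_lit 8)], (nat_lit 5), (nat_lit 0), (nat_lit 0), (nat_lit 0)⟩, ⟨[(nat_lit 3)], (nat_lit 6), (nat_lit 0), (nat_lit 0), (nat_lit 0)⟩, ⟨[(nat_lit 4)], (nat_lit 7), (nat_lit 0), (nat_lit 0), (nat_lit 0)⟩, ⟨[(nat_lit 5)], (nat_lit 8), (nat_lit 0), (nat_lit 0), (nat_lit 0)⟩, ⟨[(nat_lit 6)], (nat_lit 9), (nat_lit 0), (nat_lit 0), (nat_lit 0)⟩, ⟨[(nat_lit 7)], (nat_lit 10), (nat_lit 0), (nat_lit 0), (nat_lit 0)⟩, ⟨[(nat_lit 8)], (nat_lit 11), (nat_lit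 0), (nat_lit 0), (nat_lit 0)⟩]
noncomputable def e1_H (x j : Nat) : Bx (Nat → Nat → Nat) := mkH e1_L e1_pb.1 e1_e.get (lmap CW.w e1_hcs) (nat_lit 122760) (nat_lit 122761) (nat_lit 9) (nat_lit 262144) (nat_lit 268435456) (nat_lit 16777215) x (e1_rots.get j)
noncomputable def e1_F (x b : Nat) : Bool := blkOK e1_H e1_ch (nat_lit 122761) (nat_lit 262144) (nat_lit 1024) (nat_lit 8) (nat_lit 255) (nat_lit 39) (nat_lit 0x7fffffffff) x b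

end CF.Comp.ON
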